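import Cfsg.Agent.Lib.Fusion.CentralLift.Iso

/-!
The kernel is central in the automiser modulo inner automorphisms.
-/

set_option autoImplicit false
set_option linter.unusedSectionVars false
set_option linter.style.haveILetI false

namespace Cfsg.FusionSystem.CentralLift

open Cfsg.FusionSystem.SubCent

universe u v

variable {Ω : Type u} [Group Ω] {Ω' : Type v} [Group Ω'] {S Z : Subgroup Ω} {S' T' : Subgroup Ω'}
  {θ : S →* Ω'} {D : FusionSystem S} {Db : FusionSystem S'} {Eb : FusionSystem T'} {p : ℕ}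

local notation "𝕋" => preimageAlong θ T'

/-- The elements of `S` normalising `R` and inducing the identity on it modulo `Z`. -/
def centMod (D : FusionSystem S) (Z R : Subgroup Ω) : Subgroup Ω :=
  S ⊓ ((autK D Z R).comap R.normalizerMonoidHom).map (Subgroup.normalizer (R : Set Ω)).subtype

theorem mem_centMod {R : Subgroup Ω} {s : Ω} :
    s ∈ centMod D Z R ↔ s ∈ S ∧ ∃ hn : s ∈ Subgroup.normalizer (R : Set Ω), cAut R s hn ∈ autK D Z R := by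
  constructor
  · rintro ⟨hs, ⟨x, hn⟩, hx, rfl⟩
    exact ⟨hs, hn, hx⟩
  · rintro ⟨hs, hn, hx⟩
    exact ⟨hs, ⟨s, hn⟩, hx, rfl⟩

/-- The kernel is central in the automiser modulo inner automorphisms. -/
def IsCentralAt (θ : S →* Ω') (D : FusionSystem S) (Z : Subgroup Ω) (Eb : FusionSystem T') (R : Subgroup Ω) :
    Prop :=
  ∀ α ∈ autM θ D Z Eb R, ∀ k ∈ autK D Z R, α * k * α⁻¹ * k⁻¹ ∈ Inn R

namespace Ctx

variable (c : Ctx p D Z θ Db Eb)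
include c

variable [Finite S] [Fact p.Prime] {P Q R M : Subgroup Ω} {f g h : Ω → Ω}

theorem exists_move (hR : R ≤ S) :
    ∃ (R₁ N' : Subgroup Ω) (h : Ω → Ω), D.IsFullyNormalized R₁ ∧ D.IsIso R R₁ h ∧
      D.IsIso (normalizerIn S R) N' h := by
  obtain ⟨R₁, hRR₁, hR₁⟩ := D.exists_isFullyNormalized hR
  obtain ⟨φ, hφ, hr, ψ, hψ, -, hψe⟩ := c.hD.exists_map_to_fullyNormalized c.hS hR₁ hRR₁
  refine ⟨R₁, ψ.range, funOf ψ, hR₁, ⟨φ, hφ, hr, fun x => ?_⟩, isIso_funOf hψ⟩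
  rw [← hψe x (le_normalizerIn hR x.2)]
  exact funOf_apply ψ _

theorem isCentralAt_of_iso (hZ : Z ≤ R) (hR : R ≤ 𝕋) {R₁ : Subgroup Ω} (hh : D.IsIso R R₁ h)
    (h₁ : IsCentralAt θ D Z Eb R₁) : IsCentralAt θ D Z Eb R := by
  intro α hα k hk
  obtain ⟨Φ, hΦ⟩ := exists_transp hh
  obtain ⟨g, hg, hgl, -⟩ := hh.symm
  have h2 := c.transp_inn hg (hΦ.symm hh hgl) (h₁ _ (c.transp_autM hZ hR hh hΦ hα) _ (c.transp_autK hZ hh hΦ hk))
  simpa using h2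

/-- Conjugation by a normalised element, read through a map. -/
theorem cAut_conj_of_iso {N N' : Subgroup Ω} {b : Ω → Ω} (hb : D.IsIso N N' b) (hRN : R ≤ N) {n : MulAut R}
    (hbn : ∀ r : R, b r = ((n r : R) : Ω)) {x : Ω} (hx : x ∈ N) (hxn : x ∈ Subgroup.normalizer (R : Set Ω)) :
    ∃ hn : b x ∈ Subgroup.normalizer (R : Set Ω), cAut R (b x) hn = n * cAut R x hxn * n⁻¹ := by
  have hn : b x ∈ Subgroup.normalizer (R : Set Ω) := hb.mem_normalizer hRN (fun y =>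
    ⟨fun hy => ⟨_, (n⁻¹ ⟨y, hy⟩).2, by rw [hbn]; simp⟩,
      fun ⟨z, hz, e⟩ => e ▸ hbn ⟨z, hz⟩ ▸ SetLike.coe_mem _⟩) hx hxn
  refine ⟨hn, MulEquiv.ext fun r => ?_⟩
  obtain ⟨r', rfl⟩ := n.surjective r
  apply Subtype.ext
  rw [MulAut.mul_apply, MulAut.mul_apply, MulAut.inv_apply_self, cAut_apply, ← hbn, ← hbn, cAut_apply,
    hb.apply_conj hx (hRN r'.2)]

theorem inner_kernel_comm (hR : InH θ Z Eb R) (hn : D.IsFullyNormalized R) {k : MulAut R}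
    (hk : k ∈ autK D Z R) {w : MulAut R} (hw : w ∈ autInducedBy 𝕋 R) : w * k * w⁻¹ * k⁻¹ ∈ Inn R := by
  obtain ⟨t, ht, htn, hte⟩ := mem_autInducedBy_iff.mp hw
  have hw' : w = cAut R t htn := MulEquiv.ext fun x => Subtype.ext (hte x)
  obtain ⟨s, hs, hsn, hse⟩ := mem_autInducedBy_iff.mp (c.autK_le_autInduced hn hk)
  have hk' : k = cAut R s hsn := MulEquiv.ext fun x => Subtype.ext (hse x)
  have hu : t * (s * t⁻¹ * s⁻¹) ∈ 𝕋 :=
    Subgroup.mul_mem _ ht (c.T_closed.conj_mem_of_mem hs (Subgroup.inv_mem _ ht))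
  have hun : t * (s * t⁻¹ * s⁻¹) ∈ Subgroup.normalizer (R : Set Ω) :=
    Subgroup.mul_mem _ htn (Subgroup.mul_mem _ (Subgroup.mul_mem _ hsn (Subgroup.inv_mem _ htn))
      (Subgroup.inv_mem _ hsn))
  have he : w * k * w⁻¹ * k⁻¹ = cAut R (t * (s * t⁻¹ * s⁻¹)) hun := by
    rw [hw', hk']
    show _ = R.normalizerMonoidHom ((⟨t, htn⟩ : Subgroup.normalizer (R : Set Ω)) * (⟨s, hsn⟩ * ⟨t, htn⟩⁻¹ * ⟨s, hsn⟩⁻¹))
    simp only [map_mul, map_inv, mul_assoc]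
  have hK : w * k * w⁻¹ * k⁻¹ ∈ autK D Z R :=
    Subgroup.mul_mem _ (c.autK_normal hR.le_S hk (c.autM_le hR.leT (c.autInduced_le_autM hR.leZ hR.leT hw)))
      (Subgroup.inv_mem _ hk)
  rw [he] at hK ⊢
  exact cAut_inn (c.cAut_autK_inn hR hu hun hK) hun

theorem autM_sylow (hR : InH θ Z Eb R) (hn : D.IsFullyNormalized R) :
    ∃ P : Sylow p (autM θ D Z Eb R),
      (P : Subgroup (autM θ D Z Eb R)) = (autInducedBy S R).subgroupOf (autM θ D Z Eb R) := by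
  haveI := finite_of_le hR.le_S
  haveI := finite_mulAut_of_le hR.le_S
  exact exists_sylow_subgroupOf (c.autM_le hR.leT)
    (fun g hg a ha => c.autM_normal hR.leZ hR.leT ha hg)
    (c.hD.isFullyAutomized_of_isFullyNormalized c.hS hn).2

theorem autM_inter' (hR : InH θ Z Eb R) (hn : D.IsFullyNormalized R) {α : MulAut R}
    (hα : α ∈ autM θ D Z Eb R) (h : α ∈ autInducedBy S R) :
    α ∈ autInducedBy 𝕋 R ⊔ autK D Z R := by
  obtain ⟨s, hs, hsn, hse⟩ := mem_autInducedBy_iff.mp h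
  have e : α = cAut R s hsn := MulEquiv.ext fun x => Subtype.ext (hse x)
  subst e
  obtain ⟨t, ht, htn, k, hk, e⟩ := c.autM_inter hR.leZ hR.leT hn hs hsn hα
  rw [e]
  exact Subgroup.mul_mem_sup (mem_autInducedBy_iff.mpr ⟨t, ht, htn, fun _ => rfl⟩) hk

/-- The case of the whole preimage. -/
theorem central_top : IsCentralAt θ D Z Eb 𝕋 := by
  intro α hα k hk
  have hT := c.inH_T
  haveI := c.finite'
  haveI := finite_mulAut_of_le (c.T_le : 𝕋 ≤ S)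
  have hn : D.IsFullyNormalized 𝕋 := isFullyNormalized_of_stronglyClosed c.T_closed
  obtain ⟨f, hf, hfe⟩ := (c.mem_autM hT.leZ le_rfl).mp hα
  obtain ⟨fb, hfb, hfbe⟩ := hf.ind
  rw [c.bar_pre c.Tb_closed.1] at hfb
  obtain ⟨αb, hαb, hαbe⟩ := hfb.toAut
  obtain ⟨fb', hL, hLe⟩ := autGroup_le_liftable c.hEb hαb
  set Vb := T' ⊔ centralizerIn S' T'
  have hVb : Vb ≤ S' := hL.iso.le_left
  set V := preimageAlong θ Vb
  obtain ⟨b, hb, hbe⟩ := c.exists_lift (P := V) (Q := V) preimageAlong_le (c.Z_le_pre _) preimageAlong_le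
    (c.Z_le_pre _) (by rw [c.bar_pre hVb]; exact hL.iso)
  have hTV : 𝕋 ≤ V := fun x hx => c.mem_pre.mpr ⟨c.T_le hx, Subgroup.mem_sup_left (c.mem_pre.mp hx).2⟩
  have hbT : D.IsIso 𝕋 𝕋 b := isIso_self hb hTV fun x hx => c.T_closed.iso_mem hb (hTV hx) hx
  obtain ⟨β, hβ, hβe⟩ := hbT.toAut
  have hmod : α⁻¹ * β ∈ autK D Z 𝕋 := by
    refine ⟨Subgroup.mul_mem _ (Subgroup.inv_mem _ (c.autM_le le_rfl hα)) hβ, fun x => ?_⟩
    have h1 : thetaF θ (f x) = thetaF θ (b x) := by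
      rw [← hbe _ (hTV x.2), ← hfbe _ x.2, ← hαbe ⟨_, (c.mem_pre.mp x.2).2⟩, hLe ⟨_, (c.mem_pre.mp x.2).2⟩]
    rw [c.thetaF_eq (hf.iso.le_right (hf.iso.mem x.2)) (hbT.le_right (hbT.mem x.2))] at h1
    have h2 : α⁻¹ ((α x)⁻¹ * β x) = x⁻¹ * (α⁻¹ * β) x := by simp [MulAut.mul_apply]
    have h3 : ((α x)⁻¹ * β x : ↥(𝕋)) = α⁻¹ ((α x)⁻¹ * β x) :=
      (c.aut_apply_Z c.T_le (Subgroup.inv_mem _ (c.autM_le le_rfl hα)) _ (by simpa [hfe, hβe] using h1)).symm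
    have h4 := congrArg Subtype.val (h3.trans h2)
    simp only [Subgroup.coe_mul, InvMemClass.coe_inv] at h4
    rw [← h4, hfe, hβe]
    exact h1
  obtain ⟨s, hs, hsn, hse⟩ := mem_autInducedBy_iff.mp (c.autK_le_autInduced hn hk)
  have hk' : k = cAut 𝕋 s hsn := MulEquiv.ext fun x => Subtype.ext (hse x)
  have hsC : thetaF θ s ∈ centralizerIn S' T' := by
    refine ⟨c.range_eq.le ⟨⟨s, hs⟩, (thetaF_apply hs).symm⟩, Subgroup.mem_centralizer_iff.mpr fun y hy => ?_⟩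
    obtain ⟨x, hx, rfl⟩ := (mem_bar c.T_le).mp ((c.bar_pre c.Tb_closed.1).ge hy)
    have := (c.cAut_mem_autK c.T_le hs hsn).mp (hk' ▸ hk) x hx
    rw [thetaF_conj hs (c.T_le hx)] at this
    exact (mul_inv_eq_iff_eq_mul.mp this).symm
  have hsV : s ∈ V := c.mem_pre.mpr ⟨hs, Subgroup.mem_sup_right hsC⟩
  have hr : s⁻¹ * b s ∈ 𝕋 := by
    refine c.mem_pre.mpr ⟨S.mul_mem (S.inv_mem hs) (hb.le_right (hb.mem hsV)), ?_⟩
    rw [thetaF_mul (S.inv_mem hs) (hb.le_right (hb.mem hsV)), thetaF_inv hs, ← hbe _ hsV]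
    exact hL.triv _ hsC
  obtain ⟨hbs, hbse⟩ := c.cAut_conj_of_iso hb hTV (fun r => (hβe r).symm) hsV hsn
  have hrn : s⁻¹ * b s ∈ Subgroup.normalizer ((𝕋 : Subgroup Ω) : Set Ω) :=
    Subgroup.mul_mem _ (Subgroup.inv_mem _ hsn) hbs
  have h5 : β * k * β⁻¹ = k * cAut 𝕋 (s⁻¹ * b s) hrn := by
    rw [hk', ← hbse, cAut_mul (Subgroup.inv_mem _ hsn) hbs]
    rw [show cAut 𝕋 s⁻¹ (Subgroup.inv_mem _ hsn) = (cAut 𝕋 s hsn)⁻¹ from
      map_inv (Subgroup.normalizerMonoidHom (𝕋 : Subgroup Ω)) ⟨s, hsn⟩, mul_inv_cancel_left]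
  obtain ⟨k₀, hk₀, e⟩ : ∃ k₀ ∈ autK D Z 𝕋, β = α * k₀ := ⟨_, hmod, by group⟩
  have h6 : α * k * α⁻¹ * k⁻¹ = β * k * β⁻¹ * k⁻¹ := by
    rw [e, mul_inv_rev]
    conv_rhs => rw [mul_assoc α k₀ k, c.autK_comm c.T_le hk₀ hk]
    group
  rw [h6, h5]
  have h7 : k * cAut 𝕋 (s⁻¹ * b s) hrn * k⁻¹ ∈ Inn (𝕋 : Subgroup Ω) :=
    (innNormal _).conj_mem _ (cAut_inn hr hrn) k
  exact h7

end Ctx

end Cfsg.FusionSystem.CentralLift
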