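import Cfsg.Agent.Lib.Fusion.CentralLift.Central

/-!
Centrality of the kernel at every centric subgroup, by induction on the order.
-/

set_option autoImplicit false
set_option linter.unusedSectionVars false
set_option linter.style.haveILetI false

namespace Cfsg.FusionSystem.CentralLift

open Cfsg.FusionSystem.SubCent
open Cfsg.FusionSystem.CoreCent (exists_iterate_pprime)

universe u v

variable {Ω : Type u} [Group Ω] {Ω' : Type v} [Group Ω'] {S Z : Subgroup Ω} {S' T' : Subgroup Ω'}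
  {θ : S →* Ω'} {D : FusionSystem S} {Db : FusionSystem S'} {Eb : FusionSystem T'} {p : ℕ}

local notation "𝕋" => preimageAlong θ T'

namespace Ctx

variable (c : Ctx p D Z θ Db Eb)
include c

variable [Finite S] [Fact p.Prime] {P Q R M : Subgroup Ω} {f g h : Ω → Ω}

/-- The automorphisms of `M` inducing the identity on `R` modulo `Z` form a `p`-group. -/
theorem isPElement_of_trivial (hR : InH θ Z Eb R) (hRM : R ≤ M) (hM : M ≤ 𝕋)
    (hMn : M ≤ Subgroup.normalizer (R : Set Ω)) (U : Subgroup (MulAut M))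
    (hU : ∀ δ ∈ U, δ ∈ D.autGroup M ∧ ∀ (x : M), (x : Ω) ∈ R → (x : Ω)⁻¹ * ((δ x : M) : Ω) ∈ Z) :
    IsPGroup p U := by
  have hMS := hM.trans c.T_le
  haveI := finite_of_le hMS
  refine isPGroup_of_stabilises (c.hS.to_le hMS) (n := 3) ![⊥, Z.subgroupOf M, R.subgroupOf M, ⊤] rfl rfl _ ?_
  intro δ hδ i x hx
  obtain ⟨hδ', hδR⟩ := hU δ hδ
  fin_cases i
  · show x⁻¹ * δ x ∈ (⊥ : Subgroup M)
    rw [Subgroup.mem_bot, c.aut_apply_Z hMS hδ' x hx, inv_mul_cancel]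
  · exact Subgroup.mem_subgroupOf.mpr (by simpa using hδR x hx)
  · refine Subgroup.mem_subgroupOf.mpr ?_
    obtain ⟨d, hd, hde⟩ := isIso_of_aut hMS hδ'
    have hmem : ((x⁻¹ * δ x : M) : Ω) ∈ 𝕋 := hM (x⁻¹ * δ x).2
    refine c.mem_of_centMod hR hmem fun r hr => ?_
    simp only [Subgroup.coe_mul, InvMemClass.coe_inv, hde]
    have hxS : (x : Ω) ∈ S := hMS x.2
    have hdx : d x ∈ S := hd.le_right (hd.mem x.2)
    have hrS := hR.le_S hr
    have hr' : (x : Ω) * r * (x : Ω)⁻¹ ∈ R := (Subgroup.mem_normalizer_iff.mp (hMn x.2) r).mp hr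
    have hfix : ∀ y ∈ R, thetaF θ (d y) = thetaF θ y := fun y hy => by
      refine ((c.thetaF_eq (hR.le_S hy) (hd.le_right (hd.mem (hRM hy)))).mpr ?_).symm
      rw [← hde ⟨y, hRM hy⟩]
      exact hδR ⟨y, hRM hy⟩ hy
    have h1 := hfix _ hr'
    rw [hd.apply_conj x.2 (hRM hr), thetaF_conj hdx (hd.le_right (hd.mem (hRM hr))), thetaF_conj hxS hrS,
      hfix r hr] at h1
    rw [thetaF_conj (S.mul_mem (S.inv_mem hxS) hdx) hrS, thetaF_mul (S.inv_mem hxS) hdx, thetaF_inv hxS]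
    calc (thetaF θ (x : Ω))⁻¹ * thetaF θ (d x) * thetaF θ r * ((thetaF θ (x : Ω))⁻¹ * thetaF θ (d x))⁻¹
        = (thetaF θ (x : Ω))⁻¹ * (thetaF θ (d x) * thetaF θ r * (thetaF θ (d x))⁻¹) * thetaF θ (x : Ω) := by group
      _ = thetaF θ r := by rw [h1]; group

theorem normalizer_lt (hR : R ≤ 𝕋) (hne : R ≠ 𝕋) : R < normalizerIn 𝕋 R := by
  haveI := finite_of_le c.T_le
  exact lt_normalizerIn (c.hS.to_le c.T_le) (lt_of_le_of_ne hR hne)

/-- An automorphism of order prime to `p` extending one inducing a map of the subsystem. -/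
theorem autM_of_extension (hR : InH θ Z Eb R) (hn : D.IsFullyNormalized R) {α : MulAut R}
    (hα : α ∈ autM θ D Z Eb R) (hRM : R ≤ M) (hM : M ≤ normalizerIn 𝕋 R)
    (hW : ∀ t ∈ M, ∀ htn : t ∈ Subgroup.normalizer (R : Set Ω),
      α * cAut R t htn * α⁻¹ ∈ autInducedBy 𝕋 R)
    {β : MulAut M} (hβ : β ∈ D.autGroup M)
    (hord : ¬ p ∣ orderOf β)
    (he : ∀ (r : R) (hr : (r : Ω) ∈ M), ((β ⟨r, hr⟩ : M) : Ω) = (α r : R)) :
    β ∈ autM θ D Z Eb M := by
  have hMT : M ≤ 𝕋 := hM.trans normalizerIn_le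
  have hMn : M ≤ Subgroup.normalizer (R : Set Ω) := fun x hx => (hM hx).2
  have hMS := hMT.trans c.T_le
  have hMb : bar θ M ≤ normalizerIn T' (bar θ R) := (bar_mono hM).trans (c.bar_normalizerIn hR.le_S hR.leZ).le
  have hZM : Z ≤ M := hR.leZ.trans hRM
  haveI := c.finite'
  haveI := c.finiteT
  haveI := finite_of_le hMS
  haveI := finite_mulAut_of_le hMS
  obtain ⟨b, hb, hbe⟩ := isIso_of_aut hMS hβ
  obtain ⟨f, hf, hfe⟩ := (c.mem_autM hR.leZ hR.leT).mp hα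
  obtain ⟨fb, hfb, hfbe⟩ := hf.ind
  have hbf : ∀ r ∈ R, b r = f r := fun r hr => by
    rw [← hbe ⟨r, hRM hr⟩, he ⟨r, hr⟩, hfe]
  have hrec := c.sat.isReceptive_of_isFullyNormalized (c.isPGroup'.to_le c.Tb_closed.1)
    (c.bar_fullyNormalized hR.leZ hR.leT hn)
  obtain ⟨gb, N', hgb, hgbe⟩ := hrec.extend hfb (N := bar θ M) (c.bar_le_T hMT) (bar_mono hRM)
    (fun y hy => (hMb hy).2) (fun y hy => by
      obtain ⟨t, ht, rfl⟩ := (mem_bar hMS).mp hy
      obtain ⟨u, hu, hun, hue⟩ := mem_autInducedBy_iff.mp (hW t ht (hMn ht))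
      refine ⟨thetaF θ u, (c.mem_pre.mp hu).2, fun z hz => ?_⟩
      obtain ⟨x, hx, rfl⟩ := (mem_bar hR.le_S).mp hz
      have htx : t * x * t⁻¹ ∈ R := (Subgroup.mem_normalizer_iff.mp (hMn ht) x).mp hx
      have h := hue (α ⟨x, hx⟩)
      rw [MulAut.mul_apply, MulAut.mul_apply, MulAut.inv_apply_self,
        show cAut R t (hMn ht) ⟨x, hx⟩ = ⟨t * x * t⁻¹, htx⟩ from rfl, hfe, hfe] at h
      rw [← thetaF_conj (hMS ht) (hR.le_S hx), hfbe _ htx, hfbe x hx,
        ← thetaF_conj (c.T_le hu) (hR.le_S (hf.iso.mem hx))]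
      exact congrArg _ h)
  have hN' : N' = bar θ M := by
    haveI := finite_of_le (c.bar_le M)
    refine Subgroup.eq_of_le_of_card_ge ?_ hgb.card_eq.le
    intro y hy
    obtain ⟨z, hz, rfl⟩ := hgb.surj hy
    obtain ⟨t, ht, rfl⟩ := (mem_bar hMS).mp hz
    have hu : thetaF θ (b t) ∈ bar θ M := thetaF_mem_bar hMS (hb.mem ht)
    have key : (thetaF θ (b t))⁻¹ * gb (thetaF θ t) ∈ centralizerIn T' (bar θ R) := by
      refine ⟨Subgroup.mul_mem _ (Subgroup.inv_mem _ (c.bar_le_T hMT hu)) (hgb.le_right hy),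
        Subgroup.mem_centralizer_iff.mpr fun w hw => ?_⟩
      obtain ⟨v, hv, rfl⟩ := hfb.surj hw
      obtain ⟨x, hx, rfl⟩ := (mem_bar hR.le_S).mp hv
      have htx : t * x * t⁻¹ ∈ R := (Subgroup.mem_normalizer_iff.mp (hMn ht) x).mp hx
      have h1 : gb (thetaF θ t) * fb (thetaF θ x) * (gb (thetaF θ t))⁻¹ =
          thetaF θ (b t) * fb (thetaF θ x) * (thetaF θ (b t))⁻¹ := by
        rw [← hgbe _ hv, ← hgb.apply_conj hz (bar_mono hRM hv), ← thetaF_conj (hMS ht) (hR.le_S hx),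
          hgbe _ (thetaF_mem_bar hR.le_S htx), hfbe _ htx, hgbe _ hv, hfbe x hx, ← hbf _ htx, ← hbf x hx,
          hb.apply_conj ht (hRM hx), thetaF_conj (hb.le_right (hb.mem ht)) (hb.le_right (hb.mem (hRM hx)))]
      set a := gb (thetaF θ t)
      set u := thetaF θ (b t)
      set w := fb (thetaF θ x)
      calc w * (u⁻¹ * a) = u⁻¹ * (u * w * u⁻¹) * a := by group
        _ = u⁻¹ * a * w := by rw [← h1]; group
    have := (bar θ M).mul_mem hu (bar_mono hRM (hR.centric.centralizerIn_le_self key))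
    rwa [mul_inv_cancel_left] at this
  subst hN'
  obtain ⟨e, he', hee⟩ := c.exists_lift hMS hZM hMS hZM (hgb.mono c.invariant.1)
  have heM : MMap θ D Z Eb M M e := ⟨hZM, hMT, he', gb, hgb, hee⟩
  obtain ⟨ε, hε, hεe⟩ := he'.toAut
  have hεM : ε ∈ autM θ D Z Eb M := (c.mem_autM hZM hMT).mpr ⟨e, heM, hεe⟩
  have hmodR : ∀ r ∈ R, thetaF θ (e r) = thetaF θ (b r) := fun r hr => by
    rw [← hee r (hRM hr), hgbe _ (thetaF_mem_bar hR.le_S hr), hfbe r hr, ← hbe ⟨r, hRM hr⟩,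
      he ⟨r, hr⟩, hfe ⟨r, hr⟩]
  have hβR : ∀ y : M, (y : Ω) ∈ R → ((β y : M) : Ω) ∈ R := fun y hy => by
    have : y = ⟨((⟨y, hy⟩ : R) : Ω), hRM hy⟩ := rfl
    rw [this, he ⟨y, hy⟩]
    exact SetLike.coe_mem _
  let U : Subgroup (MulAut M) :=
    { carrier := {δ | δ ∈ D.autGroup M ∧ ∀ x : M, (x : Ω) ∈ R → (x : Ω)⁻¹ * ((δ x : M) : Ω) ∈ Z}
      one_mem' := ⟨Subgroup.one_mem _, fun x _ => by simp⟩
      mul_mem' := fun {a b} ha hb => ⟨Subgroup.mul_mem _ ha.1 hb.1, fun x hx => by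
        have h1 := hb.2 x hx
        have hbx : ((b x : M) : Ω) ∈ R := by
          have := R.mul_mem hx (hR.leZ h1)
          rwa [mul_inv_cancel_left] at this
        have := Z.mul_mem h1 (ha.2 _ hbx)
        simpa [MulAut.mul_apply, mul_assoc] using this⟩
      inv_mem' := fun {a} ha => ⟨Subgroup.inv_mem _ ha.1, fun x hx => by
        have hfix : a⁻¹ x = x * (x⁻¹ * a x)⁻¹ := by
          apply a.injective
          rw [MulAut.apply_inv_self, map_mul, map_inv,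
            c.aut_apply_Z hMS ha.1 (x⁻¹ * a x) (by simpa using ha.2 x hx)]
          group
        rw [hfix]
        have := Z.inv_mem (ha.2 x hx)
        simpa [mul_assoc] using this⟩ }
  have hδ : ε⁻¹ * β ∈ U := by
    have hεd := c.autM_le hMT hεM
    refine ⟨Subgroup.mul_mem _ (Subgroup.inv_mem _ hεd) hβ, fun x hx => ?_⟩
    have h1 : thetaF θ (e x) = thetaF θ (b x) := hmodR x hx
    rw [c.thetaF_eq (hMS (he'.mem x.2)) (hMS (hb.mem x.2))] at h1
    have h2 : ε⁻¹ ((ε x)⁻¹ * β x) = (ε x)⁻¹ * β x :=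
      c.aut_apply_Z hMS (Subgroup.inv_mem _ hεd) _ (by simpa [hεe, hbe] using h1)
    have h3 : x⁻¹ * (ε⁻¹ * β) x = (ε x)⁻¹ * β x := by
      rw [← h2]
      simp [MulAut.mul_apply]
    have h4 := congrArg Subtype.val h3
    simp only [Subgroup.coe_mul, InvMemClass.coe_inv] at h4
    rw [h4, hεe, hbe]
    exact h1
  obtain ⟨i, hi⟩ := c.isPElement_of_trivial hR hRM hMT hMn U (fun δ hδ => hδ) ⟨_, hδ⟩
  have hi' : (ε⁻¹ * β) ^ p ^ i = 1 := congrArg Subtype.val hi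
  have := mem_of_congr_pElement (p := p) (A := autM θ D Z Eb M) (a := ε) (d := ε⁻¹ * β)
    (fun y hy => c.autM_normal hZM hMT hy (Subgroup.mul_mem _ (Subgroup.inv_mem _ (c.autM_le hMT hεM)) hβ))
    hεM (by rwa [mul_inv_cancel_left]) hi'
  rwa [mul_inv_cancel_left] at this

/-- An element of order prime to `p` normalising the inner part extends over the centraliser modulo `Z`. -/
theorem exists_ext_prime (hR : InH θ Z Eb R) (hn : D.IsFullyNormalized R) {α : MulAut R}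
    (hα : α ∈ D.autGroup R) (hord : ¬ p ∣ orderOf α)
    (hW : ∀ w ∈ autInducedBy 𝕋 R, α * w * α⁻¹ ∈ autInducedBy 𝕋 R) :
    ∃ b, D.IsIso (normalizerIn 𝕋 R ⊔ centMod D Z R) (normalizerIn 𝕋 R ⊔ centMod D Z R) b ∧
      (∀ r : R, b r = (α r : R)) ∧ (∀ x ∈ normalizerIn 𝕋 R, b x ∈ normalizerIn 𝕋 R) ∧
      (∀ x ∈ centMod D Z R, b x ∈ centMod D Z R) ∧
      ∃ m : ℕ, ¬ p ∣ m ∧ ∀ x ∈ normalizerIn 𝕋 R ⊔ centMod D Z R, b^[m] x = x := by
  have hRS := hR.le_S
  haveI := finite_of_le hRS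
  haveI := finite_mulAut_of_le hRS
  set M := normalizerIn 𝕋 R
  set C := centMod D Z R
  have hMN : M ⊔ C ≤ normalizerIn S R := sup_le (fun x hx => ⟨c.T_le hx.1, hx.2⟩)
    fun x hx => ⟨(mem_centMod.mp hx).1, (mem_centMod.mp hx).2.1⟩
  let Good : Subgroup Ω := (((autInducedBy S R).comap (MulAut.conj α).toMonoidHom).comap
    R.normalizerMonoidHom).map (Subgroup.normalizer (R : Set Ω)).subtype
  have hgood : M ⊔ C ≤ Good := by
    refine sup_le (fun x hx => ⟨⟨x, hx.2⟩, ?_, rfl⟩) (fun x hx => ?_)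
    · exact autInducedBy_mono c.T_le
        (hW _ (mem_autInducedBy_iff.mpr ⟨x, hx.1, hx.2, fun _ => rfl⟩))
    · obtain ⟨hxS, hxn, hxK⟩ := mem_centMod.mp hx
      exact ⟨⟨x, hxn⟩, c.autK_le_autInduced hn (c.autK_normal hRS hxK hα), rfl⟩
  obtain ⟨ψ, hψ, hψe⟩ := exists_extension_of_normalizes (c.hD.isReceptive_of_isFullyNormalized c.hS hn) hα hMN
    (fun g hg hgn => by
      obtain ⟨⟨g', hg'⟩, hgood', rfl⟩ := hgood hg
      exact hgood')
  have hRM : R ≤ M := le_normalizerIn hR.leT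
  have hRV : R ⊔ (M ⊔ C) = M ⊔ C := sup_eq_right.mpr (hRM.trans le_sup_left)
  set b := funOf ψ
  have hb0 : D.IsIso (R ⊔ (M ⊔ C)) ψ.range b := isIso_funOf hψ
  have hbR : ∀ r : R, b r = (α r : R) := fun r => by
    rw [← hψe r]; exact (funOf_apply ψ ⟨r, Subgroup.mem_sup_left r.2⟩).symm
  generalize ψ.range = Q at hb0
  rw [hRV] at hb0
  have hconj : ∀ x ∈ M ⊔ C, ∀ hxn : x ∈ Subgroup.normalizer (R : Set Ω),
      ∃ hn : b x ∈ Subgroup.normalizer (R : Set Ω), cAut R (b x) hn = α * cAut R x hxn * α⁻¹ :=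
    fun x hx hxn => c.cAut_conj_of_iso hb0 (hRM.trans le_sup_left) hbR hx hxn
  have hbM : ∀ x ∈ M, b x ∈ M := fun x hx => by
    obtain ⟨hbn, -⟩ := hconj x (Subgroup.mem_sup_left hx) hx.2
    exact ⟨c.T_closed.iso_mem hb0 (Subgroup.mem_sup_left hx) hx.1, hbn⟩
  have hbC : ∀ x ∈ C, b x ∈ C := fun x hx => by
    obtain ⟨hxS, hxn, hxK⟩ := mem_centMod.mp hx
    obtain ⟨hbn, he⟩ := hconj x (Subgroup.mem_sup_right hx) hxn
    exact mem_centMod.mpr ⟨hb0.le_right (hb0.mem (Subgroup.mem_sup_right hx)), hbn,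
      he ▸ c.autK_normal hRS hxK hα⟩
  have hb : D.IsIso (M ⊔ C) (M ⊔ C) b :=
    sup_image hb0 le_sup_left le_sup_right (image_self hb0 le_sup_left hbM) (image_self hb0 le_sup_right hbC)
  obtain ⟨j, hjR, m, hm, hper⟩ := exists_iterate_pprime (A := (R : Subgroup Ω)) hb hord
    fun x hx => by rw [← coe_pow_apply (fun r : R => (hbR r).symm) (orderOf α) ⟨x, hx⟩, pow_orderOf_eq_one]; rfl
  have hiter : ∀ {W : Subgroup Ω}, (∀ x ∈ W, b x ∈ W) → ∀ x ∈ W, b^[j] x ∈ W := by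
    intro W hW
    clear hjR hper
    induction j with
    | zero => exact fun x hx => hx
    | succ i ih => exact fun x hx => by rw [Function.iterate_succ_apply']; exact hW _ (ih x hx)
  exact ⟨b^[j], iterate_isIso hb j, fun r => (hjR r r.2).trans (hbR r), hiter hbM, hiter hbC, m, hm, hper⟩

/-- The step. -/
theorem central_step (hR : InH θ Z Eb R) (hn : D.IsFullyNormalized R)
    (hIH : IsCentralAt θ D Z Eb (normalizerIn 𝕋 R)) {α : MulAut R}
    (hα : α ∈ autM θ D Z Eb R) (hord : ¬ p ∣ orderOf α)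
    (hW : ∀ w ∈ autInducedBy 𝕋 R, α * w * α⁻¹ ∈ autInducedBy 𝕋 R)
    {k : MulAut R} (hk : k ∈ autK D Z R) : α * k * α⁻¹ * k⁻¹ ∈ Inn R := by
  have hRS := hR.le_S
  haveI := finite_of_le hRS
  haveI := finite_mulAut_of_le hRS
  set M := normalizerIn 𝕋 R with hMdef
  have hRM : R ≤ M := le_normalizerIn hR.leT
  have hMT : M ≤ 𝕋 := normalizerIn_le
  have hMS := hMT.trans c.T_le
  have hMH : InH θ Z Eb M := c.inH_of_le hR hRM hMT
  obtain ⟨b, hb, hbR, hbM, hbC, m, hm, hper⟩ := c.exists_ext_prime hR hn (c.autM_le hR.leT hα) hord hW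
  haveI := finite_mulAut_of_le hMS
  have hbMiso := isIso_self hb le_sup_left hbM
  obtain ⟨β, hβ, hβe⟩ := hbMiso.toAut
  have hordβ : ¬ p ∣ orderOf β := fun hdvd => hm (hdvd.trans (orderOf_dvd_of_pow_eq_one (MulEquiv.ext fun x =>
    Subtype.ext ((coe_pow_apply hβe m x).trans (hper x (Subgroup.mem_sup_left x.2))))))
  have hβA : β ∈ autM θ D Z Eb M := c.autM_of_extension hR hn hα hRM le_rfl
    (fun t ht htn => hW _ (mem_autInducedBy_iff.mpr ⟨t, ht.1, htn, fun _ => rfl⟩)) hβ hordβ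
    fun r hr => by rw [hβe]; exact hbR r
  obtain ⟨s, hs, hsn, hse⟩ := mem_autInducedBy_iff.mp (c.autK_le_autInduced hn hk)
  have hk' : k = cAut R s hsn := MulEquiv.ext fun x => Subtype.ext (hse x)
  subst hk'
  have hsC : s ∈ centMod D Z R := mem_centMod.mpr ⟨hs, hsn, hk⟩
  set u := b s * s⁻¹ with hu
  have huC : u ∈ centMod D Z R := Subgroup.mul_mem _ (hbC s hsC) (Subgroup.inv_mem _ hsC)
  obtain ⟨huS, hun, huK⟩ := mem_centMod.mp huC
  obtain ⟨hbsn, hbse⟩ := c.cAut_conj_of_iso hb (hRM.trans le_sup_left) hbR (Subgroup.mem_sup_right hsC) hsn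
  have hnorm : ∀ {x : Ω}, x ∈ S → x ∈ Subgroup.normalizer (R : Set Ω) → x ∈ Subgroup.normalizer (M : Set Ω) := by
    intro x hx hxn
    haveI := finite_of_le hMS
    refine Subgroup.mem_normalizer_fintype fun y hy => ?_
    exact ⟨c.T_closed.conj_mem_of_mem hx hy.1,
      Subgroup.mul_mem _ (Subgroup.mul_mem _ hxn hy.2) (Subgroup.inv_mem _ hxn)⟩
  have hsM := hnorm hs hsn
  obtain ⟨hbsM, hbsMe⟩ := c.cAut_conj_of_iso hb le_sup_left (fun x => (hβe x).symm) (Subgroup.mem_sup_right hsC) hsM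
  have huM := hnorm huS hun
  have hcuM : cAut M u huM ∈ autM θ D Z Eb M := by
    have e : cAut M u huM = β * (cAut M s hsM * β⁻¹ * (cAut M s hsM)⁻¹) := by
      rw [show cAut M u huM = cAut M (b s) hbsM * cAut M s⁻¹ (Subgroup.inv_mem _ hsM) from
        cAut_mul hbsM (Subgroup.inv_mem _ hsM), hbsMe, ← map_inv]
      show _ = β * (cAut M s hsM * β⁻¹ * M.normalizerMonoidHom (⟨s, hsM⟩⁻¹))
      simp only [mul_assoc]
      rfl
    rw [e]
    exact Subgroup.mul_mem _ hβA (c.autM_normal hMH.leZ hMT (Subgroup.inv_mem _ hβA)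
      (autInducedBy_le_autGroup hMS (mem_autInducedBy_iff.mpr ⟨s, hs, hsM, fun _ => rfl⟩)))
  -- move to a fully normalised conjugate of `M`
  obtain ⟨M₁, N', H, hM₁, hHM, hH⟩ := c.exists_move hMS
  have hMN : M ≤ normalizerIn S M := le_normalizerIn hMS
  have hH1 := c.inH_image hMH hHM
  obtain ⟨Φ, hΦ⟩ := exists_transp hHM
  obtain ⟨hHun, hHue⟩ := c.transp_autInduced hHM hΦ hH (fun _ _ => rfl) hMN ⟨huS, huM⟩ huM
  obtain ⟨t, ht, htn, k₁, hk₁, he⟩ := c.autM_inter hH1.leZ hH1.leT hM₁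
    (hH.le_right (hH.mem ⟨huS, huM⟩)) hHun (hHue ▸ c.transp_autM hMH.leZ hMT hHM hΦ hcuM)
  obtain ⟨R₁, -, -, hR₁⟩ := hHM.restrict hRM
  have hRR₁ : D.IsIso R R₁ H := hHM.restrict' hRM hR₁
  have hR₁H : InH θ Z Eb R₁ := c.inH_image hR hRR₁
  have ht1 : t ∈ R₁ := by
    refine c.mem_of_centMod hR₁H ht fun y hy => ?_
    obtain ⟨x, hx, rfl⟩ := (hR₁ y).mp hy
    have hxM : x ∈ M := hRM hx
    have hHx : H x ∈ M₁ := hHM.mem hxM
    have h1 : thetaF θ (H (u * x * u⁻¹)) = thetaF θ (H x) := by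
      have hux : u * x * u⁻¹ ∈ R := (Subgroup.mem_normalizer_iff.mp hun x).mp hx
      have h0 := (c.cAut_mem_autK hRS huS hun).mp huK x hx
      rw [c.thetaF_eq (hRS hux) (hRS hx)] at h0
      rw [c.thetaF_eq (hRR₁.le_right (hRR₁.mem hux)) (hRR₁.le_right (hRR₁.mem hx)),
        ← hRR₁.apply_inv hux, ← hRR₁.apply_mul (R.inv_mem hux) hx,
        c.fix_Z hRR₁ h0 (R.mul_mem (R.inv_mem hux) hx)]
      exact h0
    have h2 := congrArg (fun a : MulAut M₁ => ((a ⟨H x, hHx⟩ : M₁) : Ω)) he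
    simp only [MulAut.mul_apply, cAut_apply] at h2
    rw [← hH.apply_conj ⟨huS, huM⟩ (hMN hxM)] at h2
    rw [h2] at h1
    have hkx : ((k₁ ⟨H x, hHx⟩ : M₁) : Ω) ∈ S := hHM.le_right (k₁ ⟨H x, hHx⟩).2
    have h3 : thetaF θ (H x) = thetaF θ ((k₁ ⟨H x, hHx⟩ : M₁) : Ω) :=
      (c.thetaF_eq (hHM.le_right hHx) hkx).mpr (hk₁.2 ⟨H x, hHx⟩)
    rw [thetaF_conj (c.T_le ht) hkx, ← h3, ← thetaF_conj (c.T_le ht) (hHM.le_right hHx)] at h1
    exact h1
  obtain ⟨t₀, ht₀, rfl⟩ := (hR₁ t).mp ht1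
  have ht₀M : t₀ ∈ Subgroup.normalizer (M : Set Ω) := Subgroup.le_normalizer (hRM ht₀)
  set v := t₀⁻¹ * u with hv
  have hvM : v ∈ Subgroup.normalizer (M : Set Ω) := Subgroup.mul_mem _ (Subgroup.inv_mem _ ht₀M) huM
  have hvn : v ∈ Subgroup.normalizer (R : Set Ω) :=
    Subgroup.mul_mem _ (Subgroup.inv_mem _ (Subgroup.le_normalizer ht₀)) hun
  have hvS : v ∈ S := S.mul_mem (S.inv_mem (hRS ht₀)) huS
  have hvK : cAut M v hvM ∈ autK D Z M := by
    have hk₁' : Φ.symm k₁ ∈ autK D Z M := by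
      obtain ⟨g, hg, hgl, -⟩ := hHM.symm
      exact c.transp_autK hH1.leZ hg (hΦ.symm hHM hgl) hk₁
    suffices cAut M v hvM = Φ.symm k₁ by rw [this]; exact hk₁'
    apply Φ.injective
    rw [MulEquiv.apply_symm_apply, cAut_mul (Subgroup.inv_mem _ ht₀M) huM, map_mul, hHue, he,
      show cAut M t₀⁻¹ (Subgroup.inv_mem _ ht₀M) = (cAut M t₀ ht₀M)⁻¹ from map_inv M.normalizerMonoidHom ⟨t₀, ht₀M⟩,
      map_inv]
    obtain ⟨ht0n, ht0e⟩ := c.transp_autInduced hHM hΦ hH (fun _ _ => rfl) hMN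
      (hMN (hRM ht₀)) ht₀M
    rw [ht0e]
    exact inv_mul_cancel_left _ _
  have hvR : cAut R v hvn ∈ autK D Z R :=
    (c.cAut_mem_autK hRS hvS hvn).mpr fun r hr => (c.cAut_mem_autK hMS hvS hvM).mp hvK r (hRM hr)
  have hvC : v ∈ centMod D Z R := mem_centMod.mpr ⟨hvS, hvn, hvR⟩
  have hIH' := hIH β hβA _ hvK
  obtain ⟨hbvM, hbvMe⟩ := c.cAut_conj_of_iso hb le_sup_left (fun x => (hβe x).symm) (Subgroup.mem_sup_right hvC) hvM
  obtain ⟨hbvn, hbve⟩ := c.cAut_conj_of_iso hb (hRM.trans le_sup_left) hbR (Subgroup.mem_sup_right hvC) hvn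
  have hcomm : α * cAut R v hvn * α⁻¹ * (cAut R v hvn)⁻¹ ∈ Inn R := by
    rw [inn_eq_autInducedBy] at hIH'
    obtain ⟨l, hl, hlM, hle⟩ := mem_autInducedBy_iff.mp hIH'
    have hlR : l ∈ Subgroup.normalizer (R : Set Ω) := hl.2
    have hce : α * cAut R v hvn * α⁻¹ * (cAut R v hvn)⁻¹ = cAut R l hlR := by
      rw [← hbve]
      refine MulEquiv.ext fun r => Subtype.ext ?_
      have h := hle ⟨r, hRM r.2⟩
      rw [← hbvMe] at h
      exact h
    have hK : cAut R l hlR ∈ autK D Z R := by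
      rw [← hce]
      exact Subgroup.mul_mem _ (c.autK_normal hRS hvR (c.autM_le hR.leT hα)) (Subgroup.inv_mem _ hvR)
    rw [hce]
    exact cAut_inn (c.cAut_autK_inn hR (hMT hl) hlR hK) hlR
  have hu' : cAut R u hun = cAut R t₀ (Subgroup.le_normalizer ht₀) * cAut R v hvn := by
    rw [← cAut_mul]
    congr 1
    simp [hv]
  have hunip : α * cAut R u hun * α⁻¹ * (cAut R u hun)⁻¹ ∈ Inn R := by
    rw [hu']
    have hi := cAut_inn ht₀ (Subgroup.le_normalizer ht₀)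
    have e : α * (cAut R t₀ (Subgroup.le_normalizer ht₀) * cAut R v hvn) * α⁻¹ *
        (cAut R t₀ (Subgroup.le_normalizer ht₀) * cAut R v hvn)⁻¹ =
        α * cAut R t₀ (Subgroup.le_normalizer ht₀) * α⁻¹ * (α * cAut R v hvn * α⁻¹ * (cAut R v hvn)⁻¹) *
          (cAut R t₀ (Subgroup.le_normalizer ht₀))⁻¹ := by group
    rw [e]
    exact Subgroup.mul_mem _ (Subgroup.mul_mem _ ((innNormal _).conj_mem _ hi α) hcomm) (Subgroup.inv_mem _ hi)
  have hnk : α * cAut R s hsn * α⁻¹ = cAut R u hun * cAut R s hsn := by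
    rw [← hbse, ← cAut_mul]
    congr 1
    simp [hu]
  rw [hnk, mul_inv_cancel_right]
  exact mem_of_unipotent (innNormal _) (c.autK_isPGroup hRS) huK hnk hunip hord

/-- **The kernel is central.** -/
theorem central_all : ∀ {R : Subgroup Ω}, InH θ Z Eb R → IsCentralAt θ D Z Eb R := by
  suffices H : ∀ (d : ℕ) (R : Subgroup Ω), Nat.card S - Nat.card R = d → InH θ Z Eb R → IsCentralAt θ D Z Eb R from
    fun {R} hR => H _ R rfl hR
  intro d
  induction d using Nat.strong_induction_on with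
  | _ d ih =>
  intro R₀ hd hR₀
  obtain ⟨R, N', h₀, hn, hh, -⟩ := c.exists_move hR₀.le_S
  refine c.isCentralAt_of_iso hR₀.leZ hR₀.leT hh ?_
  have hR : InH θ Z Eb R := c.inH_image hR₀ hh
  by_cases hRT : R = 𝕋
  · rw [hRT]
    exact c.central_top
  have hRS := hR.le_S
  haveI := finite_of_le hRS
  haveI := finite_mulAut_of_le hRS
  have hlt := c.normalizer_lt hR.leT hRT
  have hIH : IsCentralAt θ D Z Eb (normalizerIn 𝕋 R) := by
    refine ih _ ?_ _ rfl (c.inH_of_le hR hlt.le normalizerIn_le)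
    haveI := finite_of_le ((normalizerIn_le.trans c.T_le : normalizerIn 𝕋 R ≤ S))
    have h1 := card_lt_of_lt hlt
    have h2 : Nat.card (normalizerIn 𝕋 R) ≤ Nat.card S :=
      Subgroup.card_le_of_le (normalizerIn_le.trans c.T_le)
    have h3 : Nat.card R = Nat.card R₀ := hh.card_eq.symm
    omega
  set A := autM θ D Z Eb R with hA
  let ZA : Subgroup A :=
    { carrier := {a | ∀ k ∈ autK D Z R, (a : MulAut R) * k * (a : MulAut R)⁻¹ * k⁻¹ ∈ Inn R}
      one_mem' := fun k _ => by simp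
      mul_mem' := fun {a b} ha hb k hk => by
        have e : ((a * b : A) : MulAut R) * k * ((a * b : A) : MulAut R)⁻¹ * k⁻¹ =
            (a : MulAut R) * ((b : MulAut R) * k * (b : MulAut R)⁻¹ * k⁻¹) * (a : MulAut R)⁻¹ *
              ((a : MulAut R) * k * (a : MulAut R)⁻¹ * k⁻¹) := by simp only [Subgroup.coe_mul]; group
        rw [e]
        exact Subgroup.mul_mem _ ((innNormal _).conj_mem _ (hb k hk) _) (ha k hk)
      inv_mem' := fun {a} ha k hk => by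
        have e : ((a⁻¹ : A) : MulAut R) * k * ((a⁻¹ : A) : MulAut R)⁻¹ * k⁻¹ =
            (a : MulAut R)⁻¹ * ((a : MulAut R) * k * (a : MulAut R)⁻¹ * k⁻¹)⁻¹ * ((a : MulAut R)⁻¹)⁻¹ := by
          simp only [InvMemClass.coe_inv]; group
        rw [e]
        exact (innNormal _).conj_mem _ (Subgroup.inv_mem _ (ha k hk)) _ }
  suffices htop : ZA = ⊤ from fun α hα k hk => (htop.ge (Subgroup.mem_top (⟨α, hα⟩ : A)) :) k hk
  have hAle := c.autM_le (D := D) (Eb := Eb) hR.leT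
  have hZAn : ZA.Normal := by
    refine ⟨fun a ha g k hk => ?_⟩
    have hk' : (g : MulAut R)⁻¹ * k * g ∈ autK D Z R := by
      simpa using c.autK_normal hRS hk (Subgroup.inv_mem _ (hAle g.2))
    have e : ((g * a * g⁻¹ : A) : MulAut R) * k * ((g * a * g⁻¹ : A) : MulAut R)⁻¹ * k⁻¹ =
        (g : MulAut R) * ((a : MulAut R) * ((g : MulAut R)⁻¹ * k * g) * (a : MulAut R)⁻¹ *
          ((g : MulAut R)⁻¹ * k * g)⁻¹) * (g : MulAut R)⁻¹ := by
      simp only [Subgroup.coe_mul, InvMemClass.coe_inv]; group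
    rw [e]
    exact (innNormal _).conj_mem _ (ha _ hk') _
  obtain ⟨P, hP⟩ := c.autM_sylow hR hn
  have hWA : autInducedBy 𝕋 R ≤ A := c.autInduced_le_autM hR.leZ hR.leT
  have hWZ : ∀ w, ∀ hw : w ∈ autInducedBy 𝕋 R, (⟨w, hWA hw⟩ : A) ∈ ZA := fun w hw k hk =>
    c.inner_kernel_comm hR hn hk hw
  have hPZ : (P : Subgroup A) ≤ ZA := by
    intro a ha
    rw [hP] at ha
    have h1 : (a : MulAut R) ∈ ZA.map A.subtype := by
      have hle : autInducedBy 𝕋 R ⊔ autK D Z R ≤ ZA.map A.subtype := sup_le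
        (fun w hw => ⟨⟨w, hWA hw⟩, hWZ w hw, rfl⟩)
        (fun k hk => ⟨⟨k, c.autK_le hR.leZ hR.leT hk⟩, fun l hl => by
          show k * l * k⁻¹ * l⁻¹ ∈ Inn R
          rw [c.autK_comm hRS hk hl, mul_inv_cancel_right, mul_inv_cancel]
          exact Subgroup.one_mem _, rfl⟩)
      exact hle (c.autM_inter' hR hn a.2 (Subgroup.mem_subgroupOf.mp ha))
    obtain ⟨b, hb, e⟩ := h1
    exact Subtype.ext e ▸ hb
  let Q : Sylow p ZA := P.subtype hPZ
  have hgen := Q.normalizer_sup_eq_top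
  rw [Sylow.coe_subtype, Subgroup.map_subgroupOf_eq_of_le hPZ] at hgen
  rw [eq_top_iff, ← hgen]
  refine sup_le ?_ le_rfl
  set N := Subgroup.normalizer (((P : Subgroup A)) : Set A)
  have hNW : ∀ n ∈ N, ∀ w ∈ autInducedBy 𝕋 R, (n : MulAut R) * w * (n : MulAut R)⁻¹ ∈ autInducedBy 𝕋 R := by
    intro n hn' w hw
    refine c.autInduced_closed hn (hAle n.2) hw ?_
    have h1 : n * ⟨w, hWA hw⟩ * n⁻¹ ∈ (P : Subgroup A) := (Subgroup.mem_normalizer_iff.mp hn' _).mp (by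
      rw [hP]
      exact Subgroup.mem_subgroupOf.mpr (autInducedBy_mono c.T_le hw))
    rw [hP] at h1
    exact Subgroup.mem_subgroupOf.mp h1
  have key : ZA.subgroupOf N = ⊤ := by
    refine eq_top_of_sylow_of_pprime _ (P.subtype Subgroup.le_normalizer) ?_ fun a ha => ?_
    · rw [Sylow.coe_subtype]
      exact fun x hx => Subgroup.mem_subgroupOf.mpr (hPZ (Subgroup.mem_subgroupOf.mp hx))
    · intro k hk
      exact c.central_step hR hn hIH (a : A).2 (by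
        rwa [Subgroup.orderOf_coe, Subgroup.orderOf_coe]) (hNW _ a.2) hk
  exact Subgroup.subgroupOf_eq_top.mp key

end Ctx

end Cfsg.FusionSystem.CentralLift
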