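import Cfsg.Agent.Lib.Fusion.CentralLift.Complement

/-!
The system on the preimage generated by the complements.
-/

set_option autoImplicit false
set_option linter.unusedSectionVars false
set_option linter.style.haveILetI false

namespace Cfsg.FusionSystem.CentralLift

open Cfsg.FusionSystem.SubCent

universe u v

variable {Ω : Type u} [Group Ω] {Ω' : Type v} [Group Ω'] {S Z : Subgroup Ω} {S' T' : Subgroup Ω'}
  {θ : S →* Ω'} {D : FusionSystem S} {Db : FusionSystem S'} {Eb : FusionSystem T'} {p : ℕ}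

local notation "𝕋" => preimageAlong θ T'

/-- Composites of restrictions of the elements of the complements. -/
inductive Chain (θ : S →* Ω') (D : FusionSystem S) (Z : Subgroup Ω) (Eb : FusionSystem T') (p : ℕ) :
    Subgroup Ω → Subgroup Ω → (Ω → Ω) → Prop
  | base {P Q R : Subgroup Ω} {f : Ω → Ω} {α : MulAut R} : InH θ Z Eb R → α ∈ autGood θ D Z Eb p R →
      (∀ x : R, ((α x : R) : Ω) = f x) → Z ≤ P → P ≤ R → (∀ y, y ∈ Q ↔ ∃ x ∈ P, f x = y) →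
      Chain θ D Z Eb p P Q f
  | comp {P Q W : Subgroup Ω} {f g : Ω → Ω} : Chain θ D Z Eb p P Q f → Chain θ D Z Eb p Q W g →
      Chain θ D Z Eb p P W fun x => g (f x)
  | congr {P Q : Subgroup Ω} {f g : Ω → Ω} : Chain θ D Z Eb p P Q f → (∀ x ∈ P, g x = f x) →
      Chain θ D Z Eb p P Q g

namespace Ctx

variable (c : Ctx p D Z θ Db Eb)
include c

variable [Finite S] [Fact p.Prime] {P Q R W : Subgroup Ω} {f g h : Ω → Ω}

theorem chain_mmap (hf : Chain θ D Z Eb p P Q f) : MMap θ D Z Eb P Q f := by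
  induction hf with
  | base hR hα he hZ hPR hQ =>
    exact c.mmap_restrict' (c.mmap_of_autM hR.leZ hR.leT (c.autGood_le hR hα) he) hPR hZ hQ
  | comp _ _ ih1 ih2 => exact c.mmap_comp ih1 ih2
  | congr _ he ih => exact c.mmap_congr ih he

theorem chain_symm (hf : Chain θ D Z Eb p P Q f) :
    ∃ g, Chain θ D Z Eb p Q P g ∧ (∀ x ∈ P, g (f x) = x) ∧ ∀ y ∈ Q, f (g y) = y := by
  induction hf with
  | @base P Q R f α hR hα he hZ hPR hQ =>
    obtain ⟨g, hg, hge⟩ := isIso_of_aut hR.le_S (c.autM_le hR.leT (c.autGood_le hR (Subgroup.inv_mem _ hα)))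
    have hl : ∀ x ∈ R, g (f x) = x := fun x hx => by
      rw [← he ⟨x, hx⟩, ← hge (α ⟨x, hx⟩), MulAut.inv_apply_self]
    have hQR : Q ≤ R := fun y hy => by
      obtain ⟨x, hx, rfl⟩ := (hQ y).mp hy
      rw [← he ⟨x, hPR hx⟩]
      exact SetLike.coe_mem _
    have hm := c.mmap_restrict' (c.mmap_of_autM hR.leZ hR.leT (c.autGood_le hR hα) he) hPR hZ hQ
    refine ⟨g, .base hR (Subgroup.inv_mem _ hα) hge (c.mmap_leZ hm) hQR (fun y => ⟨fun hy => ?_, ?_⟩),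
      fun x hx => hl x (hPR hx), fun y hy => ?_⟩
    · exact ⟨f y, (hQ _).mpr ⟨y, hy, rfl⟩, hl y (hPR hy)⟩
    · rintro ⟨w, hw, rfl⟩
      obtain ⟨x, hx, rfl⟩ := (hQ w).mp hw
      rwa [hl x (hPR hx)]
    · obtain ⟨x, hx, rfl⟩ := (hQ y).mp hy
      rw [hl x (hPR hx)]
  | @comp P Q W f g hf hg ih1 ih2 =>
    obtain ⟨f', hf', hfl, hfr⟩ := ih1
    obtain ⟨g', hg', hgl, hgr⟩ := ih2
    refine ⟨_, .comp hg' hf', fun x hx => ?_, fun y hy => ?_⟩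
    · show f' (g' (g (f x))) = x
      rw [hgl _ ((c.chain_mmap hf).iso.mem hx), hfl x hx]
    · show g (f (f' (g' y))) = y
      rw [hfr _ ((c.chain_mmap hg').iso.mem hy), hgr y hy]
  | @congr P Q f g hf he ih =>
    obtain ⟨f', hf', hfl, hfr⟩ := ih
    exact ⟨f', hf', fun x hx => by rw [he x hx, hfl x hx],
      fun y hy => by rw [he _ ((c.chain_mmap hf').iso.mem hy), hfr y hy]⟩

theorem chain_restrict' (hf : Chain θ D Z Eb p P Q f) : ∀ {X X' : Subgroup Ω}, X ≤ P → Z ≤ X →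
    (∀ y, y ∈ X' ↔ ∃ x ∈ X, f x = y) → Chain θ D Z Eb p X X' f := by
  induction hf with
  | base hR hα he hZ hPR hQ => exact fun hX hZX hX' => .base hR hα he hZX (hX.trans hPR) hX'
  | @comp P Q W f g hf hg ih1 ih2 =>
    intro X X' hX hZX hX'
    obtain ⟨X₁, hX₁, hle, hm⟩ := c.mmap_restrict (c.chain_mmap hf) hX hZX
    refine .comp (ih1 hX hZX hm) (ih2 hle (c.mmap_leZ hX₁) fun y => ?_)
    rw [hX']
    constructor
    · rintro ⟨x, hx, rfl⟩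
      exact ⟨f x, (hm _).mpr ⟨x, hx, rfl⟩, rfl⟩
    · rintro ⟨w, hw, rfl⟩
      obtain ⟨x, hx, rfl⟩ := (hm w).mp hw
      exact ⟨x, hx, rfl⟩
  | @congr P Q f g hf he ih =>
    intro X X' hX hZX hX'
    refine .congr (ih hX hZX fun y => ?_) fun x hx => he x (hX hx)
    rw [hX']
    exact ⟨fun ⟨x, hx, e⟩ => ⟨x, hx, (he x (hX hx)).symm.trans e⟩,
      fun ⟨x, hx, e⟩ => ⟨x, hx, (he x (hX hx)).trans e⟩⟩

theorem chain_restrict (hf : Chain θ D Z Eb p P Q f) {X : Subgroup Ω} (hX : X ≤ P) (hZX : Z ≤ X) :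
    ∃ X', Chain θ D Z Eb p X X' f ∧ X' ≤ Q ∧ ∀ y, y ∈ X' ↔ ∃ x ∈ X, f x = y := by
  obtain ⟨X', -, hle, hm⟩ := c.mmap_restrict (c.chain_mmap hf) hX hZX
  exact ⟨X', c.chain_restrict' hf hX hZX hm, hle, hm⟩

theorem chain_of_autGood (hR : InH θ Z Eb R) {α : MulAut R} (hα : α ∈ autGood θ D Z Eb p R)
    (he : ∀ x : R, ((α x : R) : Ω) = f x) : Chain θ D Z Eb p R R f :=
  .base hR hα he hR.leZ le_rfl fun y => ⟨fun hy => ⟨_, (α⁻¹ ⟨y, hy⟩).2, by rw [← he, MulAut.apply_inv_self]⟩,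
    fun ⟨x, hx, e⟩ => e ▸ he ⟨x, hx⟩ ▸ SetLike.coe_mem _⟩

theorem chain_conj (hZ : Z ≤ P) (hP : P ≤ 𝕋) {t : Ω} (ht : t ∈ 𝕋) :
    ∃ Q, Chain θ D Z Eb p P Q fun x => t * x * t⁻¹ := by
  obtain ⟨Q, hQ, -, -⟩ := c.chain_restrict (c.chain_of_autGood c.inH_T (c.autGood_inner c.inH_T
    (mem_autInducedBy_iff.mpr ⟨t, ht, Subgroup.le_normalizer ht, fun _ => rfl⟩ :
      cAut 𝕋 t (Subgroup.le_normalizer ht) ∈ _)) (f := fun x => t * x * t⁻¹) fun x => rfl) hP hZ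
  exact ⟨Q, hQ⟩

theorem chain_refl (hZ : Z ≤ P) (hP : P ≤ 𝕋) : Chain θ D Z Eb p P P fun x => x :=
  .base c.inH_T (Subgroup.one_mem _) (fun _ => rfl) hZ hP fun y => ⟨fun hy => ⟨y, hy, rfl⟩,
    fun ⟨_, hx, e⟩ => e ▸ hx⟩

theorem chain_le_T (hf : Chain θ D Z Eb p P Q f) : Q ≤ 𝕋 := c.mmap_le_T (c.chain_mmap hf)

/-- Chains are carried to chains by automorphisms of the preimage. -/
theorem chain_transport (hh : D.IsIso 𝕋 𝕋 h) (hf : Chain θ D Z Eb p P Q f) :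
    ∀ {P' Q' : Subgroup Ω} {f' : Ω → Ω}, (∀ y, y ∈ P' ↔ ∃ x ∈ P, h x = y) →
      (∀ y, y ∈ Q' ↔ ∃ x ∈ Q, h x = y) → (∀ x ∈ P, f' (h x) = h (f x)) → Chain θ D Z Eb p P' Q' f' := by
  induction hf with
  | @base P Q R f α hR hα he hZ hPR hQ =>
    intro P' Q' f' hP' hQ' hf'
    obtain ⟨R', -, -, hR'⟩ := hh.restrict hR.leT
    have hRR' := hh.restrict' hR.leT hR'
    obtain ⟨Φ, hΦ⟩ := exists_transp hRR'
    have hR'H := c.inH_image hR hRR'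
    obtain ⟨f₁, hf₁, hf₁e⟩ := isIso_of_aut hRR'.le_right (c.autM_le hR'H.leT
      (c.autGood_le hR'H (c.autGood_transp hR hRR' hΦ hα)))
    have hval : ∀ x ∈ R, f₁ (h x) = h (f x) := fun x hx => by
      rw [← hf₁e ⟨h x, hRR'.mem hx⟩, hΦ α ⟨x, hx⟩, he]
    have hP'R : P' ≤ R' := fun y hy => by
      obtain ⟨x, hx, rfl⟩ := (hP' y).mp hy
      exact hRR'.mem (hPR hx)
    refine .congr (.base hR'H (c.autGood_transp hR hRR' hΦ hα) hf₁e
      (c.Z_le_image (hRR'.restrict' hPR hP') hZ) hP'R fun y => ?_) fun y hy => ?_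
    · rw [hQ']
      constructor
      · rintro ⟨w, hw, rfl⟩
        obtain ⟨x, hx, rfl⟩ := (hQ w).mp hw
        exact ⟨h x, (hP' _).mpr ⟨x, hx, rfl⟩, hval x (hPR hx)⟩
      · rintro ⟨w, hw, rfl⟩
        obtain ⟨x, hx, rfl⟩ := (hP' w).mp hw
        exact ⟨f x, (hQ _).mpr ⟨x, hx, rfl⟩, (hval x (hPR hx)).symm⟩
    · obtain ⟨x, hx, rfl⟩ := (hP' y).mp hy
      rw [hf' x hx, hval x (hPR hx)]
  | @comp P Q W f g hf hg ih1 ih2 =>
    intro P' W' f' hP' hW' hf'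
    have hQT : Q ≤ 𝕋 := (c.chain_mmap hg).leT
    obtain ⟨Q', hQQ', -, hQ'⟩ := hh.restrict hQT
    have hPT : P ≤ 𝕋 := (c.chain_mmap hf).leT
    obtain ⟨k, hk, hkl, -⟩ := hh.symm
    refine .congr (.comp (ih1 hP' hQ' (f' := fun y => h (f (k y))) fun x hx => ?_)
      (ih2 hQ' hW' (f' := fun y => h (g (k y))) fun x hx => ?_)) fun y hy => ?_
    · show h (f (k (h x))) = h (f x)
      rw [hkl x (hPT hx)]
    · show h (g (k (h x))) = h (g x)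
      rw [hkl x (hQT hx)]
    · obtain ⟨x, hx, rfl⟩ := (hP' y).mp hy
      show f' (h x) = h (g (k (h (f (k (h x))))))
      rw [hf' x hx, hkl x (hPT hx), hkl _ (hQT ((c.chain_mmap hf).iso.mem hx))]
  | @congr P Q f g hf he ih =>
    intro P' Q' f' hP' hQ' hf'
    exact ih hP' hQ' fun x hx => by rw [hf' x hx, he x hx]

/-- The maps of the subsystem given by chains. -/
def barSystem : FusionSystem T' where
  Hom P := {φ | φ ∈ Eb.Hom P ∧ ∃ Q f, Chain θ D Z Eb p (preimageAlong θ P) Q f ∧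
    ∀ x ∈ preimageAlong θ P, funOf φ (thetaF θ x) = thetaF θ (f x)}
  le_of_mem h := Eb.le_of_mem h.1
  injective_of_mem h := Eb.injective_of_mem h.1
  conj_mem := by
    intro P g hP hg
    refine ⟨Eb.conj_mem hP hg, ?_⟩
    obtain ⟨t, ht, rfl⟩ := (mem_bar c.T_le).mp ((c.bar_pre c.Tb_closed.1).ge hg)
    obtain ⟨Q, hQ⟩ := c.chain_conj (c.Z_le_pre P)
      (fun x hx => c.mem_pre.mpr ⟨(c.mem_pre.mp hx).1, hP (c.mem_pre.mp hx).2⟩) ht
    refine ⟨Q, _, hQ, fun x hx => ?_⟩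
    rw [← funOf_apply (conjHom P (thetaF θ t)) ⟨_, (c.mem_pre.mp hx).2⟩, thetaF_conj (c.T_le ht) (c.mem_pre.mp hx).1]
    rfl
  comp_mem := by
    intro P Q φ ψ hφ hψ h
    refine ⟨Eb.comp_mem hφ.1 hψ.1 h, ?_⟩
    obtain ⟨P₁, f, hf, hfe⟩ := hφ.2
    obtain ⟨Q₁, g, hg, hge⟩ := hψ.2
    have hP₁ : P₁ ≤ preimageAlong θ Q := fun y hy => by
      obtain ⟨x, hx, rfl⟩ := (c.chain_mmap hf).iso.surj hy
      refine c.mem_pre.mpr ⟨(c.chain_mmap hf).iso.le_right hy, ?_⟩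
      rw [← hfe x hx, ← funOf_apply φ ⟨_, (c.mem_pre.mp hx).2⟩]
      exact h _
    obtain ⟨W, hW, -, -⟩ := c.chain_restrict hg hP₁ (c.mmap_leZ (c.chain_mmap hf))
    refine ⟨W, _, .comp hf hW, fun x hx => ?_⟩
    have hxP := (c.mem_pre.mp hx).2
    rw [← funOf_apply (ψ.comp (φ.codRestrict _ h)) ⟨_, hxP⟩]
    show ψ ⟨φ ⟨_, hxP⟩, _⟩ = _
    have e : φ ⟨_, hxP⟩ = thetaF θ (f x) := (funOf_apply φ ⟨_, hxP⟩).trans (hfe x hx)
    rw [funOf_apply ψ ⟨φ ⟨_, hxP⟩, _⟩]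
    show funOf ψ (φ ⟨_, hxP⟩) = _
    rw [e]
    exact hge _ (hP₁ ((c.chain_mmap hf).iso.mem hx))
  inv_mem := by
    intro P φ hφ
    obtain ⟨ψ, hψ, he⟩ := Eb.inv_mem hφ.1
    obtain ⟨P₁, f, hf, hfe⟩ := hφ.2
    obtain ⟨g, hg, -, hgr⟩ := c.chain_symm hf
    have hi := (c.chain_mmap hf).iso
    have hr : φ.range = bar θ P₁ := by
      ext y
      rw [mem_bar hi.le_right]
      constructor
      · rintro ⟨⟨z, hz⟩, rfl⟩
        obtain ⟨x, hx, rfl⟩ := (mem_bar preimageAlong_le).mp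
          ((c.bar_pre ((Eb.source_le hφ.1).trans c.Tb_closed.1)).ge hz)
        exact ⟨f x, hi.mem hx, (hfe x hx).symm.trans (funOf_apply φ ⟨_, hz⟩).symm⟩
      · rintro ⟨w, hw, rfl⟩
        obtain ⟨x, hx, rfl⟩ := hi.surj hw
        rw [← hfe x hx, ← funOf_apply φ ⟨_, (c.mem_pre.mp hx).2⟩]
        exact ⟨_, rfl⟩
    refine ⟨ψ, ⟨hψ, preimageAlong θ P, ?_⟩, he⟩
    have hpre : preimageAlong θ φ.range = P₁ := by
      rw [hr, c.pre_bar (c.mmap_leZ (c.chain_mmap hf)) hi.le_right]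
    refine ⟨g, ?_, ?_⟩
    · rw [hpre]
      exact hg
    · intro y hy
      rw [hpre] at hy
      have hx := (c.chain_mmap hg).iso.mem hy
      have hm : thetaF θ y ∈ φ.range := hr ▸ thetaF_mem_bar hi.le_right hy
      rw [← funOf_apply ψ ⟨_, hm⟩]
      have e : (⟨thetaF θ y, hm⟩ : φ.range) = ⟨φ ⟨thetaF θ (g y), (c.mem_pre.mp hx).2⟩, _, rfl⟩ := Subtype.ext
        (((congrArg (thetaF θ) (hgr y hy)).symm.trans (hfe _ hx).symm).trans
          (funOf_apply φ ⟨_, (c.mem_pre.mp hx).2⟩).symm)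
      rw [e, he]

/-- Every map inducing a map of the subsystem is congruent modulo `Z` to a chain. -/
theorem exists_chain (hf : MMap θ D Z Eb P Q f) :
    ∃ g, Chain θ D Z Eb p P Q g ∧ ∀ x ∈ P, thetaF θ (g x) = thetaF θ (f x) := by
  haveI := c.finite'
  haveI := c.finiteT
  have hTp : IsPGroup p T' := c.isPGroup'.to_le c.Tb_closed.1
  have hall : Eb ≤ c.barSystem := by
    refine c.sat.le_of_autGroup_le' hTp _ fun P' hP' _ α hα => ?_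
    have hPT : P' ≤ T' := by
      rcases hP' with rfl | hess
      · exact le_rfl
      · exact hess.1.1
    have hcen : Eb.IsCentric P' := by
      rcases hP' with rfl | hess
      · exact isCentric_self
      · exact hess.1
    have hPS := hPT.trans c.Tb_closed.1
    set R := preimageAlong θ P'
    have hR : InH θ Z Eb R := ⟨c.Z_le_pre _, fun x hx => c.mem_pre.mpr ⟨(c.mem_pre.mp hx).1, hPT (c.mem_pre.mp hx).2⟩,
      by rw [c.bar_pre hPS]; exact hcen⟩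
    obtain ⟨φ, hφ, hr, he⟩ := Eb.exists_map_of_mem_autGroup hPT hα
    have hiso : Eb.IsIso (bar θ R) (bar θ R) (funOf φ) := by
      rw [c.bar_pre hPS]
      exact ⟨φ, hφ, hr, funOf_apply φ⟩
    obtain ⟨e, he', hee⟩ := c.exists_lift hR.le_S hR.leZ hR.le_S hR.leZ (hiso.mono c.invariant.1)
    obtain ⟨ε, hε, hεe⟩ := he'.toAut
    have hεM : ε ∈ autM θ D Z Eb R :=
      (c.mem_autM hR.leZ hR.leT).mpr ⟨e, ⟨hR.leZ, hR.leT, he', _, hiso, hee⟩, hεe⟩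
    have h1 := c.autGood_decomp hR hεM
    rw [← SetLike.mem_coe, Subgroup.coe_mul_of_left_le_normalizer_right _ _ (fun a ha =>
      Subgroup.mem_normalizer_iff.mpr fun b => ⟨fun hb => c.autK_normal hR.le_S hb (c.autM_le hR.leT (c.autGood_le hR ha)),
        fun hb => by
          have := c.autK_normal hR.le_S hb (Subgroup.inv_mem _ (c.autM_le hR.leT (c.autGood_le hR ha)))
          simpa [mul_assoc] using this⟩)] at h1
    obtain ⟨γ, hγ, k, hk, hγk⟩ := h1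
    obtain ⟨f₁, hf₁, hf₁e⟩ := isIso_of_aut hR.le_S (c.autM_le hR.leT (c.autGood_le hR hγ))
    refine c.barSystem.mem_autGroup_of_map (φ := φ) ⟨hφ, R, f₁, c.chain_of_autGood hR hγ hf₁e, fun x hx => ?_⟩
      fun x => (he x).symm
    rw [hee x hx]
    have hkx : (k ⟨x, hx⟩ : R) = ⟨x, hx⟩ * ⟨x⁻¹ * (k ⟨x, hx⟩ : R), hR.leZ (hk.2 ⟨x, hx⟩)⟩ :=
      Subtype.ext (by simp)
    have h2 : ((ε ⟨x, hx⟩ : R) : Ω) = f₁ x * (x⁻¹ * (k ⟨x, hx⟩ : R)) := by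
      rw [← hγk]
      show ((γ (k ⟨x, hx⟩) : R) : Ω) = _
      rw [hkx, map_mul, c.aut_apply_Z hR.le_S (c.autM_le hR.leT (c.autGood_le hR hγ)) (⟨x⁻¹ * (k ⟨x, hx⟩ : R), hR.leZ (hk.2 ⟨x, hx⟩)⟩ : R) (hk.2 ⟨x, hx⟩),
        Subgroup.coe_mul, hf₁e]
      simp
    rw [← hεe ⟨x, hx⟩, h2, eq_comm, c.thetaF_eq (hR.le_S (hf₁.mem hx))
      (S.mul_mem (hR.le_S (hf₁.mem hx)) (c.Z_le (hk.2 ⟨x, hx⟩))), inv_mul_cancel_left]
    exact hk.2 ⟨x, hx⟩
  obtain ⟨fb, ⟨φ, hφ, hr, hφe⟩, hfbe⟩ := hf.ind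
  obtain ⟨-, Q', g, hg, hge⟩ := hall _ hφ
  rw [c.pre_bar hf.leZ hf.iso.le_left] at hg hge
  have hcong : ∀ x ∈ P, thetaF θ (g x) = thetaF θ (f x) := fun x hx => by
    rw [← hge x hx, ← hfbe x hx, ← funOf_apply φ ⟨_, thetaF_mem_bar hf.iso.le_left hx⟩]
    exact hφe ⟨_, thetaF_mem_bar hf.iso.le_left hx⟩
  obtain ⟨rfl, -⟩ := c.mmap_of_mod hf (c.chain_mmap hg).iso hcong
  exact ⟨g, hg, hcong⟩

/-- The system on the preimage. -/
def liftSystem : FusionSystem 𝕋 where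
  Hom P := {φ | ∃ P' Q f, P ≤ P' ∧ Chain θ D Z Eb p P' Q f ∧ ∀ x : P, φ x = f x}
  le_of_mem := by
    rintro P φ ⟨P', Q, f, hP, hf, he⟩
    exact ⟨hP.trans (c.chain_mmap hf).leT, fun x => he x ▸ c.chain_le_T hf ((c.chain_mmap hf).iso.mem (hP x.2))⟩
  injective_of_mem := by
    rintro P φ ⟨P', Q, f, hP, hf, he⟩ x y hxy
    rw [he, he] at hxy
    exact Subtype.ext ((c.chain_mmap hf).iso.inj (hP x.2) (hP y.2) hxy)
  conj_mem := by
    intro P g hP hg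
    obtain ⟨Q, hQ⟩ := c.chain_conj (c.Z_le_pre T') le_rfl hg
    exact ⟨_, Q, _, hP, hQ, fun x => rfl⟩
  comp_mem := by
    rintro P Q φ ψ ⟨P', A, f, hP, hf, hfe⟩ ⟨Q', B, g, hQ, hg, hge⟩ h
    have hsup : P ⊔ Z ≤ P' := sup_le hP (c.chain_mmap hf).leZ
    obtain ⟨X', hX', -, hm⟩ := c.chain_restrict hf hsup le_sup_right
    have hXQ : X' ≤ Q' := by
      obtain ⟨χ, -, hr, hχe⟩ := (c.chain_mmap hX').iso
      rw [← hr, MonoidHom.range_eq_map, ← Subgroup.subgroupOf_self (P ⊔ Z),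
        Subgroup.subgroupOf_sup le_sup_left le_sup_right, Subgroup.map_sup]
      refine sup_le ?_ ?_
      · rintro _ ⟨x, hx, rfl⟩
        rw [hχe]
        show f (x : Ω) ∈ Q'
        have h1 := hQ (h ⟨_, hx⟩)
        rw [hfe] at h1
        exact h1
      · rintro _ ⟨x, hx, rfl⟩
        have h1 := (c.chain_mmap hg).leZ hx
        rw [← c.fix_Z (c.chain_mmap hX').iso hx x.2] at h1
        rw [hχe]
        exact h1
    obtain ⟨W, hW, -, -⟩ := c.chain_restrict hg hXQ (c.mmap_leZ (c.chain_mmap hX'))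
    refine ⟨P ⊔ Z, W, _, le_sup_left, .comp hX' hW, fun x => ?_⟩
    show ψ ⟨φ x, _⟩ = _
    rw [hge, ← hfe]
  inv_mem := by
    rintro P φ ⟨P', A, f, hP, hf, hfe⟩
    obtain ⟨g, hg, hgl, -⟩ := c.chain_symm hf
    have hr : φ.range ≤ A := by
      rintro _ ⟨x, rfl⟩
      rw [hfe]
      exact (c.chain_mmap hf).iso.mem (hP x.2)
    have hval : ∀ x : P, g (φ x) = x := fun x => by rw [hfe, hgl _ (hP x.2)]
    refine ⟨MonoidHom.mk' (fun y : φ.range => g y) fun a b =>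
      (c.chain_mmap hg).iso.apply_mul (hr a.2) (hr b.2), ⟨A, P', g, hr, hg, fun y => rfl⟩, hval⟩

theorem liftSystem_iso_of_chain (hf : Chain θ D Z Eb p P Q f) : c.liftSystem.IsIso P Q f := by
  obtain ⟨φ, hφ, hr, he⟩ := (c.chain_mmap hf).iso
  exact ⟨φ, ⟨P, Q, f, le_rfl, hf, he⟩, hr, he⟩

theorem chain_of_liftSystem_iso (h : c.liftSystem.IsIso P Q f) (hZ : Z ≤ P) : Chain θ D Z Eb p P Q f := by
  obtain ⟨φ, ⟨P', Q', g, hP, hg, hge⟩, hr, he⟩ := h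
  refine .congr (c.chain_restrict' hg hP hZ fun y => ?_) fun x hx => (he ⟨x, hx⟩).symm.trans (hge ⟨x, hx⟩)
  rw [← hr]
  exact ⟨fun ⟨x, e⟩ => ⟨x, x.2, (hge x).symm.trans e⟩, fun ⟨x, hx, e⟩ => ⟨⟨x, hx⟩, (hge _).trans e⟩⟩

theorem liftSystem_sub : c.liftSystem.IsSubsystemOf D := by
  rintro P φ ⟨P', Q, f, hP, hf, he⟩
  obtain ⟨R', hR', -⟩ := (c.chain_mmap hf).iso.restrict hP
  exact mem_hom_of_isIso hR' he

/-- Every member of the class of maps decomposes. -/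
theorem exists_frattini_mod (hh : D.IsIso P Q h) (hZ : Z ≤ P) (hP : P ≤ 𝕋) :
    ∃ (a : Ω → Ω) (P₁ : Subgroup Ω) (e : Ω → Ω), D.IsIso 𝕋 𝕋 a ∧ Chain θ D Z Eb p P P₁ e ∧ D.IsIso P₁ Q a ∧
      ∀ x ∈ P, thetaF θ (a (e x)) = thetaF θ (h x) := by
  obtain ⟨hb, ⟨φ, hφ, hr, hφe⟩, hhe⟩ := c.exists_bar hh
  obtain ⟨α, hα, φ₀, hφ₀, hdec⟩ := c.invariant.2.2.2 _ (c.bar_le_T hP) φ hφ
  obtain ⟨ab, hab, habe⟩ := isIso_of_aut c.Tb_closed.1 hα
  obtain ⟨a, ha, hae⟩ := c.exists_lift (P := 𝕋) (Q := 𝕋) c.T_le (c.Z_le_pre _) c.T_le (c.Z_le_pre _)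
    (by rw [c.bar_pre c.Tb_closed.1]; exact hab)
  obtain ⟨k, hk, hkl, hkr⟩ := ha.symm
  have hQT : Q ≤ 𝕋 := c.T_closed.iso_le hh hP
  obtain ⟨P₁, hP₁, -, hm⟩ := hk.restrict hQT
  have hmm : MMap θ D Z Eb P P₁ fun x => k (h x) := by
    refine ⟨hZ, hP, hh.comp hP₁, funOf φ₀, ?_, fun x hx => ?_⟩
    · have e : φ₀.range = bar θ P₁ := by
        ext y
        rw [mem_bar hP₁.le_right]
        constructor
        · rintro ⟨⟨z, hz⟩, rfl⟩
          obtain ⟨x, hx, rfl⟩ := (mem_bar (hP.trans c.T_le)).mp hz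
          have hy : φ₀ ⟨_, hz⟩ ∈ T' := Eb.apply_mem hφ₀ _
          obtain ⟨w, hw, hwe⟩ := (mem_bar c.T_le).mp ((c.bar_pre c.Tb_closed.1).ge hy)
          refine ⟨k (h x), hP₁.mem (hh.mem hx), ?_⟩
          have h1 : thetaF θ (h x) = thetaF θ (a w) := by
            rw [← hhe x hx, ← hae w hw, hwe, ← hφe ⟨_, hz⟩, hdec ⟨_, hz⟩ hy, habe]
          rw [c.thetaF_eq (hh.le_right (hh.mem hx)) (ha.le_right (ha.mem hw))] at h1
          rw [← hwe, c.thetaF_eq (hP₁.le_right (hP₁.mem (hh.mem hx))) (c.T_le hw)]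
          have h2 : k ((h x)⁻¹ * a w) = (k (h x))⁻¹ * w := by
            rw [hk.apply_mul (Subgroup.inv_mem _ (hQT (hh.mem hx))) (ha.mem hw), hk.apply_inv (hQT (hh.mem hx)),
              hkl w hw]
          rw [← h2, c.fix_Z hk h1 (Subgroup.mul_mem _ (Subgroup.inv_mem _ (hQT (hh.mem hx))) (ha.mem hw))]
          exact h1
        · rintro ⟨v, hv, rfl⟩
          obtain ⟨q, hq, rfl⟩ := hP₁.surj hv
          obtain ⟨x, hx, rfl⟩ := hh.surj hq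
          have hz := thetaF_mem_bar (θ := θ) (hP.trans c.T_le) hx
          refine ⟨⟨_, hz⟩, hab.inj ?_ ?_ ?_⟩
          · exact Eb.apply_mem hφ₀ _
          · exact (c.mem_pre.mp (hk.mem (hQT hq))).2
          · rw [← habe ⟨_, Eb.apply_mem hφ₀ _⟩, ← hdec, hφe, hhe x hx,
              hae _ (hk.mem (hQT hq)), hkr _ (hQT hq)]
      exact e ▸ isIso_funOf hφ₀
    · have hz := thetaF_mem_bar (θ := θ) (hP.trans c.T_le) hx
      rw [← funOf_apply φ₀ ⟨_, hz⟩]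
      refine hab.inj (Eb.apply_mem hφ₀ _) (c.mem_pre.mp (hk.mem (hQT (hh.mem hx)))).2 ?_
      rw [← habe ⟨_, Eb.apply_mem hφ₀ _⟩, ← hdec, hφe, hhe x hx, hae _ (hk.mem (hQT (hh.mem hx))),
        hkr _ (hQT (hh.mem hx))]
  obtain ⟨e, he, hee⟩ := c.exists_chain hmm
  have hP₁T : P₁ ≤ 𝕋 := c.chain_le_T he
  refine ⟨a, P₁, e, ha, he, ha.restrict' hP₁T fun y => ⟨fun hy => ⟨k y, hP₁.mem hy, hkr y (hQT hy)⟩, ?_⟩,
    fun x hx => ?_⟩
  · rintro ⟨v, hv, rfl⟩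
    obtain ⟨q, hq, rfl⟩ := hP₁.surj hv
    rwa [hkr q (hQT hq)]
  · have hex : e x ∈ 𝕋 := hP₁T ((c.chain_mmap he).iso.mem hx)
    rw [← hae _ hex, hee x hx, hae _ (hk.mem (hQT (hh.mem hx))), hkr _ (hQT (hh.mem hx))]

end Ctx

end Cfsg.FusionSystem.CentralLift
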