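import Cfsg.Agent.Lib.Fusion.CentralLift.Chain

/-!
The chains at a centric subgroup are exactly the complement, and they extend.
-/

set_option autoImplicit false
set_option linter.unusedSectionVars false
set_option linter.style.haveILetI false

namespace Cfsg.FusionSystem.CentralLift

open Cfsg.FusionSystem.SubCent
open Cfsg.FusionSystem.CoreCent (exists_iterate_pprime)

universe u v

variable {Ω : Type u} [Group Ω] {Ω' : Type v} [Group Ω'] {S Z : Subgroup Ω} {S' T' : Subgroup Ω'}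
  {θ : S →* Ω'} {D : FusionSystem S} {Db : FusionSystem S'} {Eb : FusionSystem T'} {p : ℕ}

local notation "𝕋" => preimageAlong θ T'

/-- The elements of `K` normalising `R` and inducing a member of `Y` on it. -/
def normPre (K R : Subgroup Ω) (Y : Subgroup (MulAut R)) : Subgroup Ω :=
  K ⊓ (Y.comap R.normalizerMonoidHom).map (Subgroup.normalizer (R : Set Ω)).subtype

theorem mem_normPre {K R : Subgroup Ω} {Y : Subgroup (MulAut R)} {s : Ω} :
    s ∈ normPre K R Y ↔ s ∈ K ∧ ∃ hn : s ∈ Subgroup.normalizer (R : Set Ω), cAut R s hn ∈ Y := by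
  constructor
  · rintro ⟨hs, ⟨x, hn⟩, hx, rfl⟩
    exact ⟨hs, hn, hx⟩
  · rintro ⟨hs, hn, hx⟩
    exact ⟨hs, ⟨s, hn⟩, hx, rfl⟩

/-- Elements of the complement extend along chains as far as they can. -/
def ExtProp (θ : S →* Ω') (D : FusionSystem S) (Z : Subgroup Ω) (Eb : FusionSystem T') (p : ℕ)
    (R : Subgroup Ω) : Prop :=
  ∀ g ∈ autGood θ D Z Eb p R, ∀ L, R ≤ L → L ≤ normalizerIn (preimageAlong θ T') R →
    (∀ t ∈ L, ∀ htn : t ∈ Subgroup.normalizer (R : Set Ω),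
      g * cAut R t htn * g⁻¹ ∈ autInducedBy (preimageAlong θ T') R) →
      ∃ Q e, Chain θ D Z Eb p L Q e ∧ ∀ r : R, e r = (g r : R)

/-- The automorphisms given by chains lie in the complement. -/
def GoodAt (θ : S →* Ω') (D : FusionSystem S) (Z : Subgroup Ω) (Eb : FusionSystem T') (p : ℕ)
    (R : Subgroup Ω) : Prop :=
  ∀ (f : Ω → Ω) (α : MulAut R), Chain θ D Z Eb p R R f → (∀ x : R, ((α x : R) : Ω) = f x) →
    α ∈ autGood θ D Z Eb p R

namespace Ctx

variable (c : Ctx p D Z θ Db Eb)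
include c

variable [Finite S] [Fact p.Prime] {P Q R : Subgroup Ω} {f h : Ω → Ω}

theorem extProp_fn (hR : InH θ Z Eb R) (hn : D.IsFullyNormalized R) : ExtProp θ D Z Eb p R := by
  intro g hg L hRL hL hW
  have hRS := hR.le_S
  haveI := finite_of_le hRS
  haveI := finite_mulAut_of_le hRS
  rw [c.autGood_fn hR hn] at hg
  set A := autG θ D Z Eb p R
  obtain ⟨W, hWeq⟩ := c.autG_sylow hR hn
  have hWA : autInducedBy 𝕋 R ≤ A := le_sup_right
  have hInn : Inn R ≤ autInducedBy 𝕋 R := c.inner_le_autInduced hR.leT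
  let U : Subgroup A → Subgroup Ω := fun Y => normPre 𝕋 R (Y.map A.subtype)
  have hU : ∀ Y, U Y ≤ normalizerIn 𝕋 R := fun Y x hx => by
    obtain ⟨h1, h2, -⟩ := mem_normPre.mp hx
    exact ⟨h1, h2⟩
  have hUR : ∀ Y, (Inn R).subgroupOf A ≤ Y → R ≤ U Y := fun Y hY r hr => mem_normPre.mpr ⟨hR.leT hr,
    Subgroup.le_normalizer hr, ⟨⟨_, hWA (hInn (cAut_inn hr _))⟩, hY (cAut_inn hr _), rfl⟩⟩
  let Pr : Subgroup A → A → Prop := fun Y a =>
    ∃ Q e, Chain θ D Z Eb p (U Y) Q e ∧ ∀ r : R, e r = ((a : MulAut R) r : R)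
  -- the image of the extension
  have himg : ∀ Y (a : A) Q e, (Inn R).subgroupOf A ≤ Y → Y ≤ (W : Subgroup A) →
      Chain θ D Z Eb p (U Y) Q e → (∀ r : R, e r = ((a : MulAut R) r : R)) →
      Q = U (Y.map (MulAut.conj a).toMonoidHom) := by
    intro Y a Q e hNY hY he her
    have hi := (c.chain_mmap he).iso
    ext y
    constructor
    · intro hy
      obtain ⟨x, hx, rfl⟩ := hi.surj hy
      obtain ⟨hxT, hxn, ⟨w, hw, hwe⟩⟩ := mem_normPre.mp hx
      obtain ⟨hn', hce⟩ := c.cAut_conj_of_iso hi (hUR Y hNY) her hx hxn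
      refine mem_normPre.mpr ⟨c.chain_le_T he (hi.mem hx), hn', a * w * a⁻¹, ⟨w, hw, rfl⟩, ?_⟩
      rw [hce, ← hwe]
      rfl
    · intro hy
      obtain ⟨hyT, hyn, ⟨_, ⟨w, hw, rfl⟩, hye⟩⟩ := mem_normPre.mp hy
      have hwW := hY hw
      rw [hWeq] at hwW
      obtain ⟨t, ht, htn, hte⟩ := mem_autInducedBy_iff.mp (Subgroup.mem_subgroupOf.mp hwW)
      have hwe : (w : MulAut R) = cAut R t htn := MulEquiv.ext fun x => Subtype.ext (hte x)
      have htU : t ∈ U Y := mem_normPre.mpr ⟨ht, htn, w, hw, hwe⟩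
      obtain ⟨hen, hee⟩ := c.cAut_conj_of_iso hi (hUR Y hNY) her htU htn
      have hc : cAut R (e t) hen = cAut R y hyn := by
        rw [hee, ← hwe, ← hye]
        rfl
      have hmem : (e t)⁻¹ * y ∈ centralizerIn 𝕋 R := by
        refine ⟨Subgroup.mul_mem _ (Subgroup.inv_mem _ (c.chain_le_T he (hi.mem htU))) hyT,
          Subgroup.mem_centralizer_iff.mpr fun r hr => ?_⟩
        have h1 : (e t) * r * (e t)⁻¹ = y * r * y⁻¹ := congrArg (fun m : MulAut R => ((m ⟨r, hr⟩ : R) : Ω)) hc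
        calc r * ((e t)⁻¹ * y) = (e t)⁻¹ * ((e t) * r * (e t)⁻¹) * y := by group
          _ = (e t)⁻¹ * y * r := by rw [h1]; group
      have hRQ : R ≤ Q := fun r hr => by
        obtain ⟨r', hr'⟩ := (a : MulAut R).surjective ⟨r, hr⟩
        have := hi.mem (hUR Y hNY r'.2)
        rwa [her, hr'] at this
      have := Q.mul_mem (hi.mem htU) (hRQ (c.centralizer_le hR hmem))
      rwa [mul_inv_cancel_left] at this
  have hZU : ∀ Y, (Inn R).subgroupOf A ≤ Y → Z ≤ U Y := fun Y hY => hR.leZ.trans (hUR Y hY)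
  have hmapN : ∀ (Y : Subgroup A) (a : A), (Inn R).subgroupOf A ≤ Y →
      (Inn R).subgroupOf A ≤ Y.map (MulAut.conj a).toMonoidHom := fun Y a hY n hn' =>
    ⟨a⁻¹ * n * a, hY (by simpa using (inferInstance : ((Inn R).subgroupOf A).Normal).conj_mem n hn' a⁻¹),
      by simp [mul_assoc]⟩
  have hmain : ∀ Y, (Inn R).subgroupOf A ≤ Y → Y ≤ (W : Subgroup A) → ∀ a : A,
      (∀ y ∈ Y, a * y * a⁻¹ ∈ (W : Subgroup A)) → Pr Y a := by
    intro Y hNY hYW a ha
    refine fusion_induction W ((Inn R).subgroupOf A) inferInstance ?_ Pr ?_ ?_ ?_ ?_ ?_ hNY hYW ha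
    · rw [hWeq]
      exact fun x hx => hInn hx
    · rintro Y g₁ g₂ hNY hYW hgW ⟨Q₁, e₁, he₁, her₁⟩ ⟨Q₂, e₂, he₂, her₂⟩
      have hQ₁ := himg Y g₁ Q₁ e₁ hNY hYW he₁ her₁
      subst hQ₁
      refine ⟨Q₂, _, .comp he₁ he₂, fun r => ?_⟩
      show e₂ (e₁ r) = _
      rw [her₁, her₂]
      rfl
    · rintro Y g₁ hNY hYW hgW ⟨Q₁, e₁, he₁, her₁⟩
      have hQ₁ := himg Y g₁ Q₁ e₁ hNY hYW he₁ her₁
      subst hQ₁
      obtain ⟨e', he', hl, -⟩ := c.chain_symm he₁
      refine ⟨_, e', he', fun r => ?_⟩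
      obtain ⟨r', rfl⟩ := (g₁ : MulAut R).surjective r
      rw [← her₁, hl _ (hUR Y hNY r'.2)]
      simp
    · rintro Y Y' g₁ hNY' hY'Y hYW hgW ⟨Q₁, e₁, he₁, her₁⟩
      have hle : U Y' ≤ U Y := fun x hx => by
        obtain ⟨h1, h2, w, hw, hwe⟩ := mem_normPre.mp hx
        exact mem_normPre.mpr ⟨h1, h2, w, hY'Y hw, hwe⟩
      obtain ⟨Q', hQ', -, -⟩ := c.chain_restrict he₁ hle (hZU Y' hNY')
      exact ⟨Q', e₁, hQ', her₁⟩
    · intro w hw
      rw [hWeq] at hw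
      obtain ⟨t, ht, htn, hte⟩ := mem_autInducedBy_iff.mp (Subgroup.mem_subgroupOf.mp hw)
      obtain ⟨Q, hQ⟩ := c.chain_conj (hZU _ (fun x hx => by rw [hWeq]; exact hInn hx))
        ((hU (W : Subgroup A)).trans normalizerIn_le) ht
      exact ⟨Q, _, hQ, fun r => (hte r).symm⟩
    · intro Y a hNY hYW haN hord
      have haM : (a : MulAut R) ∈ autM θ D Z Eb R := c.autG_le hR.leZ hR.leT a.2
      have hord' : ¬ p ∣ orderOf (a : MulAut R) := by rwa [Subgroup.orderOf_coe]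
      set L := U Y with hLdef
      have hLN : L ≤ normalizerIn 𝕋 R := hU Y
      have hLT : L ≤ 𝕋 := hLN.trans normalizerIn_le
      have hconj : ∀ x ∈ L, ∀ hxn : x ∈ Subgroup.normalizer (R : Set Ω),
          ∃ w ∈ Y, (w : MulAut R) = (a : MulAut R) * cAut R x hxn * (a : MulAut R)⁻¹ := by
        intro x hx hxn
        obtain ⟨-, _, w, hw, hwe⟩ := mem_normPre.mp hx
        refine ⟨a * w * a⁻¹, (Subgroup.mem_normalizer_iff.mp haN w).mp hw, ?_⟩
        show (a : MulAut R) * A.subtype w * (a : MulAut R)⁻¹ = _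
        rw [hwe]
      have hW' : ∀ x ∈ L, ∀ hxn : x ∈ Subgroup.normalizer (R : Set Ω),
          (a : MulAut R) * cAut R x hxn * (a : MulAut R)⁻¹ ∈ autInducedBy 𝕋 R := fun x hx hxn => by
        obtain ⟨w, hw, hwe⟩ := hconj x hx hxn
        have h1 := hYW hw
        rw [hWeq] at h1
        exact hwe ▸ Subgroup.mem_subgroupOf.mp h1
      obtain ⟨ψ, hψ, hψe⟩ := exists_extension_of_normalizes (c.hD.isReceptive_of_isFullyNormalized c.hS hn)
        (c.autM_le hR.leT haM) (fun x hx => ⟨c.T_le (hLN hx).1, (hLN hx).2⟩ : L ≤ normalizerIn S R)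
        (fun x hx hxn => autInducedBy_mono c.T_le (hW' x hx hxn))
      have hRLe : R ⊔ L = L := sup_eq_right.mpr (hUR Y hNY)
      set b := funOf ψ
      have hb0 : D.IsIso (R ⊔ L) ψ.range b := isIso_funOf hψ
      have hbR : ∀ r : R, b r = ((a : MulAut R) r : R) := fun r => by
        rw [← hψe r]; exact (funOf_apply ψ ⟨r, Subgroup.mem_sup_left r.2⟩).symm
      generalize ψ.range = B at hb0
      rw [hRLe] at hb0
      have hbL : ∀ x ∈ L, b x ∈ L := fun x hx => by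
        obtain ⟨hbn, hbe⟩ := c.cAut_conj_of_iso hb0 (hUR Y hNY) hbR hx (hLN hx).2
        obtain ⟨w, hw, hwe⟩ := hconj x hx (hLN hx).2
        exact mem_normPre.mpr ⟨c.T_closed.iso_mem hb0 hx (hLT hx), hbn, w, hw, hwe.trans hbe.symm⟩
      have hb : D.IsIso L L b := isIso_self hb0 le_rfl hbL
      haveI := finite_mulAut_of_le (hLT.trans c.T_le)
      obtain ⟨j, hjR, m, hm, hper⟩ := exists_iterate_pprime (A := (R : Subgroup Ω)) hb hord'
        fun x hx => by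
          rw [← coe_pow_apply (fun r : R => (hbR r).symm) (orderOf (a : MulAut R)) ⟨x, hx⟩, pow_orderOf_eq_one]
          rfl
      obtain ⟨β, hβ, hβe⟩ := (iterate_isIso hb j).toAut
      have hordβ : ¬ p ∣ orderOf β := fun hdvd => hm (hdvd.trans (orderOf_dvd_of_pow_eq_one (MulEquiv.ext fun x =>
        Subtype.ext ((coe_pow_apply hβe m x).trans (hper x x.2)))))
      have hβR : ∀ r : R, (b^[j]) r = ((a : MulAut R) r : R) := fun r => (hjR r r.2).trans (hbR r)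
      have hLH : InH θ Z Eb L := c.inH_of_le hR (hUR Y hNY) hLT
      exact ⟨L, b^[j], c.chain_of_autGood hLH (c.autGood_prime hLH
        (c.autM_of_extension hR hn haM (hUR Y hNY) hLN hW' hβ hordβ
          fun r hr => by rw [hβe]; exact hβR r) hordβ) hβe, hβR⟩
  have hYA : autInducedBy L R ≤ A := (autInducedBy_mono (hL.trans normalizerIn_le)).trans hWA
  have hcL : ∀ (t : Ω) (ht : t ∈ L), cAut R t (hL ht).2 ∈ autInducedBy L R := fun t ht =>
    mem_autInducedBy_iff.mpr ⟨t, ht, (hL ht).2, fun _ => rfl⟩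
  obtain ⟨Q, e, he, her⟩ := hmain ((autInducedBy L R).subgroupOf A) (fun x hx => by
      have hx' : (x : MulAut R) ∈ Inn R := hx
      rw [inn_eq_autInducedBy] at hx'
      exact autInducedBy_mono hRL hx')
    (by rw [hWeq]; exact fun x hx => autInducedBy_mono (hL.trans normalizerIn_le) hx) ⟨g, hg⟩
    (fun y hy => by
      rw [hWeq]
      obtain ⟨t, ht, htn, hte⟩ := mem_autInducedBy_iff.mp (Subgroup.mem_subgroupOf.mp hy)
      have h1 := hW t ht htn
      rwa [show cAut R t htn = (y : MulAut R) from MulEquiv.ext fun x => Subtype.ext (hte x).symm] at h1)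
  have hLU : L ≤ U ((autInducedBy L R).subgroupOf A) := fun t ht =>
    mem_normPre.mpr ⟨(hL ht).1, (hL ht).2, ⟨_, hYA (hcL t ht)⟩, hcL t ht, rfl⟩
  obtain ⟨Q', hQ', -, -⟩ := c.chain_restrict he hLU (hR.leZ.trans hRL)
  exact ⟨Q', e, hQ', her⟩

/-- A chain of larger subgroups of the normaliser. -/
theorem good_step (hR : InH θ Z Eb R) (hn : D.IsFullyNormalized R)
    (hIH : ∀ L, InH θ Z Eb L → Nat.card R < Nat.card L → GoodAt θ D Z Eb p L)
    {L L' : Subgroup Ω} (hf : Chain θ D Z Eb p L L' f) (hRL : R ≤ L) (hne : Nat.card R < Nat.card L)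
    (hL : L ≤ normalizerIn 𝕋 R) (hL' : L' ≤ normalizerIn 𝕋 R) {α : MulAut R}
    (he : ∀ x : R, ((α x : R) : Ω) = f x) : α ∈ autGood θ D Z Eb p R := by
  have hRS := hR.le_S
  haveI := finite_of_le hRS
  haveI := finite_mulAut_of_le hRS
  have hi := (c.chain_mmap hf).iso
  have hm : MMap θ D Z Eb R R f := c.mmap_restrict' (c.chain_mmap hf) hRL hR.leZ fun y =>
    ⟨fun hy => ⟨_, (α⁻¹ ⟨y, hy⟩).2, by rw [← he, MulAut.apply_inv_self]⟩,
      fun ⟨x, hx, e⟩ => e ▸ he ⟨x, hx⟩ ▸ SetLike.coe_mem _⟩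
  have h1 := c.autGood_decomp hR ((c.mem_autM hR.leZ hR.leT).mpr ⟨f, hm, he⟩)
  rw [← SetLike.mem_coe, Subgroup.coe_mul_of_left_le_normalizer_right _ _ (fun a ha =>
    Subgroup.mem_normalizer_iff.mpr fun b => ⟨fun hb => c.autK_normal hRS hb (c.autM_le hR.leT (c.autGood_le hR ha)),
      fun hb => by
        have := c.autK_normal hRS hb (Subgroup.inv_mem _ (c.autM_le hR.leT (c.autGood_le hR ha)))
        simpa [mul_assoc] using this⟩)] at h1
  obtain ⟨g, hg, k, hk, hgk⟩ := h1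
  have hInn : Inn R ≤ autInducedBy 𝕋 R := c.inner_le_autInduced hR.leT
  -- conjugation by `g`
  have key : ∀ l ∈ L, ∀ hln : l ∈ Subgroup.normalizer (R : Set Ω), ∃ hn' : f l ∈ Subgroup.normalizer (R : Set Ω),
      (cAut R (f l) hn')⁻¹ * (g * cAut R l hln * g⁻¹) ∈ Inn R := by
    intro l hl hln
    obtain ⟨hn', hce⟩ := c.cAut_conj_of_iso hi hRL (fun r => (he r).symm) hl hln
    refine ⟨hn', ?_⟩
    set w := cAut R l hln
    have hw : w ∈ autInducedBy 𝕋 R := mem_autInducedBy_iff.mpr ⟨l, (hL hl).1, hln, fun _ => rfl⟩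
    have hcomm := c.inner_kernel_comm hR hn hk (Subgroup.inv_mem _ hw)
    rw [inv_inv] at hcomm
    have e : (cAut R (f l) hn')⁻¹ * (g * w * g⁻¹) =
        g * (w⁻¹ * k * w * k⁻¹)⁻¹ * g⁻¹ := by
      rw [hce, ← hgk]
      group
    rw [e]
    exact (innNormal _).conj_mem _ (Subgroup.inv_mem _ hcomm) g
  have hgW : ∀ l ∈ L, ∀ hln : l ∈ Subgroup.normalizer (R : Set Ω), g * cAut R l hln * g⁻¹ ∈ autInducedBy 𝕋 R := by
    intro l hl hln
    obtain ⟨hn', h⟩ := key l hl hln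
    have := Subgroup.mul_mem _ (mem_autInducedBy_iff.mpr ⟨f l, (hL' (hi.mem hl)).1, hn', fun _ => rfl⟩ :
      cAut R (f l) hn' ∈ autInducedBy 𝕋 R) (hInn h)
    rwa [mul_inv_cancel_left] at this
  obtain ⟨Q, e, he', her⟩ := c.extProp_fn hR hn g hg L hRL hL hgW
  have hei := (c.chain_mmap he').iso
  have hRL' : R ≤ L' := fun r hr => by
    have := hi.mem (hRL (α⁻¹ ⟨r, hr⟩).2)
    rwa [← he, MulAut.apply_inv_self] at this
  have hQ : Q = L' := by
    haveI := finite_of_le hi.le_right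
    refine Subgroup.eq_of_le_of_card_ge (fun y hy => ?_) (hei.card_eq.symm.trans hi.card_eq).ge
    obtain ⟨l, hl, rfl⟩ := hei.surj hy
    have hln := (hL hl).2
    obtain ⟨hn', h⟩ := key l hl hln
    obtain ⟨hen, hee⟩ := c.cAut_conj_of_iso hei hRL her hl hln
    rw [← hee, inn_eq_autInducedBy] at h
    obtain ⟨r, hr, hrn, hre⟩ := mem_autInducedBy_iff.mp h
    have hmem : (f l * r)⁻¹ * e l ∈ centralizerIn 𝕋 R := by
      refine ⟨Subgroup.mul_mem _ (Subgroup.inv_mem _ (Subgroup.mul_mem _ (hL' (hi.mem hl)).1 (hR.leT hr)))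
        (c.chain_le_T he' (hei.mem hl)), Subgroup.mem_centralizer_iff.mpr fun x hx => ?_⟩
      have h2 := hre ⟨x, hx⟩
      rw [MulAut.mul_apply, ← map_inv, cAut_apply] at h2
      have h3 : (f l)⁻¹ * (e l * x * (e l)⁻¹) * f l = r * x * r⁻¹ := by
        rw [← h2]
        simp [Subgroup.normalizerMonoidHom_apply_apply_coe]
      calc x * ((f l * r)⁻¹ * e l) = r⁻¹ * (r * x * r⁻¹) * (f l)⁻¹ * e l := by group
        _ = (f l * r)⁻¹ * e l * x := by rw [← h3]; group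
    have := L'.mul_mem (L'.mul_mem (hi.mem hl) (hRL' hr)) (hRL' (c.centralizer_le hR hmem))
    rwa [mul_inv_cancel_left] at this
  subst hQ
  obtain ⟨e', he'', hl, -⟩ := c.chain_symm he'
  have hψ : Chain θ D Z Eb p L L fun x => e' (f x) := .comp hf he''
  obtain ⟨β, -, hβe⟩ := (c.chain_mmap hψ).iso.toAut
  have hLH : InH θ Z Eb L := c.inH_of_le hR hRL (hL.trans normalizerIn_le)
  have hres := c.autGood_restrict hLH hR hRL (hIH L hLH hne _ β hψ hβe) (β := g⁻¹ * α) fun x => by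
    rw [hβe]
    show e' (f x) = _
    rw [← he x, MulAut.mul_apply]
    have h4 := her (g⁻¹ (α x))
    rw [MulAut.apply_inv_self] at h4
    rw [← h4, hl _ (hRL (SetLike.coe_mem _))]
  have := Subgroup.mul_mem _ hg hres
  rwa [mul_inv_cancel_left] at this

/-- A chain moving the normaliser into that of a fully normalised subgroup. -/
theorem exists_chain_move (hR : InH θ Z Eb R) (hn : D.IsFullyNormalized R) (hf : Chain θ D Z Eb p P R f) :
    ∃ e L, Chain θ D Z Eb p (normalizerIn 𝕋 P) L e ∧ L ≤ normalizerIn 𝕋 R ∧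
      ∀ y, y ∈ R ↔ ∃ x ∈ P, e x = y := by
  haveI := c.finite'
  haveI := c.finiteT
  have hm := c.chain_mmap hf
  obtain ⟨fb, hfb, -⟩ := hm.ind
  obtain ⟨φ, hφ, hr, ψ, hψ, -, hψe⟩ := c.sat.exists_map_to_fullyNormalized (c.isPGroup'.to_le c.Tb_closed.1)
    (c.bar_fullyNormalized hR.leZ hR.leT hn) hfb.isConj
  have hi := isIso_funOf hψ
  set N := normalizerIn 𝕋 P
  have hPN : P ≤ N := le_normalizerIn hm.leT
  have hNS : N ≤ S := normalizerIn_le.trans c.T_le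
  have hψS : ψ.range ≤ S' := hi.le_right.trans c.Tb_closed.1
  have hbarN : bar θ N = normalizerIn T' (bar θ P) := c.bar_normalizerIn hm.iso.le_left hm.leZ
  have hi' : Eb.IsIso (bar θ N) ψ.range (funOf ψ) := hbarN.symm ▸ hi
  obtain ⟨m, hm', hme⟩ := c.exists_lift (P := N) (Q := preimageAlong θ ψ.range) hNS (hm.leZ.trans hPN)
    preimageAlong_le (c.Z_le_pre _) (by rw [c.bar_pre hψS]; exact hi'.mono c.invariant.1)
  obtain ⟨e, he, hee⟩ := c.exists_chain (θ := θ) (P := N) (Q := preimageAlong θ ψ.range) (f := m)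
    ⟨hm.leZ.trans hPN, normalizerIn_le, hm', _, by rw [c.bar_pre hψS]; exact hi', hme⟩
  have heP : ∀ x ∈ P, e x ∈ R := fun x hx => by
    rw [← c.pre_bar hR.leZ hR.le_S, c.mem_pre]
    refine ⟨(c.chain_mmap he).iso.le_right ((c.chain_mmap he).iso.mem (hPN hx)), ?_⟩
    rw [hee x (hPN hx), ← hme x (hPN hx)]
    have hx' := thetaF_mem_bar (θ := θ) hm.iso.le_left hx
    rw [← funOf_apply ψ ⟨_, hbarN ▸ bar_mono hPN hx'⟩, hψe ⟨_, hx'⟩]
    exact hr.le ⟨_, rfl⟩
  obtain ⟨R', hPR', -, hR'⟩ := (c.chain_mmap he).iso.restrict hPN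
  have hR'R : R' = R := by
    haveI := finite_of_le hR.le_S
    refine Subgroup.eq_of_le_of_card_ge (fun y hy => ?_) (hm.iso.card_eq.symm.trans hPR'.card_eq).le
    obtain ⟨x, hx, rfl⟩ := (hR' y).mp hy
    exact heP x hx
  subst hR'R
  refine ⟨e, _, he, fun y hy => ?_, hR'⟩
  obtain ⟨x, hx, rfl⟩ := (c.chain_mmap he).iso.surj hy
  exact ⟨c.chain_le_T he hy, (c.chain_mmap he).iso.mem_normalizer hPN hR' hx hx.2⟩

theorem goodAt_top : GoodAt θ D Z Eb p 𝕋 := by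
  suffices H : ∀ (P Q : Subgroup Ω) (f : Ω → Ω), Chain θ D Z Eb p P Q f → P = 𝕋 →
      ∃ α ∈ autGood θ D Z Eb p 𝕋, ∀ x : ↥(𝕋), ((α x : ↥(𝕋)) : Ω) = f x by
    intro f α hf he
    obtain ⟨β, hβ, hβe⟩ := H _ _ f hf rfl
    rwa [show α = β from MulEquiv.ext fun x => Subtype.ext ((he x).trans (hβe x).symm)]
  haveI := finite_of_le (c.T_le : 𝕋 ≤ S)
  intro P Q f hf
  induction hf with
  | base hR hα he hZ hPR hQ =>
    intro hP
    subst hP
    obtain rfl := le_antisymm hR.leT hPR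
    exact ⟨_, hα, he⟩
  | @comp P Q W f g hf hg ih1 ih2 =>
    intro hP
    subst hP
    obtain ⟨a, ha, hae⟩ := ih1 rfl
    have hQ : Q = 𝕋 := Subgroup.eq_of_le_of_card_ge (c.chain_mmap hg).leT (c.chain_mmap hf).iso.card_eq.le
    obtain ⟨b, hb, hbe⟩ := ih2 hQ
    exact ⟨b * a, Subgroup.mul_mem _ hb ha, fun x => by rw [MulAut.mul_apply, hbe, hae]⟩
  | @congr P Q f g hf he ih =>
    intro hP
    obtain ⟨a, ha, hae⟩ := ih hP
    exact ⟨a, ha, fun x => by rw [hae, he x (hP ▸ x.2)]⟩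

/-- The main case. -/
theorem goodAt_fn (hR : InH θ Z Eb R) (hn : D.IsFullyNormalized R)
    (hIH : ∀ L, InH θ Z Eb L → Nat.card R < Nat.card L → GoodAt θ D Z Eb p L) : GoodAt θ D Z Eb p R := by
  by_cases hRT : R = 𝕋
  · rw [hRT]
    exact c.goodAt_top
  have hRS := hR.le_S
  haveI := finite_of_le hRS
  suffices H : ∀ (P Q : Subgroup Ω) (f : Ω → Ω), Chain θ D Z Eb p P Q f →
      ∀ (e₀ : Ω → Ω), Chain θ D Z Eb p P R e₀ →
      ∀ (hP : Ω → Ω) (L : Subgroup Ω), Chain θ D Z Eb p (normalizerIn 𝕋 P) L hP → L ≤ normalizerIn 𝕋 R →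
        (∀ y, y ∈ R ↔ ∃ x ∈ P, hP x = y) →
      ∀ (hQ : Ω → Ω) (L' : Subgroup Ω), Chain θ D Z Eb p (normalizerIn 𝕋 Q) L' hQ → L' ≤ normalizerIn 𝕋 R →
        (∀ y, y ∈ R ↔ ∃ x ∈ Q, hQ x = y) →
      ∀ α : MulAut R, (∀ (x : Ω) (hx : hP x ∈ R), x ∈ P → ((α ⟨hP x, hx⟩ : R) : Ω) = hQ (f x)) →
        α ∈ autGood θ D Z Eb p R by
    intro f α hf he
    have hN := c.chain_refl (hR.leZ.trans (le_normalizerIn hR.leT)) (normalizerIn_le (S := 𝕋) (P := R))
    have hid : ∀ y, y ∈ R ↔ ∃ x ∈ R, x = y := fun y => ⟨fun hy => ⟨y, hy, rfl⟩, fun ⟨x, hx, e⟩ => e ▸ hx⟩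
    exact H R R f hf _ hf _ _ hN le_rfl hid _ _ hN le_rfl hid α fun x hx _ => he ⟨x, hx⟩
  intro P Q f hf
  induction hf with
  | @base P Q A f α₀ hA hα₀ hα₀e hZ hPA hQimg =>
    intro e₀ he₀ hP L hPc hL hPR hQ L' hQc hL' hQR α hα
    have hi := (c.chain_mmap hPc).iso
    have hj := (c.chain_mmap hQc).iso
    have hPT : P ≤ 𝕋 := hPA.trans hA.leT
    have hPN : P ≤ normalizerIn 𝕋 P := le_normalizerIn hPT
    have hcard : Nat.card P = Nat.card R := (c.chain_mmap he₀).iso.card_eq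
    haveI := finite_of_le hA.le_S
    have hPR' := hi.restrict' hPN hPR
    have hRL : ∀ (L₀ : Subgroup Ω) (M : Subgroup Ω), P ≤ M → (∀ y, y ∈ L₀ ↔ ∃ x ∈ M, hP x = y) → R ≤ L₀ :=
      fun L₀ M hPM hm r hr => by
        obtain ⟨x, hx, e⟩ := (hPR r).mp hr
        exact (hm r).mpr ⟨x, hPM hx, e⟩
    rcases eq_or_lt_of_le hPA with hPeq | hlt
    · subst hPeq
      obtain rfl : Q = P := Subgroup.ext fun y => (hQimg y).trans
        ⟨fun ⟨x, hx, e⟩ => e ▸ hα₀e ⟨x, hx⟩ ▸ SetLike.coe_mem _,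
          fun hy => ⟨_, (α₀⁻¹ ⟨y, hy⟩).2, by rw [← hα₀e, MulAut.apply_inv_self]⟩⟩
      obtain ⟨k, hk, hkl, -⟩ := c.chain_symm hPc
      have hNlt : Q < normalizerIn 𝕋 Q := c.normalizer_lt hPT fun e =>
        haveI := finite_of_le (c.T_le : 𝕋 ≤ S)
        hRT (Subgroup.eq_of_le_of_card_ge hR.leT (by rw [← hcard, e]))
      haveI := finite_of_le (normalizerIn_le.trans c.T_le : normalizerIn 𝕋 Q ≤ S)
      have hcL : Nat.card R < Nat.card L := by
        rw [← hcard, ← hi.card_eq]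
        exact card_lt_of_lt hNlt
      have hRL' := hRL L _ hPN fun y => ⟨hi.surj, fun ⟨x, hx, e⟩ => e ▸ hi.mem hx⟩
      have hj' := hj.restrict' hPN hQR
      obtain ⟨k', hk', hkl', -⟩ := hPR'.symm
      obtain ⟨δ, -, hδ⟩ := (hk'.comp hj').toAut
      have hδg : δ ∈ autGood θ D Z Eb p R := c.good_step hR hn hIH (.comp hk hQc) hRL' hcL hL hL' fun x => by
        obtain ⟨y, hy, hxy⟩ := (hPR x).mp x.2
        rw [hδ, ← hxy]
        show hQ (k' (hP y)) = hQ (k (hP y))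
        rw [hkl' y hy, hkl y (hPN hy)]
      obtain ⟨Φ, hΦ⟩ := exists_transp hPR'
      have h2 := Subgroup.mul_mem _ hδg (c.autGood_transp hA hPR' hΦ hα₀)
      suffices hαe : α = δ * Φ α₀ by rwa [hαe]
      refine MulEquiv.ext fun r => ?_
      obtain ⟨x, hx, hxr⟩ := (hPR r).mp r.2
      have hm : hP x ∈ R := hxr ▸ r.2
      rw [show r = ⟨hP x, hm⟩ from Subtype.ext hxr.symm]
      apply Subtype.ext
      rw [hα x hm hx, MulAut.mul_apply, hδ]
      show _ = hQ (k' _)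
      rw [hΦ α₀ ⟨x, hx⟩ hm, hkl' _ (SetLike.coe_mem _), hα₀e]
    · set M := normalizerIn A P
      have hPM : P < M := lt_normalizerIn (c.hS.to_le hA.le_S) hlt
      have hMN : M ≤ normalizerIn 𝕋 P := fun x hx => ⟨hA.leT hx.1, hx.2⟩
      have hMA : M ≤ A := normalizerIn_le
      have hZM : Z ≤ M := hZ.trans hPM.le
      obtain ⟨L₀, hL₀, hL₀le, hL₀m⟩ := c.chain_restrict hPc hMN hZM
      obtain ⟨k, hk, hkl, -⟩ := c.chain_symm hL₀
      have hfA := c.chain_of_autGood hA hα₀ hα₀e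
      obtain ⟨M', hM', hM'A, -⟩ := c.chain_restrict hfA hMA hZM
      have hM'N : M' ≤ normalizerIn 𝕋 Q := fun y hy => by
        obtain ⟨x, hx, rfl⟩ := (c.chain_mmap hM').iso.surj hy
        exact ⟨hA.leT (hM'A hy), (c.chain_mmap hM').iso.mem_normalizer hPM.le hQimg hx hx.2⟩
      obtain ⟨L₁, hL₁, hL₁le, -⟩ := c.chain_restrict hQc hM'N (c.mmap_leZ (c.chain_mmap hM'))
      haveI := finite_of_le (hMA.trans hA.le_S)
      have hcL : Nat.card R < Nat.card L₀ := by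
        rw [← hcard, ← (c.chain_mmap hL₀).iso.card_eq]
        exact card_lt_of_lt hPM
      refine c.good_step hR hn hIH (.comp (.comp hk hM') hL₁) (hRL L₀ M hPM.le hL₀m) hcL (hL₀le.trans hL)
        (hL₁le.trans hL') fun r => ?_
      obtain ⟨x, hx, hxr⟩ := (hPR r).mp r.2
      have hm : hP x ∈ R := hxr ▸ r.2
      rw [show r = ⟨hP x, hm⟩ from Subtype.ext hxr.symm, hα x hm hx]
      show hQ (f x) = hQ (f (k (hP x)))
      rw [hkl x (hPM.le hx)]
  | @comp P Q W f g hf hg ih1 ih2 =>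
    intro e₀ he₀ hP L hPc hL hPR hW L' hWc hL' hWR α hα
    obtain ⟨f', hf', -, -⟩ := c.chain_symm hf
    have he₁ : Chain θ D Z Eb p Q R fun x => e₀ (f' x) := .comp hf' he₀
    obtain ⟨hQ, LQ, hQc, hLQ, hQR⟩ := c.exists_chain_move hR hn he₁
    have hPT : P ≤ 𝕋 := (c.chain_mmap hf).leT
    have hQT : Q ≤ 𝕋 := (c.chain_mmap hg).leT
    have hi1 := ((c.chain_mmap hPc).iso.restrict' (le_normalizerIn hPT) hPR)
    have hi2 := ((c.chain_mmap hQc).iso.restrict' (le_normalizerIn hQT) hQR)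
    obtain ⟨k, hk, hkl, -⟩ := hi1.symm
    obtain ⟨α₁, -, hα₁⟩ := ((hk.comp (c.chain_mmap hf).iso).comp hi2).toAut
    have h1 := ih1 e₀ he₀ hP L hPc hL hPR hQ LQ hQc hLQ hQR α₁ fun x hx hxP => by
      rw [hα₁]
      show hQ (f (k (hP x))) = _
      rw [hkl x hxP]
    have h2 := ih2 _ he₁ hQ LQ hQc hLQ hQR hW L' hWc hL' hWR (α * α₁⁻¹) fun y hy hyQ => by
      obtain ⟨x, hx, rfl⟩ := (c.chain_mmap hf).iso.surj hyQ
      have hpx : hP x ∈ R := (hPR _).mpr ⟨x, hx, rfl⟩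
      have e : α₁⁻¹ ⟨hQ (f x), hy⟩ = ⟨hP x, hpx⟩ := by
        apply α₁.injective
        rw [MulAut.apply_inv_self]
        apply Subtype.ext
        rw [hα₁]
        show _ = hQ (f (k (hP x)))
        rw [hkl x hx]
      rw [MulAut.mul_apply, e, hα x hpx hx]
    have := Subgroup.mul_mem _ h2 h1
    rwa [inv_mul_cancel_right] at this
  | @congr P Q f g hf he ih =>
    intro e₀ he₀ hP L hPc hL hPR hQ L' hQc hL' hQR α hα
    exact ih e₀ he₀ hP L hPc hL hPR hQ L' hQc hL' hQR α fun x hx hxP => by rw [hα x hx hxP, he x hxP]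

end Ctx

end Cfsg.FusionSystem.CentralLift
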