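import Cfsg.Agent.Lib.Fusion.CentralLift.CentralStep

/-!
The complement to the kernel in the automisers, at every centric subgroup.
-/

set_option autoImplicit false
set_option linter.unusedSectionVars false
set_option linter.style.haveILetI false

namespace Cfsg.FusionSystem.CentralLift

open Cfsg.FusionSystem.SubCent

universe u v

variable {Ω : Type u} [Group Ω] {Ω' : Type v} [Group Ω'] {S Z : Subgroup Ω} {S' T' : Subgroup Ω'}
  {θ : S →* Ω'} {D : FusionSystem S} {Db : FusionSystem S'} {Eb : FusionSystem T'} {p : ℕ}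

local notation "𝕋" => preimageAlong θ T'

/-- The automorphisms of `R` that lie in the complement at a fully normalised conjugate. -/
def autGood (θ : S →* Ω') (D : FusionSystem S) (Z : Subgroup Ω) (Eb : FusionSystem T') (p : ℕ)
    (R : Subgroup Ω) : Subgroup (MulAut R) where
  carrier := {α | ∀ (R₁ : Subgroup Ω) (h : Ω → Ω) (Φ : MulAut R ≃* MulAut R₁), D.IsFullyNormalized R₁ →
    D.IsIso R R₁ h → IsTransp R R₁ h Φ → Φ α ∈ autG θ D Z Eb p R₁}
  one_mem' := fun R₁ h Φ _ _ _ => by rw [map_one]; exact Subgroup.one_mem _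
  mul_mem' := fun {a b} ha hb R₁ h Φ h1 h2 h3 => by
    rw [map_mul]; exact Subgroup.mul_mem _ (ha R₁ h Φ h1 h2 h3) (hb R₁ h Φ h1 h2 h3)
  inv_mem' := fun {a} ha R₁ h Φ h1 h2 h3 => by
    rw [map_inv]; exact Subgroup.inv_mem _ (ha R₁ h Φ h1 h2 h3)

theorem IsTransp.comp {R R₁ R₂ : Subgroup Ω} {h g : Ω → Ω} {Φ : MulAut R ≃* MulAut R₁}
    {Ψ : MulAut R₁ ≃* MulAut R₂} (hΦ : IsTransp R R₁ h Φ) (hΨ : IsTransp R₁ R₂ g Ψ)
    (hh : ∀ x ∈ R, h x ∈ R₁) : IsTransp R R₂ (fun x => g (h x)) (Φ.trans Ψ) := by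
  intro α x hx
  show ((Ψ (Φ α) ⟨g (h x), hx⟩ : R₂) : Ω) = g (h (α x : R))
  rw [hΨ (Φ α) ⟨h x, hh x x.2⟩ hx, hΦ α x (hh x x.2)]

namespace Ctx

variable (c : Ctx p D Z θ Db Eb)
include c

variable [Finite S] [Fact p.Prime] {P Q R R₁ : Subgroup Ω} {f g h : Ω → Ω}

theorem inner_le_autInduced (hR : R ≤ 𝕋) : Inn R ≤ autInducedBy 𝕋 R := by
  rw [inn_eq_autInducedBy]
  exact autInducedBy_mono hR

theorem autM_decomp (hR : InH θ Z Eb R) (hn : D.IsFullyNormalized R) :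
    autM θ D Z Eb R ≤ autG θ D Z Eb p R ⊔ autK D Z R := by
  haveI := finite_of_le hR.le_S
  haveI := finite_mulAut_of_le hR.le_S
  obtain ⟨P, hP⟩ := c.autM_sylow hR hn
  refine Subgroup.subgroupOf_eq_top.mp (eq_top_of_sylow_of_pprime _ P (fun a ha => ?_) fun a ha => ?_)
  · rw [hP] at ha
    exact Subgroup.mem_subgroupOf.mpr ((sup_le_sup_right le_sup_right _ :
      autInducedBy 𝕋 R ⊔ autK D Z R ≤ _) (c.autM_inter' hR hn a.2 (Subgroup.mem_subgroupOf.mp ha)))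
  · exact Subgroup.mem_subgroupOf.mpr (Subgroup.mem_sup_left (Subgroup.mem_sup_left
      (Subgroup.subset_closure ⟨a.2, by rwa [Subgroup.orderOf_coe]⟩)))

theorem autG_normal (hR : InH θ Z Eb R) (hn : D.IsFullyNormalized R) :
    autM θ D Z Eb R ≤ Subgroup.normalizer (autG θ D Z Eb p R : Set (MulAut R)) := by
  haveI := finite_of_le hR.le_S
  haveI := finite_mulAut_of_le hR.le_S
  refine (c.autM_decomp hR hn).trans (sup_le Subgroup.le_normalizer fun k hk => ?_)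
  refine Subgroup.mem_normalizer_fintype fun g hg => ?_
  have hle : autG θ D Z Eb p R ≤ (autG θ D Z Eb p R).comap (MulAut.conj k).toMonoidHom := by
    refine sup_le ((Subgroup.closure_le _).mpr fun a ha => ?_) fun w hw => ?_
    · refine Subgroup.mem_sup_left (Subgroup.subset_closure ⟨Subgroup.mul_mem _ (Subgroup.mul_mem _
        (c.autK_le hR.leZ hR.leT hk) ha.1) (Subgroup.inv_mem _ (c.autK_le hR.leZ hR.leT hk)), ?_⟩)
      show ¬ p ∣ orderOf ((MulAut.conj k) a)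
      rw [MulEquiv.orderOf_eq]
      exact ha.2
    · show k * w * k⁻¹ ∈ autG θ D Z Eb p R
      have h1 := c.inner_le_autInduced hR.leT (c.inner_kernel_comm hR hn hk hw)
      have h2 : k * w * k⁻¹ = (w * k * w⁻¹ * k⁻¹)⁻¹ * w := by group
      rw [h2]
      exact Subgroup.mem_sup_right (Subgroup.mul_mem _ (Subgroup.inv_mem _ h1) hw)
  exact hle hg

theorem autG_inter (hR : InH θ Z Eb R) (hn : D.IsFullyNormalized R) {α : MulAut R}
    (hα : α ∈ autG θ D Z Eb p R) (hS : α ∈ autInducedBy S R) : α ∈ autInducedBy 𝕋 R := by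
  haveI := finite_of_le hR.le_S
  haveI := finite_mulAut_of_le hR.le_S
  set A := autM θ D Z Eb R
  obtain ⟨P, hP⟩ := c.autM_sylow hR hn
  have hW : autInducedBy 𝕋 R ≤ A := c.autInduced_le_autM hR.leZ hR.leT
  have hK : autK D Z R ≤ A := c.autK_le hR.leZ hR.leT
  have hAd := c.autM_le (D := D) (Eb := Eb) hR.leT
  have hWK : (autInducedBy 𝕋 R).subgroupOf A ⊔ (autK D Z R).subgroupOf A = (P : Subgroup A) := by
    rw [← Subgroup.subgroupOf_sup hW hK, hP]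
    ext a
    exact ⟨fun ha => (sup_le (autInducedBy_mono c.T_le) (c.autK_le_autInduced hn) :
      autInducedBy 𝕋 R ⊔ autK D Z R ≤ _) ha, fun ha => c.autM_inter' hR hn a.2 ha⟩
  have hαA : α ∈ A := c.autG_le hR.leZ hR.leT hα
  have hgen : (⟨α, hαA⟩ : A) ∈ primeGen p A ⊔ (autInducedBy 𝕋 R).subgroupOf A := by
    have hle : autG θ D Z Eb p R ≤ (primeGen p A ⊔ (autInducedBy 𝕋 R).subgroupOf A).map A.subtype := by
      refine sup_le ((Subgroup.closure_le _).mpr fun a ha => ?_) fun w hw =>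
        ⟨⟨w, hW hw⟩, Subgroup.mem_sup_right hw, rfl⟩
      exact ⟨⟨a, ha.1⟩, Subgroup.mem_sup_left (Subgroup.subset_closure (by
        show ¬ p ∣ orderOf _
        rw [← Subgroup.orderOf_coe]; exact ha.2)), rfl⟩
    obtain ⟨b, hb, e⟩ := hle hα
    rwa [show (⟨α, hαA⟩ : A) = b from Subtype.ext e.symm]
  haveI hN : ((Inn R).subgroupOf A).Normal := inferInstance
  exact mem_of_strongly_closed P ((Inn R).subgroupOf A) _ _ hN
    (fun a ha => c.inner_le_autInduced hR.leT ha) hWK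
    (fun a k hk => c.central_all hR a a.2 k hk)
    (fun a x hx hax => by
      rw [hP] at hax
      exact c.autInduced_closed hn (hAd a.2) hx hax)
    (by rw [hP]; exact hS) hgen

theorem autG_inf_kernel (hR : InH θ Z Eb R) (hn : D.IsFullyNormalized R) {α : MulAut R}
    (hα : α ∈ autG θ D Z Eb p R) (hK : α ∈ autK D Z R) : α ∈ Inn R := by
  obtain ⟨t, ht, htn, hte⟩ := mem_autInducedBy_iff.mp (c.autG_inter hR hn hα (c.autK_le_autInduced hn hK))
  have e : α = cAut R t htn := MulEquiv.ext fun x => Subtype.ext (hte x)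
  subst e
  exact cAut_inn (c.cAut_autK_inn hR ht htn hK) htn

theorem autG_sylow (hR : InH θ Z Eb R) (hn : D.IsFullyNormalized R) :
    ∃ W : Sylow p (autG θ D Z Eb p R),
      (W : Subgroup (autG θ D Z Eb p R)) = (autInducedBy 𝕋 R).subgroupOf (autG θ D Z Eb p R) := by
  haveI := finite_of_le hR.le_S
  haveI := finite_mulAut_of_le hR.le_S
  obtain ⟨W, hW⟩ := exists_sylow_subgroupOf (c.autG_le hR.leZ hR.leT)
    (fun g hg a ha => (Subgroup.mem_normalizer_iff.mp (c.autG_normal hR hn hg) a).mp ha)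
    (c.autM_sylow hR hn)
  refine ⟨W, hW.trans ?_⟩
  ext a
  exact ⟨fun ha => c.autG_inter hR hn a.2 ha, fun ha => autInducedBy_mono c.T_le ha⟩

theorem autG_stable (hR : InH θ Z Eb R) (hn : D.IsFullyNormalized R) {n α : MulAut R}
    (hn' : n ∈ D.autGroup R) (hα : α ∈ autG θ D Z Eb p R) : n * α * n⁻¹ ∈ autG θ D Z Eb p R := by
  haveI := finite_of_le hR.le_S
  haveI := finite_mulAut_of_le hR.le_S
  set A := autM θ D Z Eb R
  have hAd := c.autM_le (D := D) (Eb := Eb) hR.leT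
  have hconj : ∀ a ∈ A, n * a * n⁻¹ ∈ A := fun a ha => c.autM_normal hR.leZ hR.leT ha hn'
  have hle : autG θ D Z Eb p R ≤ (autG θ D Z Eb p R).comap (MulAut.conj n).toMonoidHom := by
    refine sup_le ((Subgroup.closure_le _).mpr fun a ha => ?_) fun w hw => ?_
    · refine Subgroup.mem_sup_left (Subgroup.subset_closure ⟨hconj a ha.1, ?_⟩)
      show ¬ p ∣ orderOf ((MulAut.conj n) a)
      rw [MulEquiv.orderOf_eq]
      exact ha.2
    · show n * w * n⁻¹ ∈ autG θ D Z Eb p R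
      obtain ⟨P, hP⟩ := c.autM_sylow hR hn
      have hwA : w ∈ A := c.autInduced_le_autM hR.leZ hR.leT hw
      have hwS : w ∈ autInducedBy S R := autInducedBy_mono c.T_le hw
      let Q : Subgroup A := (((P : Subgroup A).map A.subtype).map (MulAut.conj n).toMonoidHom).subgroupOf A
      have hQ : IsPGroup p Q := ((P.2.map _).map _).comap_of_injective _ Subtype.coe_injective
      obtain ⟨a, ha⟩ := exists_conj_mem_sylow P hQ
      have h1 := ha ⟨n * w * n⁻¹, hconj w hwA⟩ (Subgroup.mem_subgroupOf.mpr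
        ⟨w, ⟨⟨w, hwA⟩, by rw [hP]; exact hwS, rfl⟩, rfl⟩)
      rw [hP] at h1
      have h2 : (a : MulAut R) * n * w * ((a : MulAut R) * n)⁻¹ ∈ autInducedBy S R := by
        have h3 := Subgroup.mem_subgroupOf.mp h1
        simpa [mul_assoc] using h3
      have h4 := c.autInduced_closed hn (Subgroup.mul_mem _ (hAd a.2) hn') hw h2
      have h5 := (Subgroup.mem_normalizer_iff''.mp (c.autG_normal hR hn a.2) _).mp
        (Subgroup.mem_sup_right h4 : _ ∈ autG θ D Z Eb p R)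
      simpa [mul_assoc] using h5
  exact hle hα

theorem autG_transp (hR : InH θ Z Eb R) (hn : D.IsFullyNormalized R) (hn₁ : D.IsFullyNormalized R₁)
    (hh : D.IsIso R R₁ h) {Φ : MulAut R ≃* MulAut R₁} (hΦ : IsTransp R R₁ h Φ) {α : MulAut R}
    (hα : α ∈ autG θ D Z Eb p R) : Φ α ∈ autG θ D Z Eb p R₁ := by
  have hR1 := c.inH_image hR hh
  obtain ⟨φ, hφ, hr, ψ, hψ, -, hψe⟩ := c.hD.exists_map_to_fullyNormalized c.hS hn₁ hh.isConj
  have hH := isIso_funOf hψ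
  have hRN : R ≤ normalizerIn S R := le_normalizerIn hR.le_S
  have hh' : D.IsIso R R₁ (funOf ψ) := ⟨φ, hφ, hr, fun x => by
    rw [← hψe x (hRN x.2)]; exact funOf_apply ψ _⟩
  obtain ⟨Φ', hΦ'⟩ := exists_transp hh'
  obtain ⟨g, hg, hgl, -⟩ := hh'.symm
  obtain ⟨n, hn', hne⟩ := (hg.comp hh).toAut
  have key : ∀ a, Φ a = n * Φ' a * n⁻¹ := fun a => hΦ.eq hh fun x hx => by
    have e0 : n ⟨funOf ψ x, hh'.mem x.2⟩ = ⟨h x, hx⟩ := Subtype.ext (by
      rw [hne]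
      show h (g (funOf ψ x)) = _
      rw [hgl x x.2])
    rw [MulAut.mul_apply, MulAut.mul_apply, ← e0, MulAut.inv_apply_self, hne, hΦ' a x (hh'.mem x.2)]
    show h (g (funOf ψ ((a x : R) : Ω))) = _
    rw [hgl _ (SetLike.coe_mem _)]
  rw [key]
  refine c.autG_stable hR1 hn₁ hn' ?_
  have hle : autG θ D Z Eb p R ≤ (autG θ D Z Eb p R₁).comap Φ'.toMonoidHom := by
    refine sup_le ((Subgroup.closure_le _).mpr fun a ha => ?_) fun w hw => ?_
    · refine Subgroup.mem_sup_left (Subgroup.subset_closure ⟨c.transp_autM hR.leZ hR.leT hh' hΦ' ha.1, ?_⟩)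
      show ¬ p ∣ orderOf (Φ' a)
      rw [MulEquiv.orderOf_eq]
      exact ha.2
    · obtain ⟨t, ht, htn, hte⟩ := mem_autInducedBy_iff.mp hw
      obtain ⟨hn2, he⟩ := c.transp_autInduced hh' hΦ' hH (fun _ _ => rfl) hRN ⟨c.T_le ht, htn⟩ htn
      rw [show w = cAut R t htn from MulEquiv.ext fun x => Subtype.ext (hte x)]
      show Φ' (cAut R t htn) ∈ autG θ D Z Eb p R₁
      rw [he]
      exact Subgroup.mem_sup_right (mem_autInducedBy_iff.mpr
        ⟨_, c.T_closed.iso_mem hH ⟨c.T_le ht, htn⟩ ht, hn2, fun _ => rfl⟩)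
  exact hle hα

theorem autGood_of (hR : InH θ Z Eb R) (hn₁ : D.IsFullyNormalized R₁) (hh : D.IsIso R R₁ h)
    {Φ : MulAut R ≃* MulAut R₁} (hΦ : IsTransp R R₁ h Φ) {α : MulAut R} (hα : Φ α ∈ autG θ D Z Eb p R₁) :
    α ∈ autGood θ D Z Eb p R := by
  intro R₂ h₂ Φ₂ hn₂ hh₂ hΦ₂
  obtain ⟨g, hg, hgl, -⟩ := hh.symm
  have := c.autG_transp (c.inH_image hR hh) hn₁ hn₂ (hg.comp hh₂)
    ((hΦ.symm hh hgl).comp hΦ₂ fun x hx => hg.mem hx) hα
  simpa using this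

theorem autGood_fn (hR : InH θ Z Eb R) (hn : D.IsFullyNormalized R) :
    autGood θ D Z Eb p R = autG θ D Z Eb p R := by
  have hid : IsTransp R R (fun x => x) (MulEquiv.refl _) := fun α x hx => rfl
  exact le_antisymm (fun α hα => hα R _ _ hn (IsIso.refl D hR.le_S) hid)
    fun α hα => c.autGood_of hR hn (IsIso.refl D hR.le_S) hid hα

theorem autGood_transp (hR : InH θ Z Eb R) (hh : D.IsIso R R₁ h) {Φ : MulAut R ≃* MulAut R₁}
    (hΦ : IsTransp R R₁ h Φ) {α : MulAut R} (hα : α ∈ autGood θ D Z Eb p R) :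
    Φ α ∈ autGood θ D Z Eb p R₁ :=
  fun R₂ h₂ Φ₂ hn₂ hh₂ hΦ₂ => hα R₂ _ _ hn₂ (hh.comp hh₂) (hΦ.comp hΦ₂ fun _ hx => hh.mem hx)

theorem autGood_le (hR : InH θ Z Eb R) : autGood θ D Z Eb p R ≤ autM θ D Z Eb R := by
  intro α hα
  obtain ⟨R₁, N', h, hn, hh, -⟩ := c.exists_move hR.le_S
  obtain ⟨Φ, hΦ⟩ := exists_transp hh
  obtain ⟨g, hg, hgl, -⟩ := hh.symm
  have hR1 := c.inH_image hR hh
  have := c.transp_autM hR1.leZ hR1.leT hg (hΦ.symm hh hgl) (c.autG_le hR1.leZ hR1.leT (hα R₁ h Φ hn hh hΦ))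
  simpa using this

theorem autGood_prime (hR : InH θ Z Eb R) {α : MulAut R} (hα : α ∈ autM θ D Z Eb R) (hord : ¬ p ∣ orderOf α) :
    α ∈ autGood θ D Z Eb p R := fun R₁ h Φ _ hh hΦ =>
  Subgroup.mem_sup_left (Subgroup.subset_closure
    ⟨c.transp_autM hR.leZ hR.leT hh hΦ hα, by rwa [MulEquiv.orderOf_eq]⟩)

theorem autGood_inner (hR : InH θ Z Eb R) : autInducedBy 𝕋 R ≤ autGood θ D Z Eb p R := by
  intro w hw
  obtain ⟨R₁, N', h, hn, hh, hH⟩ := c.exists_move hR.le_S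
  obtain ⟨Φ, hΦ⟩ := exists_transp hh
  obtain ⟨t, ht, htn, hte⟩ := mem_autInducedBy_iff.mp hw
  obtain ⟨hn2, he⟩ := c.transp_autInduced hh hΦ hH (fun _ _ => rfl) (le_normalizerIn hR.le_S) ⟨c.T_le ht, htn⟩ htn
  refine c.autGood_of hR hn hh hΦ ?_
  rw [show w = cAut R t htn from MulEquiv.ext fun x => Subtype.ext (hte x), he]
  exact Subgroup.mem_sup_right (mem_autInducedBy_iff.mpr
    ⟨_, c.T_closed.iso_mem hH ⟨c.T_le ht, htn⟩ ht, hn2, fun _ => rfl⟩)

theorem autGood_decomp (hR : InH θ Z Eb R) : autM θ D Z Eb R ≤ autGood θ D Z Eb p R ⊔ autK D Z R := by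
  intro α hα
  obtain ⟨R₁, N', h, hn, hh, -⟩ := c.exists_move hR.le_S
  obtain ⟨Φ, hΦ⟩ := exists_transp hh
  obtain ⟨g, hg, hgl, -⟩ := hh.symm
  have hR1 := c.inH_image hR hh
  have h1 := c.autM_decomp hR1 hn (c.transp_autM hR.leZ hR.leT hh hΦ hα)
  have hle : autG θ D Z Eb p R₁ ⊔ autK D Z R₁ ≤ (autGood θ D Z Eb p R ⊔ autK D Z R).comap Φ.symm.toMonoidHom :=
    sup_le (fun b hb => Subgroup.mem_sup_left (c.autGood_of hR hn hh hΦ (by simpa using hb)))
      fun b hb => Subgroup.mem_sup_right (c.transp_autK hR1.leZ hg (hΦ.symm hh hgl) hb)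
  simpa using hle h1

theorem autGood_inf_kernel (hR : InH θ Z Eb R) {α : MulAut R} (hα : α ∈ autGood θ D Z Eb p R)
    (hK : α ∈ autK D Z R) : α ∈ Inn R := by
  obtain ⟨R₁, N', h, hn, hh, -⟩ := c.exists_move hR.le_S
  obtain ⟨Φ, hΦ⟩ := exists_transp hh
  obtain ⟨g, hg, hgl, -⟩ := hh.symm
  have := c.transp_inn hg (hΦ.symm hh hgl) (c.autG_inf_kernel (c.inH_image hR hh) hn (hα R₁ h Φ hn hh hΦ)
    (c.transp_autK hR.leZ hh hΦ hK))
  simpa using this

/-- The complement is closed under restriction. -/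
theorem autGood_restrict (hQ : InH θ Z Eb Q) (hR : InH θ Z Eb R) (hRQ : R ≤ Q) {α : MulAut Q}
    (hα : α ∈ autGood θ D Z Eb p Q) {β : MulAut R}
    (he : ∀ x : R, ((α ⟨x, hRQ x.2⟩ : Q) : Ω) = (β x : R)) : β ∈ autGood θ D Z Eb p R := by
  haveI := finite_of_le hQ.le_S
  haveI := finite_of_le hR.le_S
  haveI := finite_mulAut_of_le hQ.le_S
  haveI := finite_mulAut_of_le hR.le_S
  have hpow : ∀ (j : ℕ) (x : R), (((α ^ j) ⟨x, hRQ x.2⟩ : Q) : Ω) = ((β ^ j) x : R) := by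
    intro j
    induction j with
    | zero => intro x; rfl
    | succ j ih =>
      intro x
      rw [pow_succ', pow_succ', MulAut.mul_apply, MulAut.mul_apply, ← he]
      congr 2
      exact Subtype.ext (ih x)
  obtain ⟨a, m, hpm, ham⟩ := Nat.exists_eq_pow_mul_and_not_dvd (orderOf_pos α).ne' p (Fact.out : p.Prime).ne_one
  have hone : ∀ j, α ^ j = 1 → β ^ j = 1 := fun j hj => MulEquiv.ext fun x => Subtype.ext (by
    rw [← hpow, hj]; rfl)
  have hβA : β ∈ autM θ D Z Eb R := by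
    obtain ⟨f, hf, hfe⟩ := (c.mem_autM hQ.leZ hQ.leT).mp (c.autGood_le hQ hα)
    refine (c.mem_autM hR.leZ hR.leT).mpr ⟨f, c.mmap_restrict' hf hRQ hR.leZ (fun y => ⟨fun hy =>
      ⟨_, (β⁻¹ ⟨y, hy⟩).2, ?_⟩, fun ⟨x, hx, e⟩ => ?_⟩), fun x => (he x).symm.trans (hfe _)⟩
    · rw [← hfe ⟨_, hRQ (β⁻¹ ⟨y, hy⟩).2⟩, he, MulAut.apply_inv_self]
    · rw [← e, ← hfe ⟨x, hRQ hx⟩, he ⟨x, hx⟩]
      exact SetLike.coe_mem _
  -- the part of order prime to `p`
  have h1 : β ^ p ^ a ∈ autGood θ D Z Eb p R := by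
    refine c.autGood_prime hR (Subgroup.pow_mem _ hβA _) fun hd => hpm (hd.trans ?_)
    exact orderOf_dvd_of_pow_eq_one (by rw [← pow_mul]; exact hone _ (ham ▸ pow_orderOf_eq_one α))
  -- the part of `p`-power order
  have h2 : β ^ m ∈ autGood θ D Z Eb p R := by
    obtain ⟨Q₁, N', h, hn, hh, -⟩ := c.exists_move hQ.le_S
    obtain ⟨Φ, hΦ⟩ := exists_transp hh
    have hQ1 := c.inH_image hQ hh
    haveI := finite_of_le hQ1.le_S
    haveI := finite_mulAut_of_le hQ1.le_S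
    obtain ⟨W, hW⟩ := c.autG_sylow hQ1 hn
    have hG : Φ (α ^ m) ∈ autG θ D Z Eb p Q₁ := Subgroup.pow_mem _ hα m Q₁ h Φ hn hh hΦ
    have hp : IsPGroup p (Subgroup.zpowers (⟨Φ (α ^ m), hG⟩ : autG θ D Z Eb p Q₁)) := by
      rintro ⟨z, j, rfl⟩
      refine ⟨a, Subtype.ext ?_⟩
      show (((⟨Φ (α ^ m), hG⟩ : autG θ D Z Eb p Q₁) ^ j) ^ p ^ a) = 1
      rw [← zpow_natCast, ← zpow_mul, mul_comm, zpow_mul, zpow_natCast]
      rw [show (⟨Φ (α ^ m), hG⟩ : autG θ D Z Eb p Q₁) ^ p ^ a = 1 from Subtype.ext (by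
        show (Φ (α ^ m)) ^ p ^ a = 1
        rw [← map_pow, ← pow_mul, mul_comm, ← ham, pow_orderOf_eq_one, map_one]), one_zpow]
    obtain ⟨b, hb⟩ := exists_conj_mem_sylow W hp
    have hb1 := hb _ (Subgroup.mem_zpowers _)
    rw [hW] at hb1
    obtain ⟨t, ht, htn, hte⟩ := mem_autInducedBy_iff.mp (Subgroup.mem_subgroupOf.mp hb1)
    obtain ⟨bf, hbf, hbfe⟩ := isIso_of_aut hQ1.le_S (c.autM_le hQ1.leT (c.autG_le hQ1.leZ hQ1.leT b.2))
    have hh' := hh.comp hbf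
    obtain ⟨R₂, hRR₂, hR₂Q, hR₂⟩ := hh'.restrict hRQ
    have hval : ∀ x : R, bf (h ((β ^ m) x : R)) = t * bf (h x) * t⁻¹ := by
      intro x
      have hxQ : h (x : Ω) ∈ Q₁ := hh.mem (hRQ x.2)
      have h3 := hte ((b : MulAut Q₁) ⟨h x, hxQ⟩)
      rw [hbfe ⟨h x, hxQ⟩] at h3
      rw [← h3]
      rw [Subgroup.coe_mul, Subgroup.coe_mul, InvMemClass.coe_inv, MulAut.mul_apply, MulAut.mul_apply, MulAut.inv_apply_self, hbfe, hΦ (α ^ m) ⟨x, hRQ x.2⟩ hxQ, hpow]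
    have htR₂ : t ∈ Subgroup.normalizer (R₂ : Set Ω) := by
      haveI := finite_of_le hRR₂.le_right
      refine Subgroup.mem_normalizer_fintype fun y hy => ?_
      obtain ⟨x, hx, rfl⟩ := (hR₂ y).mp hy
      rw [SetLike.mem_coe]
      show t * bf (h x) * t⁻¹ ∈ R₂
      rw [← hval ⟨x, hx⟩]
      exact (hR₂ _).mpr ⟨_, SetLike.coe_mem _, rfl⟩
    obtain ⟨g, hg, hgl, hgr⟩ := hRR₂.symm
    obtain ⟨Ψ, hΨ⟩ := exists_transp hRR₂
    have hR2 := c.inH_image hR hRR₂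
    have hgood := c.autGood_transp hR2 hg (hΨ.symm hRR₂ hgl)
      (c.autGood_inner hR2 (mem_autInducedBy_iff.mpr ⟨t, ht, htR₂, fun _ => rfl⟩ : cAut R₂ t htR₂ ∈ _))
    have he2 : Ψ (β ^ m) = cAut R₂ t htR₂ := hΨ.eq hRR₂ fun x hx => by
      rw [cAut_apply]
      exact (hval x).symm
    rw [← he2] at hgood
    simpa using hgood
  have hcop : Nat.Coprime (p ^ a) m := Nat.Coprime.pow_left a ((Nat.Prime.coprime_iff_not_dvd Fact.out).mpr hpm)
  have hbez := Nat.gcd_eq_gcd_ab (p ^ a) m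
  rw [hcop.gcd_eq_one] at hbez
  have : β = (β ^ p ^ a) ^ (Nat.gcdA (p ^ a) m) * (β ^ m) ^ (Nat.gcdB (p ^ a) m) := by
    conv_lhs => rw [show β = β ^ ((1 : ℕ) : ℤ) by simp, hbez, zpow_add, zpow_mul, zpow_mul, zpow_natCast, zpow_natCast]
  rw [this]
  exact Subgroup.mul_mem _ (Subgroup.zpow_mem _ h1 _) (Subgroup.zpow_mem _ h2 _)

end Ctx

end Cfsg.FusionSystem.CentralLift
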