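import Cfsg.Agent.Lib.Fusion.CentralLift.Kernel

/-!
Transporting automisers along isomorphisms of the system.
-/

set_option autoImplicit false
set_option linter.unusedSectionVars false
set_option linter.style.haveILetI false

namespace Cfsg.FusionSystem.CentralLift

open Cfsg.FusionSystem.SubCent

universe u v

variable {Ω : Type u} [Group Ω] {Ω' : Type v} [Group Ω'] {S Z : Subgroup Ω} {S' T' : Subgroup Ω'}
  {θ : S →* Ω'} {D : FusionSystem S} {Db : FusionSystem S'} {Eb : FusionSystem T'} {p : ℕ}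

local notation "𝕋" => preimageAlong θ T'

/-- `Φ` is conjugation by `h`. -/
def IsTransp (R R₁ : Subgroup Ω) (h : Ω → Ω) (Φ : MulAut R ≃* MulAut R₁) : Prop :=
  ∀ (α : MulAut R) (x : R) (hx : h x ∈ R₁), ((Φ α ⟨h x, hx⟩ : R₁) : Ω) = h (α x : R)

theorem exists_transp {R R₁ : Subgroup Ω} {h : Ω → Ω} (hh : D.IsIso R R₁ h) :
    ∃ Φ, IsTransp R R₁ h Φ := by
  obtain ⟨φ, hφ, hr, he⟩ := hh
  refine ⟨MulAut.congr (D.isoOf hφ hr), fun α x hx => ?_⟩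
  have e1 : (⟨h x, hx⟩ : R₁) = D.isoOf hφ hr x := Subtype.ext ((he x).symm.trans (D.coe_isoOf hφ hr x).symm)
  rw [e1]
  show (((D.isoOf hφ hr) (α ((D.isoOf hφ hr).symm (D.isoOf hφ hr x))) : R₁) : Ω) = _
  rw [MulEquiv.symm_apply_apply, D.coe_isoOf, he]

variable {R R₁ : Subgroup Ω} {h g : Ω → Ω} {Φ : MulAut R ≃* MulAut R₁}

theorem IsTransp.eq (hΦ : IsTransp R R₁ h Φ) (hh : D.IsIso R R₁ h) {α : MulAut R} {β : MulAut R₁}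
    (e : ∀ (x : R) (hx : h x ∈ R₁), ((β ⟨h x, hx⟩ : R₁) : Ω) = h (α x : R)) : Φ α = β := by
  refine MulEquiv.ext fun y => ?_
  obtain ⟨x, hx, hxy⟩ := hh.surj y.2
  have hm : h x ∈ R₁ := hxy ▸ y.2
  rw [show y = ⟨h x, hm⟩ from Subtype.ext hxy.symm]
  exact Subtype.ext ((hΦ α ⟨x, hx⟩ hm).trans (e ⟨x, hx⟩ hm).symm)

theorem IsTransp.symm (hΦ : IsTransp R R₁ h Φ) (hh : D.IsIso R R₁ h)
    (hgh : ∀ x ∈ R, g (h x) = x) : IsTransp R₁ R g Φ.symm := by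
  intro β y hy
  obtain ⟨x, hx, hxy⟩ := hh.surj y.2
  have hm : h x ∈ R₁ := hxy ▸ y.2
  have e : y = ⟨h x, hm⟩ := Subtype.ext hxy.symm
  subst e
  have h1 := hΦ (Φ.symm β) ⟨x, hx⟩ hm
  rw [MulEquiv.apply_symm_apply] at h1
  rw [h1, hgh _ (SetLike.coe_mem _)]
  congr 2
  exact Subtype.ext (hgh x hx)

namespace Ctx

variable (c : Ctx p D Z θ Db Eb)
include c

variable [Finite S] [Fact p.Prime]

theorem transp_autGroup (hh : D.IsIso R R₁ h) (hΦ : IsTransp R R₁ h Φ) {α : MulAut R}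
    (hα : α ∈ D.autGroup R) : Φ α ∈ D.autGroup R₁ := by
  obtain ⟨f, hf, hfe⟩ := isIso_of_aut hh.le_left hα
  obtain ⟨g, hg, hgl, -⟩ := hh.symm
  obtain ⟨β, hβ, hβe⟩ := ((hg.comp hf).comp hh).toAut
  refine (hΦ.eq hh fun x hx => ?_) ▸ hβ
  rw [hβe]
  show h (f (g (h x))) = _
  rw [hgl x x.2, hfe]

theorem transp_autM (hZ : Z ≤ R) (hR : R ≤ 𝕋) (hh : D.IsIso R R₁ h) (hΦ : IsTransp R R₁ h Φ)
    {α : MulAut R} (hα : α ∈ autM θ D Z Eb R) : Φ α ∈ autM θ D Z Eb R₁ := by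
  obtain ⟨f, hf, hfe⟩ := (c.mem_autM hZ hR).mp hα
  obtain ⟨f₁, hf₁, hf₁e⟩ := isIso_of_aut hh.le_right (c.transp_autGroup hh hΦ (c.autM_le hR hα))
  have himg : ∀ y, y ∈ R₁ ↔ ∃ x ∈ R, h x = y := fun y =>
    ⟨hh.surj, fun ⟨x, hx, e⟩ => e ▸ hh.mem hx⟩
  refine (c.mem_autM (c.Z_le_image hh hZ) (c.T_closed.iso_le hh hR)).mpr
    ⟨f₁, c.mmap_transport hh hR hf le_rfl le_rfl himg himg fun x hx => ?_, hf₁e⟩
  rw [← hf₁e ⟨h x, hh.mem hx⟩, hΦ α ⟨x, hx⟩, hfe]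

theorem transp_autK (hZ : Z ≤ R) (hh : D.IsIso R R₁ h) (hΦ : IsTransp R R₁ h Φ)
    {α : MulAut R} (hα : α ∈ autK D Z R) : Φ α ∈ autK D Z R₁ := by
  refine ⟨c.transp_autGroup hh hΦ hα.1, fun y => ?_⟩
  obtain ⟨x, hx, hxy⟩ := hh.surj y.2
  have hm : h x ∈ R₁ := hxy ▸ y.2
  rw [show y = ⟨h x, hm⟩ from Subtype.ext hxy.symm, hΦ α ⟨x, hx⟩ hm]
  show (h x)⁻¹ * _ ∈ Z
  rw [← hh.apply_inv hx, ← hh.apply_mul (R.inv_mem hx) (SetLike.coe_mem _),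
    c.fix_Z hh (hα.2 ⟨x, hx⟩) (R.mul_mem (R.inv_mem hx) (SetLike.coe_mem _))]
  exact hα.2 _

theorem transp_inn (hh : D.IsIso R R₁ h) (hΦ : IsTransp R R₁ h Φ) {α : MulAut R} (hα : α ∈ Inn R) :
    Φ α ∈ Inn R₁ := by
  obtain ⟨r, rfl⟩ := hα
  refine (hΦ.eq hh (β := MulAut.conj (⟨h r, hh.mem r.2⟩ : R₁)) fun x hx => ?_) ▸ ⟨_, rfl⟩
  show h r * h x * (h r)⁻¹ = h ((r : Ω) * x * (r : Ω)⁻¹)
  exact (hh.apply_conj r.2 x.2).symm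

theorem transp_autInduced (hh : D.IsIso R R₁ h) (hΦ : IsTransp R R₁ h Φ) {N : Subgroup Ω}
    {N' : Subgroup Ω} {H : Ω → Ω} (hH : D.IsIso N N' H) (he : ∀ x ∈ R, H x = h x) (hRN : R ≤ N)
    {t : Ω} (ht : t ∈ N) (htn : t ∈ Subgroup.normalizer (R : Set Ω)) :
    ∃ hn : H t ∈ Subgroup.normalizer (R₁ : Set Ω), Φ (cAut R t htn) = cAut R₁ (H t) hn := by
  have hn : H t ∈ Subgroup.normalizer (R₁ : Set Ω) := hH.mem_normalizer hRN (fun y =>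
    ⟨fun hy => by obtain ⟨x, hx, rfl⟩ := hh.surj hy; exact ⟨x, hx, he x hx⟩,
      fun ⟨x, hx, e⟩ => e ▸ (he x hx).symm ▸ hh.mem hx⟩) ht htn
  refine ⟨hn, hΦ.eq hh fun x hx => ?_⟩
  rw [cAut_apply, cAut_apply]
  show H t * h x * (H t)⁻¹ = _
  rw [← he x x.2, ← hH.apply_conj ht (hRN x.2)]
  exact he _ ((Subgroup.mem_normalizer_iff.mp htn x).mp x.2)

end Ctx

end Cfsg.FusionSystem.CentralLift
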