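import Cfsg.Agent.Lib.Fusion.CentralLift.Maps
import Cfsg.Agent.Lib.Fusion.CoreCent.Stab

/-!
The automisers at fully normalised subgroups: centrality of the kernel and the complement.
-/

set_option autoImplicit false
set_option linter.unusedSectionVars false
set_option linter.style.haveILetI false

namespace Cfsg.FusionSystem.CentralLift

open Cfsg.FusionSystem.SubCent

universe u v

variable {Ω : Type u} [Group Ω] {Ω' : Type v} [Group Ω'] {S Z : Subgroup Ω} {S' T' : Subgroup Ω'}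
  {θ : S →* Ω'} {D : FusionSystem S} {Db : FusionSystem S'} {Eb : FusionSystem T'} {p : ℕ}

local notation "𝕋" => preimageAlong θ T'

/-- Conjugation as an automorphism. -/
abbrev cAut (R : Subgroup Ω) (g : Ω) (hg : g ∈ Subgroup.normalizer (R : Set Ω)) : MulAut R :=
  R.normalizerMonoidHom ⟨g, hg⟩

theorem cAut_apply {R : Subgroup Ω} {g : Ω} (hg : g ∈ Subgroup.normalizer (R : Set Ω)) (x : R) :
    ((cAut R g hg x : R) : Ω) = g * x * g⁻¹ := rfl

theorem cAut_mul {R : Subgroup Ω} {g h : Ω} (hg : g ∈ Subgroup.normalizer (R : Set Ω))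
    (hh : h ∈ Subgroup.normalizer (R : Set Ω)) :
    cAut R (g * h) (Subgroup.mul_mem _ hg hh) = cAut R g hg * cAut R h hh :=
  map_mul R.normalizerMonoidHom ⟨g, hg⟩ ⟨h, hh⟩

theorem cAut_inn {R : Subgroup Ω} {g : Ω} (hgR : g ∈ R) (hg : g ∈ Subgroup.normalizer (R : Set Ω)) :
    cAut R g hg ∈ Inn R := by
  rw [inn_eq_autInducedBy]
  exact mem_autInducedBy_iff.mpr ⟨g, hgR, hg, fun _ => rfl⟩

section Groups

variable {M : Type*} [Group M] [Finite M] [Fact p.Prime]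

/-- A Sylow subgroup meets a normalised subgroup in a Sylow subgroup. -/
theorem exists_sylow_subgroupOf {G A U : Subgroup M} (hAG : A ≤ G)
    (hn : ∀ g ∈ G, ∀ a ∈ A, g * a * g⁻¹ ∈ A) (hU : ∃ V : Sylow p G, (V : Subgroup G) = U.subgroupOf G) :
    ∃ P : Sylow p A, (P : Subgroup A) = U.subgroupOf A := by
  obtain ⟨V, hV⟩ := hU
  let f : A →* G := Subgroup.inclusion hAG
  have hUA : U.subgroupOf A = (V : Subgroup G).comap f := by rw [hV]; rfl
  have hp : IsPGroup p (U.subgroupOf A) := by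
    rw [hUA]
    exact V.2.comap_of_injective f (Subgroup.inclusion_injective hAG)
  obtain ⟨P, hP⟩ := hp.exists_le_sylow
  refine ⟨P, (Subgroup.eq_of_le_of_card_ge hP ?_).symm⟩
  obtain ⟨b, hb⟩ := exists_conj_mem_sylow V (P.2.map f)
  let m : ↥(P : Subgroup A) → U.subgroupOf A := fun x =>
    ⟨⟨(b : M) * (x : A) * (b : M)⁻¹, hn b b.2 _ (x : A).2⟩, by
      have h := hb (f x) ⟨x, x.2, rfl⟩
      rw [hV] at h
      exact h⟩
  refine Nat.card_le_card_of_injective m fun x y h => ?_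
  have h1 := congrArg (fun z : U.subgroupOf A => ((z : A) : M)) h
  exact Subtype.ext (Subtype.ext (mul_left_cancel (mul_right_cancel h1)))

/-- A commutator that is central modulo `N` and of `p`-power order vanishes for an element of order prime
to `p`. -/
theorem mem_of_unipotent {N K : Subgroup M} (hN : N.Normal) (hK : IsPGroup p K)
    {n k u : M} (hu : u ∈ K) (hnk : n * k * n⁻¹ = u * k) (hnu : n * u * n⁻¹ * u⁻¹ ∈ N)
    (hn : ¬ p ∣ orderOf n) : u ∈ N := by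
  let q := QuotientGroup.mk' N
  have h1 : q n * q u * (q n)⁻¹ = q u := by
    have h := (QuotientGroup.eq_one_iff (n * u * n⁻¹ * u⁻¹)).mpr hnu
    have : q (n * u * n⁻¹ * u⁻¹) = 1 := h
    simpa [map_mul, mul_inv_eq_one] using this
  have hj : ∀ j : ℕ, (q n) ^ j * q k * ((q n) ^ j)⁻¹ = (q u) ^ j * q k := by
    intro j
    induction j with
    | zero => simp
    | succ j ih =>
      have h2 : q n * q k * (q n)⁻¹ = q u * q k := by rw [← map_inv, ← map_mul, ← map_mul, hnk, map_mul]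
      have h3 : ∀ i : ℕ, q n * (q u) ^ i * (q n)⁻¹ = (q u) ^ i := by
        intro i
        induction i with
        | zero => simp
        | succ i ihi =>
          rw [pow_succ]
          calc q n * ((q u) ^ i * q u) * (q n)⁻¹ = (q n * (q u) ^ i * (q n)⁻¹) * (q n * q u * (q n)⁻¹) := by group
            _ = _ := by rw [ihi, h1]
      calc (q n) ^ (j + 1) * q k * ((q n) ^ (j + 1))⁻¹
          = q n * ((q n) ^ j * q k * ((q n) ^ j)⁻¹) * (q n)⁻¹ := by rw [pow_succ']; group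
        _ = (q n * (q u) ^ j * (q n)⁻¹) * (q n * q k * (q n)⁻¹) := by rw [ih]; group
        _ = _ := by rw [h3, h2, pow_succ, mul_assoc]
  have h4 := hj (orderOf n)
  rw [← map_pow, pow_orderOf_eq_one, map_one, one_mul, inv_one, mul_one] at h4
  have h5 : u ^ orderOf n ∈ N := by
    rw [← QuotientGroup.eq_one_iff]
    show q (u ^ orderOf n) = 1
    rw [map_pow]
    exact mul_eq_right.mp h4.symm
  obtain ⟨i, hi⟩ := hK ⟨u, hu⟩
  have hi' : u ^ p ^ i = 1 := congrArg Subtype.val hi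
  have hcop : Nat.Coprime (orderOf n) (p ^ i) :=
    Nat.Coprime.pow_right _ (Nat.Coprime.symm ((Nat.Prime.coprime_iff_not_dvd Fact.out).mpr hn))
  have : q u = 1 := eq_one_of_coprime_pow (by rw [← map_pow]; exact (QuotientGroup.eq_one_iff _).mpr h5)
    (by rw [← map_pow, hi', map_one]) hcop
  exact (QuotientGroup.eq_one_iff u).mp this

/-- An element of order prime to `p` congruent to a `p`-element modulo a normalised subgroup lies in it. -/
theorem mem_of_congr_pElement {A : Subgroup M} {a d : M} (hd : ∀ x ∈ A, d * x * d⁻¹ ∈ A) (ha : a ∈ A)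
    (hord : ¬ p ∣ orderOf (a * d)) {i : ℕ} (hdp : d ^ p ^ i = 1) : a * d ∈ A := by
  have key : ∀ j : ℕ, ∃ x ∈ A, (a * d) ^ j = x * d ^ j := by
    intro j
    induction j with
    | zero => exact ⟨1, A.one_mem, by simp⟩
    | succ j ih =>
      obtain ⟨x, hx, e⟩ := ih
      refine ⟨a * (d * x * d⁻¹), A.mul_mem ha (hd x hx), ?_⟩
      rw [pow_succ', e, pow_succ']
      group
  obtain ⟨x, hx, e⟩ := key (p ^ i)
  rw [hdp, mul_one] at e
  obtain ⟨l, hl⟩ := exists_pow_eq_self_of_coprime (x := a * d) (n := p ^ i)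
    (Nat.Coprime.pow_left i ((Nat.Prime.coprime_iff_not_dvd Fact.out).mpr hord))
  rw [← hl, e]
  exact A.pow_mem hx l

end Groups

namespace Ctx

variable (c : Ctx p D Z θ Db Eb)
include c

variable [Finite S] [Fact p.Prime] {P Q R M : Subgroup Ω} {f g h : Ω → Ω}

theorem cAut_mem_autK (hR : R ≤ S) {s : Ω} (hs : s ∈ S) (hn : s ∈ Subgroup.normalizer (R : Set Ω)) :
    cAut R s hn ∈ autK D Z R ↔ ∀ r ∈ R, thetaF θ (s * r * s⁻¹) = thetaF θ r := by
  constructor
  · intro h r hr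
    exact ((c.thetaF_eq (hR hr) (hR ((Subgroup.mem_normalizer_iff.mp hn r).mp hr))).mpr (h.2 ⟨r, hr⟩)).symm
  · intro h
    refine ⟨autInducedBy_le_autGroup hR (mem_autInducedBy_iff.mpr ⟨s, hs, hn, fun _ => rfl⟩), fun x => ?_⟩
    exact (c.thetaF_eq (hR x.2) (hR (cAut R s hn x).2)).mp (h x x.2).symm

theorem cAut_autK_inn (hR : InH θ Z Eb R) {t : Ω} (ht : t ∈ 𝕋) (hn : t ∈ Subgroup.normalizer (R : Set Ω))
    (h : cAut R t hn ∈ autK D Z R) : t ∈ R :=
  c.mem_of_centMod hR ht ((c.cAut_mem_autK hR.le_S (c.T_le ht) hn).mp h)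

/-- Fully normalised subgroups have fully normalised images. -/
theorem bar_fullyNormalized (hZ : Z ≤ R) (hR : R ≤ 𝕋) (hn : D.IsFullyNormalized R) :
    Eb.IsFullyNormalized (bar θ R) := by
  refine ⟨c.bar_le_T hR, fun R' hR' => ?_⟩
  obtain ⟨φ, hφ, hr⟩ := hR'
  have hE : Eb.IsIso (bar θ R) R' (funOf φ) := hr ▸ isIso_funOf hφ
  have hR'T : R' ≤ T' := hE.le_right
  set Q := preimageAlong θ R'
  have hQ : bar θ Q = R' := c.bar_pre (hR'T.trans c.Tb_closed.1)
  have hQT : Q ≤ 𝕋 := fun x hx => c.mem_pre.mpr ⟨preimageAlong_le hx, hR'T (c.mem_pre.mp hx).2⟩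
  obtain ⟨f, hf, -⟩ := c.exists_lift (hR.trans c.T_le) hZ preimageAlong_le (c.Z_le_pre R')
    (hQ.symm ▸ hE.mono c.invariant.1)
  obtain ⟨-, -, -, ψ, hψ, hψN, -⟩ := c.hD.exists_map_to_fullyNormalized c.hS hn hf.isConj.symm
  have hNQ : normalizerIn 𝕋 Q ≤ 𝕋 := normalizerIn_le
  have hm : ∀ x : normalizerIn 𝕋 Q, ψ ⟨x, c.T_le x.2.1, x.2.2⟩ ∈ normalizerIn 𝕋 R := fun x =>
    ⟨c.T_closed.apply_mem_of_mem hψ x.2.1, (hψN _).2⟩
  haveI := finite_of_le (normalizerIn_le.trans c.T_le : normalizerIn 𝕋 R ≤ S)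
  have hle : Nat.card (normalizerIn 𝕋 Q) ≤ Nat.card (normalizerIn 𝕋 R) :=
    Nat.card_le_card_of_injective (fun x => (⟨_, hm x⟩ : normalizerIn 𝕋 R)) fun x y he => by
      have h1 : ψ ⟨x, _⟩ = ψ ⟨y, _⟩ := congrArg Subtype.val he
      exact Subtype.ext (congrArg Subtype.val (D.injective_of_mem hψ h1) :)
  have e1 := c.card_bar ((hZ.trans (le_normalizerIn hR)) : Z ≤ normalizerIn 𝕋 R) (normalizerIn_le.trans c.T_le)
  have e2 := c.card_bar (((c.Z_le_pre R').trans (le_normalizerIn hQT)) : Z ≤ normalizerIn 𝕋 Q)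
    (normalizerIn_le.trans c.T_le)
  rw [c.bar_normalizerIn (hR.trans c.T_le) hZ] at e1
  rw [c.bar_normalizerIn preimageAlong_le (c.Z_le_pre R'), hQ] at e2
  rw [e1, e2] at hle
  haveI := finite_of_le c.Z_le
  exact Nat.le_of_mul_le_mul_left hle Nat.card_pos

/-- Strong closure of the inner part in the Sylow subgroup. -/
theorem autInduced_closed (hn : D.IsFullyNormalized R) {n : MulAut R} (hn' : n ∈ D.autGroup R)
    {w : MulAut R} (hw : w ∈ autInducedBy 𝕋 R) (h : n * w * n⁻¹ ∈ autInducedBy S R) :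
    n * w * n⁻¹ ∈ autInducedBy 𝕋 R := by
  obtain ⟨t, ht, htn, hte⟩ := mem_autInducedBy_iff.mp hw
  have hw' : w = cAut R t htn := MulEquiv.ext fun x => Subtype.ext (hte x)
  have hM : Subgroup.zpowers t ≤ normalizerIn S R := Subgroup.zpowers_le.mpr ⟨c.T_le ht, htn⟩
  obtain ⟨ψ, hψ, hψe⟩ := exists_extension_of_normalizes (c.hD.isReceptive_of_isFullyNormalized c.hS hn) hn' hM
    (by
      rintro g ⟨j, rfl⟩ hg
      have e : R.normalizerMonoidHom ⟨t ^ j, hg⟩ = w ^ j := by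
        rw [hw', ← map_zpow]
        congr 1
      show n * R.normalizerMonoidHom ⟨t ^ j, hg⟩ * n⁻¹ ∈ _
      rw [e, ← conj_zpow]
      exact Subgroup.zpow_mem _ h j)
  have hi := isIso_funOf hψ
  have htm : t ∈ R ⊔ Subgroup.zpowers t := Subgroup.mem_sup_right (Subgroup.mem_zpowers t)
  have hψR : ∀ r : R, funOf ψ r = ((n r : R) : Ω) := fun r => by
    rw [← hψe r]; exact (funOf_apply ψ ⟨r, Subgroup.mem_sup_left r.2⟩).symm
  refine mem_autInducedBy_iff.mpr ⟨funOf ψ t, c.T_closed.iso_mem hi htm ht,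
    hi.mem_normalizer le_sup_left (fun y => ⟨fun hy => ⟨_, (n⁻¹ ⟨y, hy⟩).2, by rw [hψR]; simp⟩,
      fun ⟨z, hz, he⟩ => he ▸ hψR ⟨z, hz⟩ ▸ SetLike.coe_mem _⟩) htm htn, fun r => ?_⟩
  set r' := n⁻¹ r with hr'
  have hrr : r = n r' := by simp [hr']
  rw [MulAut.mul_apply, MulAut.mul_apply, ← hr', ← hψR, hte,
    hi.apply_conj htm (Subgroup.mem_sup_left r'.2), hψR, ← hrr]

/-- The elements inducing maps of the subsystem. -/
theorem autM_inter (hZ : Z ≤ R) (hR : R ≤ 𝕋) (hn : D.IsFullyNormalized R) {s : Ω} (hs : s ∈ S)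
    (hsn : s ∈ Subgroup.normalizer (R : Set Ω)) (h : cAut R s hsn ∈ autM θ D Z Eb R) :
    ∃ t ∈ 𝕋, ∃ htn : t ∈ Subgroup.normalizer (R : Set Ω),
      ∃ k ∈ autK D Z R, cAut R s hsn = cAut R t htn * k := by
  have hRS := hR.trans c.T_le
  haveI := c.finite'
  haveI := c.finiteT
  have hbT := c.bar_le_T hR
  have hT'p : IsPGroup p T' := c.isPGroup'.to_le c.Tb_closed.1
  haveI := finite_autGroup (F := Eb) hbT
  obtain ⟨-, U, hU⟩ := c.sat.isFullyAutomized_of_isFullyNormalized hT'p (c.bar_fullyNormalized hZ hR hn)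
  have hbn : thetaF θ s ∈ Subgroup.normalizer (bar θ R : Set Ω') := by
    haveI := finite_of_le (c.bar_le R)
    refine Subgroup.mem_normalizer_fintype fun y hy => ?_
    obtain ⟨x, hx, rfl⟩ := (mem_bar hRS).mp hy
    rw [← thetaF_conj hs (hRS hx)]
    exact thetaF_mem_bar hRS ((Subgroup.mem_normalizer_iff.mp hsn x).mp hx)
  have hsb : thetaF θ s ∈ S' := c.range_eq.le ⟨⟨s, hs⟩, (thetaF_apply hs).symm⟩
  let cb : MulAut (bar θ R) := cAut (bar θ R) (thetaF θ s) hbn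
  have hcb : cb ∈ Eb.autGroup (bar θ R) := by
    obtain ⟨f, hf, hfe⟩ := (c.mem_autM hZ hR).mp h
    obtain ⟨fb, ⟨φ, hφ, -, hφe⟩, hfbe⟩ := hf.ind
    refine Eb.mem_autGroup_of_map hφ fun y => ?_
    obtain ⟨x, hx, hxy⟩ := (mem_bar hRS).mp y.2
    rw [hφe, cAut_apply, ← hxy, ← thetaF_conj hs (hRS hx), hfbe x hx, ← hfe ⟨x, hx⟩, cAut_apply]
  let Q := (autInducedBy S' (bar θ R)).subgroupOf (Eb.autGroup (bar θ R))
  have hQ : IsPGroup p Q := (isPGroup_autInducedBy c.isPGroup').comap_of_injective _ Subtype.coe_injective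
  have hUQ : (U : Subgroup (Eb.autGroup (bar θ R))) ≤ Q := by
    rw [hU]
    exact fun a ha => autInducedBy_mono c.Tb_closed.1 ha
  have hcU : (⟨cb, hcb⟩ : Eb.autGroup (bar θ R)) ∈ (U : Subgroup _) :=
    (U.3 hQ hUQ).le (mem_autInducedBy_iff.mpr ⟨_, hsb, hbn, fun _ => rfl⟩ : cb ∈ autInducedBy S' (bar θ R))
  rw [hU] at hcU
  obtain ⟨w, hw, hwn, hwe⟩ := mem_autInducedBy_iff.mp (Subgroup.mem_subgroupOf.mp hcU)
  obtain ⟨t, ht, rfl⟩ := (mem_bar (normalizerIn_le.trans c.T_le)).mp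
    ((c.bar_normalizerIn hRS hZ).ge (⟨hw, hwn⟩ : w ∈ normalizerIn T' (bar θ R)))
  have htS := c.T_le ht.1
  refine ⟨t, ht.1, ht.2, (cAut R t ht.2)⁻¹ * cAut R s hsn, ?_, by rw [mul_inv_cancel_left]⟩
  have e : (cAut R t ht.2)⁻¹ * cAut R s hsn =
      cAut R (t⁻¹ * s) (Subgroup.mul_mem _ (Subgroup.inv_mem _ ht.2) hsn) := by
    rw [cAut_mul (Subgroup.inv_mem _ ht.2) hsn, ← map_inv]
    rfl
  rw [e, c.cAut_mem_autK hRS (S.mul_mem (S.inv_mem htS) hs)]
  intro r hr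
  have h1 := hwe ⟨_, thetaF_mem_bar hRS hr⟩
  rw [cAut_apply] at h1
  rw [thetaF_conj (S.mul_mem (S.inv_mem htS) hs) (hRS hr), thetaF_mul (S.inv_mem htS) hs, thetaF_inv htS]
  have h2 : thetaF θ s * thetaF θ r * (thetaF θ s)⁻¹ = thetaF θ t * thetaF θ r * (thetaF θ t)⁻¹ := h1
  calc (thetaF θ t)⁻¹ * thetaF θ s * thetaF θ r * ((thetaF θ t)⁻¹ * thetaF θ s)⁻¹
      = (thetaF θ t)⁻¹ * (thetaF θ s * thetaF θ r * (thetaF θ s)⁻¹) * thetaF θ t := by group
    _ = thetaF θ r := by rw [h2]; group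

theorem autK_le_autInduced (hn : D.IsFullyNormalized R) : autK D Z R ≤ autInducedBy S R := by
  haveI := finite_autGroup (F := D) hn.1
  obtain ⟨-, U, hU⟩ := c.hD.isFullyAutomized_of_isFullyNormalized c.hS hn
  intro k hk
  have hnor : ((autK D Z R).subgroupOf (D.autGroup R)).Normal :=
    ⟨fun a ha g => Subgroup.mem_subgroupOf.mpr (c.autK_normal hn.1 (Subgroup.mem_subgroupOf.mp ha) g.2)⟩
  have h1 := le_sylow U hnor ((c.autK_isPGroup hn.1).comap_of_injective _ Subtype.coe_injective)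
    (show (⟨k, hk.1⟩ : D.autGroup R) ∈ _ from Subgroup.mem_subgroupOf.mpr hk)
  rw [hU] at h1
  exact Subgroup.mem_subgroupOf.mp h1

end Ctx

end Cfsg.FusionSystem.CentralLift
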