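import Cfsg.Agent.Lib.Fusion.SubCent.Basic

/-!
Group lemmas for lifting normal subsystems of central quotients: a transfer lemma for a strongly closed
subgroup of a Sylow subgroup with central complement, and an induction principle for fusion in a finite group.
-/

set_option autoImplicit false
set_option linter.unusedSectionVars false
set_option linter.style.haveILetI false

namespace Cfsg.FusionSystem.CentralLift

open Cfsg.FusionSystem.SubCent

variable {A : Type*} [Group A] [Finite A] {p : ℕ} [Fact p.Prime]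

/-- The subgroup generated by the elements of order prime to `p`. -/
def primeGen (p : ℕ) (A : Type*) [Group A] : Subgroup A := Subgroup.closure {a | ¬ p ∣ orderOf a}

theorem primeGen_normal : (primeGen p A).Normal := by
  refine Subgroup.Normal.mk fun n hn g => ?_
  have : (primeGen p A).map (MulAut.conj g).toMonoidHom ≤ primeGen p A := by
    rw [primeGen, Subgroup.map_le_iff_le_comap, Subgroup.closure_le]
    intro x hx
    refine Subgroup.subset_closure ?_
    show ¬ p ∣ orderOf ((MulAut.conj g) x)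
    rwa [MulEquiv.orderOf_eq]
  exact this ⟨n, hn, rfl⟩

theorem primeGen_sup_sylow (P : Sylow p A) : primeGen p A ⊔ (P : Subgroup A) = ⊤ :=
  eq_top_of_sylow_of_pprime _ P le_sup_right fun _ hg => Subgroup.mem_sup_left (Subgroup.subset_closure hg)

/-- If `K` is central modulo `N` and `W ⊇ N` is strongly closed in the Sylow subgroup `W K`, then the group
generated by `W` and the elements of order prime to `p` meets the Sylow subgroup in `W`. -/
theorem mem_of_strongly_closed (P : Sylow p A) (N W K : Subgroup A) (hN : N.Normal) (hNW : N ≤ W)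
    (hP : W ⊔ K = (P : Subgroup A)) (hcent : ∀ a : A, ∀ k ∈ K, a * k * a⁻¹ * k⁻¹ ∈ N)
    (hclosed : ∀ a : A, ∀ x ∈ W, a * x * a⁻¹ ∈ (P : Subgroup A) → a * x * a⁻¹ ∈ W) {x : A}
    (hxP : x ∈ (P : Subgroup A)) (hx : x ∈ primeGen p A ⊔ W) : x ∈ W := by
  have hWP : W ≤ (P : Subgroup A) := le_sup_left.trans hP.le
  have hKP : K ≤ (P : Subgroup A) := le_sup_right.trans hP.le
  have hKn : ∀ k ∈ K, k ∈ Subgroup.normalizer (W : Set A) := by
    have key : ∀ k ∈ K, ∀ w ∈ W, k * w * k⁻¹ ∈ W := by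
      intro k hk w hw
      have h1 : w * k * w⁻¹ * k⁻¹ ∈ W := hNW (hcent w k hk)
      have h2 := W.mul_mem (W.inv_mem h1) hw
      simpa [mul_assoc] using h2
    intro k hk
    refine Subgroup.mem_normalizer_iff.mpr fun w => ⟨key k hk w, fun h => ?_⟩
    have := key k⁻¹ (K.inv_mem hk) _ h
    simpa [mul_assoc] using this
  let WP : Subgroup (P : Subgroup A) := W.subgroupOf P
  haveI hWn : WP.Normal := by
    refine ⟨fun w hw g => ?_⟩
    have hg : (g : A) ∈ Subgroup.normalizer (W : Set A) := by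
      have := (sup_le Subgroup.le_normalizer hKn : W ⊔ K ≤ Subgroup.normalizer (W : Set A))
      exact this (hP.ge g.2)
    exact (Subgroup.mem_normalizer_iff.mp hg _).mp hw
  -- the quotient is the image of `K`, hence commutative
  have himg : ∀ y : (P : Subgroup A), ∃ k : K, (QuotientGroup.mk' WP y) = QuotientGroup.mk' WP ⟨k, hKP k.2⟩ := by
    intro y
    let M : Subgroup (P : Subgroup A) := WP ⊔ K.subgroupOf P
    have htop : M = ⊤ := by
      rw [eq_top_iff]
      intro z _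
      have h1 : (z : A) ∈ M.map (P : Subgroup A).subtype := by
        have : W ⊔ K ≤ M.map (P : Subgroup A).subtype := sup_le
          (fun w hw => ⟨⟨w, hWP hw⟩, Subgroup.mem_sup_left hw, rfl⟩)
          (fun k hk => ⟨⟨k, hKP hk⟩, Subgroup.mem_sup_right hk, rfl⟩)
        exact this (hP.ge z.2)
      obtain ⟨z', hz', e⟩ := h1
      exact Subtype.ext e ▸ hz'
    obtain ⟨w, hw, k, hk, hwk⟩ := Subgroup.mem_sup_of_normal_left.mp (htop.ge (Subgroup.mem_top y))
    refine ⟨⟨k, hk⟩, ?_⟩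
    rw [← hwk, map_mul, show QuotientGroup.mk' WP w = 1 from (QuotientGroup.eq_one_iff w).mpr hw, one_mul]
  have hcomm : ∀ a b : (P : Subgroup A) ⧸ WP, a * b = b * a := by
    intro a b
    obtain ⟨a, rfl⟩ := QuotientGroup.mk'_surjective WP a
    obtain ⟨b, rfl⟩ := QuotientGroup.mk'_surjective WP b
    obtain ⟨k, hk⟩ := himg a
    obtain ⟨l, hl⟩ := himg b
    rw [hk, hl, ← map_mul, ← map_mul]
    refine (QuotientGroup.eq.mpr ?_)
    show ((((⟨k, hKP k.2⟩ * ⟨l, hKP l.2⟩ : (P : Subgroup A))⁻¹ * (⟨l, hKP l.2⟩ * ⟨k, hKP k.2⟩)) :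
      (P : Subgroup A)) : A) ∈ W
    have := hNW (hcent (l : A)⁻¹ ((k : A)⁻¹) (K.inv_mem k.2))
    simpa [mul_assoc] using this
  let Q := (P : Subgroup A) ⧸ WP
  letI : CommGroup Q := { (inferInstance : Group Q) with mul_comm := hcomm }
  let φ : (P : Subgroup A) →* Q := QuotientGroup.mk' WP
  have hφ : ∀ y : (P : Subgroup A), φ y = 1 ↔ (y : A) ∈ W := fun y => QuotientGroup.eq_one_iff y
  haveI : (P : Subgroup A).FiniteIndex := inferInstance
  let τ : A →* Q := φ.transfer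
  have hWτ : ∀ w ∈ W, τ w = 1 := by
    intro w hw
    classical
    letI := (P : Subgroup A).fintypeQuotientOfFiniteIndex
    show φ.transfer w = 1
    rw [MonoidHom.transfer_eq_prod_quotient_orbitRel_zpowers_quot]
    refine Finset.prod_eq_one fun q _ => (hφ _).mpr ?_
    have h := QuotientGroup.out_conj_pow_minimalPeriod_mem (P : Subgroup A) w q.out
    have := hclosed (q.out.out)⁻¹ _ (W.pow_mem hw _) (by simpa only [inv_inv] using h)
    simpa only [inv_inv] using this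
  have hQp : IsPGroup p Q := P.2.to_quotient WP
  have hOτ : primeGen p A ≤ τ.ker := by
    rw [primeGen, Subgroup.closure_le]
    intro a ha
    obtain ⟨n, hn⟩ := hQp (τ a)
    obtain hcop : Nat.Coprime (orderOf a) (p ^ n) :=
      Nat.Coprime.pow_right _ (Nat.Coprime.symm ((Nat.Prime.coprime_iff_not_dvd Fact.out).mpr ha))
    exact eq_one_of_coprime_pow (z := τ a) (by rw [← map_pow, pow_orderOf_eq_one, map_one]) hn hcop
  have hτx : τ x = 1 := (sup_le hOτ (fun w hw => hWτ w hw) : primeGen p A ⊔ W ≤ τ.ker) hx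
  obtain ⟨k, hk⟩ := himg ⟨x, hxP⟩
  -- the transfer of a central element
  have hτk : τ k = φ ⟨k, hKP k.2⟩ ^ (P : Subgroup A).index := by
    classical
    letI := (P : Subgroup A).fintypeQuotientOfFiniteIndex
    show φ.transfer (k : A) = _
    rw [MonoidHom.transfer_eq_prod_quotient_orbitRel_zpowers_quot]
    have hterm : ∀ (q : Quotient (MulAction.orbitRel (Subgroup.zpowers (k : A)) (A ⧸ (P : Subgroup A)))),
        φ ⟨(q.out.out)⁻¹ * (k : A) ^ Function.minimalPeriod ((k : A) • ·) q.out * q.out.out,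
          QuotientGroup.out_conj_pow_minimalPeriod_mem (P : Subgroup A) k q.out⟩ =
        φ ⟨k, hKP k.2⟩ ^ Function.minimalPeriod ((k : A) • ·) q.out := by
      intro q
      rw [← map_pow]
      refine (QuotientGroup.eq.mpr ?_)
      simp only [WP, Subgroup.mem_subgroupOf, Subgroup.coe_mul, InvMemClass.coe_inv, SubmonoidClass.coe_pow]
      set n := Function.minimalPeriod ((k : A) • ·) q.out
      set g := q.out.out
      have h3 : g⁻¹ * (k : A) ^ n * g * ((k : A) ^ n)⁻¹ ∈ N := by simpa using hcent g⁻¹ _ (K.pow_mem k.2 n)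
      have h4 : (g⁻¹ * (k : A) ^ n * g)⁻¹ * (k : A) ^ n ∈ N := by
        have := hN.conj_mem _ (N.inv_mem h3) ((g⁻¹ * (k : A) ^ n * g)⁻¹)
        simpa [mul_assoc] using this
      simpa using hNW h4
    rw [Finset.prod_congr rfl fun q _ => hterm q, Finset.prod_pow_eq_pow_sum]
    congr 1
    rw [Subgroup.index_eq_card, Nat.card_eq_fintype_card,
      Fintype.card_congr (MulAction.selfEquivSigmaOrbits (Subgroup.zpowers (k : A)) (A ⧸ (P : Subgroup A))),
      Fintype.card_sigma]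
    exact Finset.sum_congr rfl fun q _ => MulAction.minimalPeriod_eq_card (a := (k : A)) (b := q.out)
  have hwk : τ x = τ k := by
    have h1 : (k : A)⁻¹ * x ∈ W := by
      have : φ ((⟨k, hKP k.2⟩ : (P : Subgroup A))⁻¹ * ⟨x, hxP⟩) = 1 := by
        rw [map_mul, map_inv]
        show (φ _)⁻¹ * QuotientGroup.mk' WP ⟨x, hxP⟩ = 1
        rw [hk]
        exact inv_mul_cancel _
      exact (hφ _).mp this
    conv_lhs => rw [show x = (k : A) * ((k : A)⁻¹ * x) by group]
    rw [map_mul, hWτ _ h1, mul_one]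
  have h1 : φ ⟨x, hxP⟩ ^ (P : Subgroup A).index = 1 := by
    rw [show φ ⟨x, hxP⟩ = φ ⟨k, hKP k.2⟩ from hk, ← hτk, ← hwk, hτx]
  obtain ⟨n, hn⟩ := hQp (φ ⟨x, hxP⟩)
  exact (hφ _).mp (eq_one_of_coprime_pow h1 hn
    (Nat.Coprime.pow_right _ (Nat.Coprime.symm ((Nat.Prime.coprime_iff_not_dvd Fact.out).mpr P.not_dvd_index))))

/-- Induction along the fusion of a finite group in a Sylow subgroup. -/
theorem fusion_induction (W : Sylow p A) (N : Subgroup A) (hN : N.Normal) (hNW : N ≤ (W : Subgroup A))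
    (Pr : Subgroup A → A → Prop)
    (hmul : ∀ Y g h, N ≤ Y → Y ≤ (W : Subgroup A) → (∀ y ∈ Y, g * y * g⁻¹ ∈ (W : Subgroup A)) →
      Pr Y g → Pr (Y.map (MulAut.conj g).toMonoidHom) h → Pr Y (h * g))
    (hinv : ∀ Y g, N ≤ Y → Y ≤ (W : Subgroup A) → (∀ y ∈ Y, g * y * g⁻¹ ∈ (W : Subgroup A)) →
      Pr Y g → Pr (Y.map (MulAut.conj g).toMonoidHom) g⁻¹)
    (hres : ∀ Y Y' g, N ≤ Y' → Y' ≤ Y → Y ≤ (W : Subgroup A) →
      (∀ y ∈ Y, g * y * g⁻¹ ∈ (W : Subgroup A)) → Pr Y g → Pr Y' g)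
    (hW : ∀ w ∈ (W : Subgroup A), Pr W w)
    (hprime : ∀ Y g, N ≤ Y → Y ≤ (W : Subgroup A) → g ∈ Subgroup.normalizer (Y : Set A) →
      ¬ p ∣ orderOf g → Pr Y g)
    {Y : Subgroup A} (hNY : N ≤ Y) (hY : Y ≤ (W : Subgroup A)) {g : A}
    (hg : ∀ y ∈ Y, g * y * g⁻¹ ∈ (W : Subgroup A)) : Pr Y g := by
  have mem_map : ∀ (Y : Subgroup A) (g y : A), y ∈ Y.map (MulAut.conj g).toMonoidHom ↔ ∃ x ∈ Y, g * x * g⁻¹ = y :=
    fun Y g y => Subgroup.mem_map
  have card_map : ∀ (Y : Subgroup A) (g : A), Nat.card (Y.map (MulAut.conj g).toMonoidHom) = Nat.card Y :=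
    fun Y g => Subgroup.card_map_of_injective (f := (MulAut.conj g).toMonoidHom) (MulEquiv.injective (MulAut.conj g))
  suffices H : ∀ (d : ℕ) (Y : Subgroup A), Nat.card (W : Subgroup A) - Nat.card Y = d → N ≤ Y →
      Y ≤ (W : Subgroup A) → ∀ g, (∀ y ∈ Y, g * y * g⁻¹ ∈ (W : Subgroup A)) → Pr Y g from
    H _ Y rfl hNY hY g hg
  intro d
  induction d using Nat.strong_induction_on with
  | _ d ih =>
  intro Y hd hNY hY g hg
  classical
  -- a member of the class with normaliser in `W` as large as possible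
  let 𝒞 : Set (Subgroup A) := {Y' | Y' ≤ (W : Subgroup A) ∧ ∃ a : A, Y.map (MulAut.conj a).toMonoidHom = Y'}
  obtain ⟨Y₁, ⟨hY₁, a₁, ha₁⟩, hmax⟩ := Set.exists_max_image 𝒞
    (fun Y' => Nat.card ↥((W : Subgroup A) ⊓ Subgroup.normalizer (Y' : Set A))) (Set.toFinite _)
    ⟨Y, hY, 1, by ext y; simp⟩
  have hNY₁ : N ≤ Y₁ := fun n hn => by
    rw [← ha₁, mem_map]
    exact ⟨a₁⁻¹ * n * a₁, hNY (by simpa using hN.conj_mem n hn a₁⁻¹), by group⟩
  set M₁ := Subgroup.normalizer (Y₁ : Set A) with hM₁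
  set U₁ := (W : Subgroup A) ⊓ M₁ with hU₁
  -- it is a Sylow subgroup of the normaliser
  obtain ⟨R₁, hR₁⟩ := ((W.2.to_le (inf_le_left : U₁ ≤ W)).of_equiv
    (Subgroup.subgroupOfEquivOfLe (inf_le_right : U₁ ≤ M₁)).symm).exists_le_sylow
  have hUeq : (R₁ : Subgroup M₁).map M₁.subtype = U₁ := by
    symm
    refine Subgroup.eq_of_le_of_card_ge (fun x hx => ⟨⟨x, hx.2⟩, hR₁ hx, rfl⟩) ?_
    obtain ⟨b, hb⟩ := exists_conj_mem_sylow W (R₁.2.map M₁.subtype)
    have hY₁R : Y₁ ≤ (R₁ : Subgroup M₁).map M₁.subtype := fun y hy =>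
      ⟨⟨y, Subgroup.le_normalizer hy⟩, hR₁ ⟨hY₁ hy, Subgroup.le_normalizer hy⟩, rfl⟩
    have hbY : Y₁.map (MulAut.conj b).toMonoidHom ∈ 𝒞 := by
      refine ⟨fun y hy => ?_, b * a₁, ?_⟩
      · obtain ⟨x, hx, rfl⟩ := (mem_map _ _ _).mp hy
        exact hb x (hY₁R hx)
      · rw [← ha₁, Subgroup.map_map]
        congr 1
        ext x
        simp [mul_assoc]
    refine le_trans (le_of_eq (card_map _ b).symm) (le_trans (Subgroup.card_le_of_le ?_) (hmax _ hbY))
    intro x hx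
    obtain ⟨r, hr, rfl⟩ := (mem_map _ _ _).mp hx
    refine ⟨hb r hr, ?_⟩
    obtain ⟨⟨r', hr'⟩, -, rfl⟩ := hr
    refine Subgroup.mem_normalizer_iff.mpr fun y => ?_
    rw [mem_map, mem_map]
    constructor
    · rintro ⟨z, hz, rfl⟩
      exact ⟨r' * z * r'⁻¹, (Subgroup.mem_normalizer_iff.mp hr' z).mp hz, by simp [mul_assoc]⟩
    · rintro ⟨z, hz, e⟩
      refine ⟨r'⁻¹ * z * r', (Subgroup.mem_normalizer_iff''.mp hr' z).mp hz, ?_⟩
      have e' : y = (b * r'⁻¹ * b⁻¹) * (b * z * b⁻¹) * (b * r' * b⁻¹) := by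
        rw [e]
        show y = _ * (b * r' * b⁻¹ * y * (b * r' * b⁻¹)⁻¹) * _
        group
      rw [e']
      group
  -- elements of the normaliser
  have hmapn : ∀ n ∈ M₁, Y₁.map (MulAut.conj n).toMonoidHom = Y₁ := by
    intro n hn
    refine Subgroup.eq_of_le_of_card_ge ?_ (card_map _ n).ge
    intro y hy
    obtain ⟨x, hx, rfl⟩ := (mem_map _ _ _).mp hy
    exact (Subgroup.mem_normalizer_iff.mp hn x).mp hx
  have hWM : ∀ n ∈ M₁, ∀ y ∈ Y₁, n * y * n⁻¹ ∈ (W : Subgroup A) := fun n hn y hy =>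
    hY₁ ((Subgroup.mem_normalizer_iff.mp hn y).mp hy)
  have hnorm : ∀ n ∈ M₁, Pr Y₁ n := by
    let PG : Subgroup M₁ :=
      { carrier := {n | Pr Y₁ n}
        one_mem' := hres W Y₁ 1 hNY₁ hY₁ le_rfl (fun y hy => by simpa using hy) (hW 1 (W : Subgroup A).one_mem)
        mul_mem' := fun {n m} hn hm => hmul Y₁ _ _ hNY₁ hY₁ (hWM _ m.2) hm (by rw [hmapn _ m.2]; exact hn)
        inv_mem' := fun {n} hn => by
          have := hinv Y₁ _ hNY₁ hY₁ (hWM _ n.2) hn
          rwa [hmapn _ n.2] at this }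
    have htop : PG = ⊤ := by
      refine eq_top_of_sylow_of_pprime PG R₁ (fun r hr => ?_) fun r hr => hprime Y₁ _ hNY₁ hY₁ r.2
        (by rwa [Subgroup.orderOf_coe])
      have hrW : (r : A) ∈ U₁ := hUeq.le ⟨r, hr, rfl⟩
      exact hres W Y₁ _ hNY₁ hY₁ le_rfl (fun y hy => (W : Subgroup A).mul_mem
        ((W : Subgroup A).mul_mem hrW.1 hy) ((W : Subgroup A).inv_mem hrW.1)) (hW _ hrW.1)
    exact fun n hn => (htop.ge (Subgroup.mem_top (⟨n, hn⟩ : M₁)) : Pr Y₁ n)
  -- every member of the class moves to `Y₁` nicely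
  have hmove : ∀ Y' ∈ 𝒞, ∃ a, Y'.map (MulAut.conj a).toMonoidHom = Y₁ ∧ Pr Y' a := by
    rintro Y' ⟨hY', b, hb⟩
    have hNY' : N ≤ Y' := fun n hn => by
      rw [← hb, mem_map]
      exact ⟨b⁻¹ * n * b, hNY (by simpa using hN.conj_mem n hn b⁻¹), by group⟩
    have hcardY : Nat.card Y' = Nat.card Y := hb ▸ card_map Y b
    rcases eq_or_lt_of_le hY' with hYW | hlt
    · refine ⟨1, ?_, hres W Y' 1 hNY' hY' le_rfl (fun y hy => by simpa using hy) (hW 1 (W : Subgroup A).one_mem)⟩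
      have : Y₁ = (W : Subgroup A) := Subgroup.eq_of_le_of_card_ge hY₁ (by
        rw [← ha₁, card_map, ← hcardY, hYW])
      ext y
      simp [this, hYW]
    obtain ⟨c, hc⟩ : ∃ c, Y'.map (MulAut.conj c).toMonoidHom = Y₁ := by
      refine ⟨a₁ * b⁻¹, ?_⟩
      rw [← hb, ← ha₁, Subgroup.map_map]
      congr 1
      ext x
      simp [mul_assoc]
    set U' := (W : Subgroup A) ⊓ Subgroup.normalizer (Y' : Set A) with hU'
    have hcU : U'.map (MulAut.conj c).toMonoidHom ≤ M₁ := by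
      intro x hx
      obtain ⟨u, hu, rfl⟩ := (mem_map _ _ _).mp hx
      refine Subgroup.mem_normalizer_iff.mpr fun y => ?_
      rw [← hc, mem_map, mem_map]
      constructor
      · rintro ⟨z, hz, rfl⟩
        exact ⟨u * z * u⁻¹, (Subgroup.mem_normalizer_iff.mp hu.2 z).mp hz, by simp [mul_assoc]⟩
      · rintro ⟨z, hz, e⟩
        refine ⟨u⁻¹ * z * u, (Subgroup.mem_normalizer_iff''.mp hu.2 z).mp hz, ?_⟩
        have e' : y = (c * u⁻¹ * c⁻¹) * (c * z * c⁻¹) * (c * u * c⁻¹) := by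
          rw [e]
          group
        rw [e']
        group
    obtain ⟨n, hn⟩ := exists_conj_mem_sylow R₁ (((W.2.to_le (inf_le_left : U' ≤ W)).map _).of_equiv
      (Subgroup.subgroupOfEquivOfLe hcU).symm)
    refine ⟨n * c, ?_, ?_⟩
    · rw [← hmapn n n.2, ← hc, Subgroup.map_map]
      congr 1
      ext x
      simp [mul_assoc]
    · have hnc : ∀ u ∈ U', (n * c) * u * (n * c)⁻¹ ∈ (W : Subgroup A) := by
        intro u hu
        have h1 := hn ⟨c * u * c⁻¹, hcU ((mem_map _ _ _).mpr ⟨u, hu, rfl⟩)⟩ ((mem_map _ _ _).mpr ⟨u, hu, rfl⟩)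
        have h2 := (hUeq.le ⟨_, h1, rfl⟩).1
        rw [show (n : A) * c * u * ((n : A) * c)⁻¹ = (n : A) * (c * u * c⁻¹) * (n : A)⁻¹ by group]
        exact h2
      have hY'U : Y' ≤ U' := le_inf hY' Subgroup.le_normalizer
      have hlt' : Y' < U' := by
        refine lt_of_le_of_ne hY'U fun e => hlt.ne ?_
        haveI : Group.IsNilpotent (W : Subgroup A) := W.2.isNilpotent
        by_contra hne
        have h3 := Group.normalizerCondition_of_isNilpotent (G := (W : Subgroup A)) (Y'.subgroupOf W)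
          (lt_top_iff_ne_top.mpr fun h => hne (le_antisymm hY' (Subgroup.subgroupOf_eq_top.mp h)))
        refine h3.not_ge fun x hx => ?_
        have hxN : (x : A) ∈ Subgroup.normalizer (Y' : Set A) := by
          refine Subgroup.mem_normalizer_fintype fun y hy => ?_
          exact (Subgroup.mem_normalizer_iff.mp hx ⟨y, hY' hy⟩).mp hy
        exact e.ge ⟨x.2, hxN⟩
      refine hres U' Y' _ hNY' hY'U inf_le_left hnc (ih _ ?_ U' rfl (hNY'.trans hY'U) inf_le_left _ hnc)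
      have h1 : Nat.card Y' < Nat.card U' :=
        lt_of_le_of_ne (Subgroup.card_le_of_le hlt'.le)
          fun e => hlt'.ne (Subgroup.eq_of_le_of_card_ge hlt'.le e.ge)
      have h2 : Nat.card U' ≤ Nat.card (W : Subgroup A) := Subgroup.card_le_of_le inf_le_left
      omega
  obtain ⟨a, ha, hPa⟩ := hmove Y ⟨hY, 1, by ext y; simp⟩
  set Y' := Y.map (MulAut.conj g).toMonoidHom with hY'def
  have hY'W : Y' ≤ (W : Subgroup A) := fun y hy => by
    obtain ⟨x, hx, rfl⟩ := (mem_map _ _ _).mp hy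
    exact hg x hx
  obtain ⟨b, hb, hPb⟩ := hmove Y' ⟨hY'W, g, rfl⟩
  have hNY' : N ≤ Y' := fun n hn =>
    (mem_map _ _ _).mpr ⟨g⁻¹ * n * g, hNY (by simpa using hN.conj_mem n hn g⁻¹), by group⟩
  have hn : b * g * a⁻¹ ∈ M₁ := by
    refine Subgroup.mem_normalizer_fintype fun y hy => ?_
    rw [SetLike.mem_coe, ← ha, mem_map] at hy
    obtain ⟨x, hx, rfl⟩ := hy
    rw [SetLike.mem_coe, ← hb, mem_map]
    exact ⟨g * x * g⁻¹, (mem_map _ _ _).mpr ⟨x, hx, rfl⟩, by group⟩
  have haW : ∀ y ∈ Y, a * y * a⁻¹ ∈ (W : Subgroup A) := fun y hy =>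
    hY₁ (ha ▸ (mem_map _ _ _).mpr ⟨y, hy, rfl⟩)
  have hbW : ∀ y ∈ Y', b * y * b⁻¹ ∈ (W : Subgroup A) := fun y hy =>
    hY₁ (hb ▸ (mem_map _ _ _).mpr ⟨y, hy, rfl⟩)
  have hbinv : Pr Y₁ b⁻¹ := by
    have := hinv Y' b hNY' hY'W hbW hPb
    rwa [hb] at this
  have h1 : Pr Y₁ (b⁻¹ * (b * g * a⁻¹)) :=
    hmul Y₁ _ _ hNY₁ hY₁ (hWM _ hn) (hnorm _ hn) (by rw [hmapn _ hn]; exact hbinv)
  have h2 := hmul Y a (b⁻¹ * (b * g * a⁻¹)) hNY hY haW hPa (by rw [ha]; exact h1)
  simpa [mul_assoc] using h2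

end Cfsg.FusionSystem.CentralLift
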