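import Cfsg.Agent.Lib.Fusion.CentralLift.Setup
import Cfsg.Agent.Lib.Fusion.CentralLift.Transfer

/-!
Maps over the preimage inducing maps of the normal subsystem, and their automiser groups.
-/

set_option autoImplicit false
set_option linter.unusedSectionVars false
set_option linter.style.haveILetI false

namespace Cfsg.FusionSystem.CentralLift

open Cfsg.FusionSystem.SubCent

universe u v

variable {Ω : Type u} [Group Ω] {Ω' : Type v} [Group Ω'] {S Z : Subgroup Ω} {S' T' : Subgroup Ω'}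
  {θ : S →* Ω'} {D : FusionSystem S} {Db : FusionSystem S'} {Eb : FusionSystem T'} {p : ℕ}

local notation "𝕋" => preimageAlong θ T'

/-- Maps between subgroups of the preimage containing the kernel that induce maps of the normal subsystem. -/
structure MMap (θ : S →* Ω') (D : FusionSystem S) (Z : Subgroup Ω) (Eb : FusionSystem T')
    (P Q : Subgroup Ω) (f : Ω → Ω) : Prop where
  leZ : Z ≤ P
  leT : P ≤ preimageAlong θ T'
  iso : D.IsIso P Q f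
  ind : ∃ fb, Eb.IsIso (bar θ P) (bar θ Q) fb ∧ ∀ x ∈ P, fb (thetaF θ x) = thetaF θ (f x)

/-- Subgroups over the kernel with centric image. -/
structure InH (θ : S →* Ω') (Z : Subgroup Ω) (Eb : FusionSystem T') (R : Subgroup Ω) : Prop where
  leZ : Z ≤ R
  leT : R ≤ preimageAlong θ T'
  centric : Eb.IsCentric (bar θ R)

/-- The automiser. -/
def autM (θ : S →* Ω') (D : FusionSystem S) (Z : Subgroup Ω) (Eb : FusionSystem T') (R : Subgroup Ω) :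
    Subgroup (MulAut R) :=
  Subgroup.closure {α | ∃ f, MMap θ D Z Eb R R f ∧ ∀ x : R, ((α x : R) : Ω) = f x}

/-- Automorphisms inducing the identity modulo `Z`. -/
def autK (D : FusionSystem S) (Z R : Subgroup Ω) : Subgroup (MulAut R) where
  carrier := {α | α ∈ D.autGroup R ∧ ∀ x : R, (x : Ω)⁻¹ * ((α x : R) : Ω) ∈ Z}
  one_mem' := ⟨one_mem _, fun x => by simp⟩
  mul_mem' := fun {a b} ha hb => ⟨Subgroup.mul_mem _ ha.1 hb.1, fun x => by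
    have := Z.mul_mem (hb.2 x) (ha.2 (b x))
    simpa [MulAut.mul_apply, mul_assoc] using this⟩
  inv_mem' := fun {a} ha => ⟨Subgroup.inv_mem _ ha.1, fun x => by
    have := Z.inv_mem (ha.2 (a⁻¹ x))
    simpa using this⟩

/-- The chosen complement to `autK`. -/
def autG (θ : S →* Ω') (D : FusionSystem S) (Z : Subgroup Ω) (Eb : FusionSystem T') (p : ℕ)
    (R : Subgroup Ω) : Subgroup (MulAut R) :=
  Subgroup.closure {α | α ∈ autM θ D Z Eb R ∧ ¬ p ∣ orderOf α} ⊔ autInducedBy (preimageAlong θ T') R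

theorem InH.le_S {R : Subgroup Ω} (hR : InH θ Z Eb R) : R ≤ S := hR.leT.trans preimageAlong_le

namespace Ctx

variable (c : Ctx p D Z θ Db Eb)
include c

variable [Finite S] [Fact p.Prime] {P Q R X X' : Subgroup Ω} {f g h : Ω → Ω}

theorem mmap_le_T (hf : MMap θ D Z Eb P Q f) : Q ≤ 𝕋 := c.T_closed.iso_le hf.iso hf.leT

theorem mmap_leZ (hf : MMap θ D Z Eb P Q f) : Z ≤ Q := c.Z_le_image hf.iso hf.leZ

theorem mmap_refl (hZ : Z ≤ P) (hP : P ≤ 𝕋) : MMap θ D Z Eb P P fun x => x :=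
  ⟨hZ, hP, IsIso.refl D (hP.trans c.T_le), fun x => x, IsIso.refl Eb (c.bar_le_T hP), fun _ _ => rfl⟩

theorem mmap_comp (hf : MMap θ D Z Eb P Q f) {W : Subgroup Ω} (hg : MMap θ D Z Eb Q W g) :
    MMap θ D Z Eb P W fun x => g (f x) := by
  obtain ⟨fb, hfb, hfe⟩ := hf.ind
  obtain ⟨gb, hgb, hge⟩ := hg.ind
  exact ⟨hf.leZ, hf.leT, hf.iso.comp hg.iso, _, hfb.comp hgb, fun x hx => by
    show gb (fb _) = _
    rw [hfe x hx, hge _ (hf.iso.mem hx)]⟩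

theorem mmap_symm (hf : MMap θ D Z Eb P Q f) :
    ∃ g, MMap θ D Z Eb Q P g ∧ (∀ x ∈ P, g (f x) = x) ∧ ∀ y ∈ Q, f (g y) = y := by
  obtain ⟨g, hg, hl, hr⟩ := hf.iso.symm
  obtain ⟨fb, hfb, hfe⟩ := hf.ind
  obtain ⟨gb, hgb, hbl, -⟩ := hfb.symm
  refine ⟨g, ⟨c.mmap_leZ hf, c.mmap_le_T hf, hg, gb, hgb, fun y hy => ?_⟩, hl, hr⟩
  conv_lhs => rw [← hr y hy, ← hfe _ (hg.mem hy)]
  exact hbl _ (thetaF_mem_bar hf.iso.le_left (hg.mem hy))

theorem bar_img (hf : D.IsIso P Q f) {fb : Ω' → Ω'} (hfe : ∀ x ∈ P, fb (thetaF θ x) = thetaF θ (f x))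
    (hX : X ≤ P) (hX' : ∀ y, y ∈ X' ↔ ∃ x ∈ X, f x = y) :
    ∀ y, y ∈ bar θ X' ↔ ∃ x ∈ bar θ X, fb x = y := by
  have hX'S : X' ≤ S := fun y hy => by
    obtain ⟨x, hx, rfl⟩ := (hX' y).mp hy
    exact hf.le_right (hf.mem (hX hx))
  intro y
  rw [mem_bar hX'S]
  constructor
  · rintro ⟨w, hw, rfl⟩
    obtain ⟨x, hx, rfl⟩ := (hX' w).mp hw
    exact ⟨_, thetaF_mem_bar (hX.trans hf.le_left) hx, hfe x (hX hx)⟩
  · rintro ⟨z, hz, rfl⟩
    obtain ⟨x, hx, rfl⟩ := (mem_bar (hX.trans hf.le_left)).mp hz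
    exact ⟨f x, (hX' _).mpr ⟨x, hx, rfl⟩, (hfe x (hX hx)).symm⟩

theorem mmap_restrict' (hf : MMap θ D Z Eb P Q f) (hX : X ≤ P) (hZX : Z ≤ X)
    (hX' : ∀ y, y ∈ X' ↔ ∃ x ∈ X, f x = y) : MMap θ D Z Eb X X' f := by
  obtain ⟨fb, hfb, hfe⟩ := hf.ind
  exact ⟨hZX, hX.trans hf.leT, hf.iso.restrict' hX hX', fb,
    hfb.restrict' (bar_mono hX) (c.bar_img hf.iso hfe hX hX'), fun x hx => hfe x (hX hx)⟩

theorem mmap_restrict (hf : MMap θ D Z Eb P Q f) (hX : X ≤ P) (hZX : Z ≤ X) :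
    ∃ X', MMap θ D Z Eb X X' f ∧ X' ≤ Q ∧ ∀ y, y ∈ X' ↔ ∃ x ∈ X, f x = y := by
  obtain ⟨X', -, hle, hm⟩ := hf.iso.restrict hX
  exact ⟨X', c.mmap_restrict' hf hX hZX hm, hle, hm⟩

theorem mmap_conj (hZ : Z ≤ P) (hP : P ≤ 𝕋) {t : Ω} (ht : t ∈ 𝕋) :
    ∃ Q, MMap θ D Z Eb P Q fun x => t * x * t⁻¹ := by
  have hTT : ∀ y, y ∈ 𝕋 ↔ ∃ x ∈ 𝕋, t * x * t⁻¹ = y := fun y =>
    ⟨fun hy => ⟨t⁻¹ * y * t, Subgroup.mul_mem _ (Subgroup.mul_mem _ (Subgroup.inv_mem _ ht) hy) ht, by group⟩,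
      fun ⟨x, hx, e⟩ => e ▸ Subgroup.mul_mem _ (Subgroup.mul_mem _ ht hx) (Subgroup.inv_mem _ ht)⟩
  have hfull : D.IsIso 𝕋 𝕋 fun x => t * x * t⁻¹ :=
    isIso_conj_normalizer c.T_le (c.T_le ht) (Subgroup.le_normalizer ht)
  have hTb : thetaF θ t ∈ T' := (c.mem_pre.mp ht).2
  have hb : Eb.IsIso (bar θ 𝕋) (bar θ 𝕋) fun y => thetaF θ t * y * (thetaF θ t)⁻¹ := by
    rw [c.bar_pre c.Tb_closed.1]
    exact isIso_conj_normalizer le_rfl hTb (Subgroup.le_normalizer hTb)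
  obtain ⟨Q, hQ, -, -⟩ := c.mmap_restrict (⟨c.Z_le_pre T', le_rfl, hfull, _, hb, fun x hx =>
    (thetaF_conj (c.T_le ht) (c.T_le hx)).symm⟩ : MMap θ D Z Eb 𝕋 𝕋 fun x => t * x * t⁻¹) hP hZ
  exact ⟨Q, hQ⟩

theorem mmap_congr (hf : MMap θ D Z Eb P Q f) (he : ∀ x ∈ P, g x = f x) : MMap θ D Z Eb P Q g := by
  obtain ⟨fb, hfb, hfe⟩ := hf.ind
  exact ⟨hf.leZ, hf.leT, hf.iso.congr he, fb, hfb, fun x hx => by rw [he x hx]; exact hfe x hx⟩

/-- A map congruent modulo `Z` to one inducing a map of the subsystem induces the same map. -/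
theorem mmap_of_mod (hf : MMap θ D Z Eb P Q f) {Q' : Subgroup Ω} (hg : D.IsIso P Q' g)
    (he : ∀ x ∈ P, thetaF θ (g x) = thetaF θ (f x)) : Q' = Q ∧ MMap θ D Z Eb P Q g := by
  obtain ⟨fb, hfb, hfe⟩ := hf.ind
  have hQ : Q' = Q := by
    refine c.bar_inj hg.le_right hf.iso.le_right (c.Z_le_image hg hf.leZ) (c.mmap_leZ hf) ?_
    ext y
    rw [mem_bar hg.le_right, mem_bar hf.iso.le_right]
    constructor
    · rintro ⟨w, hw, rfl⟩
      obtain ⟨x, hx, rfl⟩ := hg.surj hw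
      exact ⟨f x, hf.iso.mem hx, (he x hx).symm⟩
    · rintro ⟨w, hw, rfl⟩
      obtain ⟨x, hx, rfl⟩ := hf.iso.surj hw
      exact ⟨g x, hg.mem hx, he x hx⟩
  exact ⟨hQ, hf.leZ, hf.leT, hQ ▸ hg, fb, hfb, fun x hx => by rw [hfe x hx, he x hx]⟩

/-- Transport by a map of the system. -/
theorem mmap_transport {V V' : Subgroup Ω} (hh : D.IsIso V V' h) (hV : V ≤ 𝕋) (hf : MMap θ D Z Eb P Q f)
    (hP : P ≤ V) (hQ : Q ≤ V) {P' Q' : Subgroup Ω} (hP' : ∀ y, y ∈ P' ↔ ∃ x ∈ P, h x = y)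
    (hQ' : ∀ y, y ∈ Q' ↔ ∃ x ∈ Q, h x = y) {f' : Ω → Ω} (he : ∀ x ∈ P, f' (h x) = h (f x)) :
    MMap θ D Z Eb P' Q' f' := by
  obtain ⟨fb, hfb, hfe⟩ := hf.ind
  obtain ⟨hb, hhb, hhe⟩ := c.exists_bar hh
  have hPP' := hh.restrict' hP hP'
  have hQQ' := hh.restrict' hQ hQ'
  obtain ⟨k, hk, hkl, hkr⟩ := hPP'.symm
  have hiso : D.IsIso P' Q' f' := ((hk.comp hf.iso).comp hQQ').congr fun y hy => by
    conv_lhs => rw [← hkr y hy]
    rw [he _ (hk.mem hy)]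
  obtain ⟨f₂, hf₂, hf₂e⟩ := c.invariant.iso_transport hhb (c.bar_le_T hV) hfb (bar_mono hP) (bar_mono hQ)
    (c.bar_img hh hhe hP hP') (c.bar_img hh hhe hQ hQ')
  refine ⟨c.Z_le_image hPP' hf.leZ, c.T_closed.iso_le hPP' hf.leT, hiso, f₂, hf₂, fun y hy => ?_⟩
  obtain ⟨x, hx, rfl⟩ := (hP' y).mp hy
  rw [he x hx, ← hhe x (hP hx), hf₂e _ (thetaF_mem_bar hf.iso.le_left hx), hfe x hx,
    hhe _ (hQ (hf.iso.mem hx))]

theorem inH_image (hR : InH θ Z Eb R) (hh : D.IsIso R Q h) : InH θ Z Eb Q := by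
  obtain ⟨hb, hhb, -⟩ := c.exists_bar hh
  exact ⟨c.Z_le_image hh hR.leZ, c.T_closed.iso_le hh hR.leT, c.invariant.isCentric_of_isIso hR.centric hhb⟩

theorem finiteT : Finite T' :=
  haveI := c.finite'
  finite_of_le c.Tb_closed.1

theorem inH_of_le (hR : InH θ Z Eb R) (hRQ : R ≤ Q) (hQ : Q ≤ 𝕋) : InH θ Z Eb Q :=
  haveI := c.finiteT
  ⟨hR.leZ.trans hRQ, hQ, isCentric_of_le hR.centric (bar_mono hRQ) (c.bar_le_T hQ)⟩

theorem inH_T : InH θ Z Eb 𝕋 :=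
  haveI := c.finiteT
  ⟨c.Z_le_pre T', le_rfl, by rw [c.bar_pre c.Tb_closed.1]; exact isCentric_self⟩

theorem mem_of_centMod (hR : InH θ Z Eb R) {x : Ω} (hx : x ∈ 𝕋)
    (hc : ∀ r ∈ R, thetaF θ (x * r * x⁻¹) = thetaF θ r) : x ∈ R := by
  haveI := c.finiteT
  have h1 : thetaF θ x ∈ centralizerIn T' (bar θ R) := by
    refine ⟨(c.mem_pre.mp hx).2, Subgroup.mem_centralizer_iff.mpr fun y hy => ?_⟩
    obtain ⟨r, hr, rfl⟩ := (mem_bar hR.le_S).mp hy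
    have := hc r hr
    rw [thetaF_conj (c.T_le hx) (hR.le_S hr)] at this
    exact (mul_inv_eq_iff_eq_mul.mp this).symm
  rw [← c.pre_bar hR.leZ hR.le_S, c.mem_pre]
  exact ⟨c.T_le hx, hR.centric.centralizerIn_le_self h1⟩

theorem centralizer_le (hR : InH θ Z Eb R) : centralizerIn 𝕋 R ≤ R := fun x hx =>
  c.mem_of_centMod hR hx.1 fun r hr => by
    rw [← Subgroup.mem_centralizer_iff.mp hx.2 r hr, mul_inv_cancel_right]

theorem mem_autM (hZ : Z ≤ R) (hR : R ≤ 𝕋) {α : MulAut R} :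
    α ∈ autM θ D Z Eb R ↔ ∃ f, MMap θ D Z Eb R R f ∧ ∀ x : R, ((α x : R) : Ω) = f x := by
  refine ⟨fun hα => ?_, fun h => Subgroup.subset_closure h⟩
  induction hα using Subgroup.closure_induction with
  | mem x hx => exact hx
  | one => exact ⟨fun x => x, c.mmap_refl hZ hR, fun x => rfl⟩
  | mul a b _ _ iha ihb =>
    obtain ⟨f, hf, hfe⟩ := iha
    obtain ⟨g, hg, hge⟩ := ihb
    exact ⟨_, c.mmap_comp hg hf, fun x => by rw [MulAut.mul_apply, hfe, hge]⟩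
  | inv a _ iha =>
    obtain ⟨f, hf, hfe⟩ := iha
    obtain ⟨g, hg, hl, -⟩ := c.mmap_symm hf
    refine ⟨g, hg, fun x => ?_⟩
    conv_rhs => rw [← MulAut.apply_inv_self R a x, hfe]
    exact (hl _ (SetLike.coe_mem _)).symm

theorem mmap_of_autM (hZ : Z ≤ R) (hR : R ≤ 𝕋) {α : MulAut R} (hα : α ∈ autM θ D Z Eb R)
    (he : ∀ x : R, ((α x : R) : Ω) = f x) : MMap θ D Z Eb R R f := by
  obtain ⟨g, hg, hge⟩ := (c.mem_autM hZ hR).mp hα
  exact c.mmap_congr hg fun x hx => (he ⟨x, hx⟩).symm.trans (hge ⟨x, hx⟩)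

theorem autM_le (hR : R ≤ 𝕋) : autM θ D Z Eb R ≤ D.autGroup R :=
  (Subgroup.closure_le _).mpr fun _ ⟨_, hf, he⟩ => by
    obtain ⟨φ, hφ, -, hφe⟩ := hf.iso
    exact D.mem_autGroup_of_map hφ fun x => (he x).trans (hφe x).symm

theorem autK_le (hZ : Z ≤ R) (hR : R ≤ 𝕋) : autK D Z R ≤ autM θ D Z Eb R := by
  intro α hα
  obtain ⟨f, hf, hfe⟩ := isIso_of_aut (hR.trans c.T_le) hα.1
  refine (c.mem_autM hZ hR).mpr ⟨f, (c.mmap_of_mod (c.mmap_refl hZ hR) hf fun x hx => ?_).2, hfe⟩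
  refine ((c.thetaF_eq (c.T_le (hR hx)) (hf.le_right (hf.mem hx))).mpr ?_).symm
  rw [← hfe ⟨x, hx⟩]
  exact hα.2 ⟨x, hx⟩

theorem aut_apply_Z (hR : R ≤ S) {α : MulAut R} (hα : α ∈ D.autGroup R) (x : R) (hx : (x : Ω) ∈ Z) :
    α x = x := by
  obtain ⟨f, hf, hfe⟩ := isIso_of_aut hR hα
  exact Subtype.ext ((hfe x).trans (c.fix_Z hf hx x.2))

theorem autK_normal (hR : R ≤ S) {α β : MulAut R} (hα : α ∈ autK D Z R) (hβ : β ∈ D.autGroup R) :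
    β * α * β⁻¹ ∈ autK D Z R := by
  refine ⟨Subgroup.mul_mem _ (Subgroup.mul_mem _ hβ hα.1) (Subgroup.inv_mem _ hβ), fun x => ?_⟩
  have h1 := hα.2 (β⁻¹ x)
  set y := β⁻¹ x with hy
  obtain ⟨f, hf, hfe⟩ := isIso_of_aut hR hβ
  have h2 : β (y⁻¹ * α y) = y⁻¹ * α y := c.aut_apply_Z hR hβ _ (by simpa using h1)
  have h3 : β (y⁻¹ * α y) = x⁻¹ * (β * α * β⁻¹) x := by
    rw [map_mul, map_inv, hy]
    simp [MulAut.mul_apply]
  rw [h3] at h2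
  have h4 := congrArg Subtype.val h2
  simp only [Subgroup.coe_mul, InvMemClass.coe_inv] at h4
  rw [h4]
  simpa using h1

theorem autK_isPGroup (hR : R ≤ S) : IsPGroup p (autK D Z R) := by
  haveI := finite_of_le hR
  refine isPGroup_of_stabilises (c.hS.to_le hR) (n := 2) ![⊥, Z.subgroupOf R, ⊤] rfl rfl _ ?_
  intro α hα i x hx
  fin_cases i
  · show x⁻¹ * α x ∈ (⊥ : Subgroup R)
    rw [Subgroup.mem_bot, c.aut_apply_Z hR hα.1 x hx, inv_mul_cancel]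
  · exact Subgroup.mem_subgroupOf.mpr (by simpa using hα.2 x)

theorem autK_comm (hR : R ≤ S) {α β : MulAut R} (hα : α ∈ autK D Z R) (hβ : β ∈ autK D Z R) :
    α * β = β * α := by
  refine MulEquiv.ext fun x => ?_
  rw [MulAut.mul_apply, MulAut.mul_apply]
  have ha := hα.2 x
  have hb := hβ.2 x
  have e1 : α (β x) = α x * (x⁻¹ * β x) := by
    conv_lhs => rw [show β x = x * (x⁻¹ * β x) by group]
    rw [map_mul, c.aut_apply_Z hR hα.1 (x⁻¹ * β x) (by simpa using hb)]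
  have e2 : β (α x) = β x * (x⁻¹ * α x) := by
    conv_lhs => rw [show α x = x * (x⁻¹ * α x) by group]
    rw [map_mul, c.aut_apply_Z hR hβ.1 (x⁻¹ * α x) (by simpa using ha)]
  rw [e1, e2]
  apply Subtype.ext
  simp only [Subgroup.coe_mul, InvMemClass.coe_inv]
  have hcen := c.hZ.le_center.trans D.center_le_centralizer
  have h5 : ((α x : R) : Ω) * ((x : Ω)⁻¹ * (β x : R)) = ((x : Ω)⁻¹ * (β x : R)) * (α x : R) :=
    Subgroup.mem_centralizer_iff.mp (hcen hb) _ (hR (α x).2)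
  rw [h5]
  have h6 : (x : Ω)⁻¹ * ((β x : R) : Ω) * (x : Ω) = (β x : R) := by
    rw [← Subgroup.mem_centralizer_iff.mp (hcen hb) _ (hR x.2)]
    group
  calc (x : Ω)⁻¹ * ((β x : R) : Ω) * ((α x : R) : Ω)
      = ((x : Ω)⁻¹ * (β x : R) * x) * ((x : Ω)⁻¹ * (α x : R)) := by group
    _ = _ := by rw [h6]

theorem autM_normal (hZ : Z ≤ R) (hR : R ≤ 𝕋) {α β : MulAut R} (hα : α ∈ autM θ D Z Eb R)
    (hβ : β ∈ D.autGroup R) : β * α * β⁻¹ ∈ autM θ D Z Eb R := by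
  obtain ⟨f, hf, hfe⟩ := (c.mem_autM hZ hR).mp hα
  obtain ⟨b, hb, hbe⟩ := isIso_of_aut (hR.trans c.T_le) hβ
  obtain ⟨g, hg, hge⟩ := isIso_of_aut (hR.trans c.T_le)
    (Subgroup.mul_mem _ (Subgroup.mul_mem _ hβ (c.autM_le hR hα)) (Subgroup.inv_mem _ hβ))
  refine (c.mem_autM hZ hR).mpr ⟨g, c.mmap_transport hb hR hf le_rfl le_rfl
    (image_self hb le_rfl fun x hx => hb.mem hx) (image_self hb le_rfl fun x hx => hb.mem hx) ?_, hge⟩
  intro x hx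
  rw [← hbe ⟨x, hx⟩, ← hge, MulAut.mul_apply, MulAut.mul_apply, MulAut.inv_apply_self, hbe, hfe]

theorem autInduced_le_autM (hZ : Z ≤ R) (hR : R ≤ 𝕋) : autInducedBy 𝕋 R ≤ autM θ D Z Eb R := by
  intro α hα
  obtain ⟨t, ht, htn, hte⟩ := mem_autInducedBy_iff.mp hα
  obtain ⟨Q, hQ⟩ := c.mmap_conj hZ hR ht
  have : Q = R := by
    haveI := finite_of_le (hR.trans c.T_le)
    refine Subgroup.eq_of_le_of_card_ge (fun y hy => ?_) hQ.iso.card_eq.le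
    obtain ⟨x, hx, rfl⟩ := hQ.iso.surj hy
    exact (Subgroup.mem_normalizer_iff.mp htn x).mp hx
  subst this
  exact (c.mem_autM hZ hR).mpr ⟨_, hQ, hte⟩

theorem autG_le (hZ : Z ≤ R) (hR : R ≤ 𝕋) : autG θ D Z Eb p R ≤ autM θ D Z Eb R :=
  sup_le ((Subgroup.closure_le _).mpr fun _ ha => ha.1) (c.autInduced_le_autM hZ hR)

end Ctx

end Cfsg.FusionSystem.CentralLift
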