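import Cfsg.Agent.Lib.Fusion.CentralLift.Saturated

/-!
Normal subsystems lift over a central subgroup.
-/

set_option autoImplicit false
set_option linter.unusedSectionVars false
set_option linter.style.haveILetI false

namespace Cfsg.FusionSystem.CentralLift

open Cfsg.FusionSystem.SubCent

universe u v

variable {Ω : Type u} [Group Ω] {Ω' : Type v} [Group Ω'] {S Z : Subgroup Ω} {S' T' : Subgroup Ω'}
  {θ : S →* Ω'} {D : FusionSystem S} {Db : FusionSystem S'} {Eb : FusionSystem T'} {p : ℕ}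

local notation "𝕋" => preimageAlong θ T'

namespace Ctx

variable (c : Ctx p D Z θ Db Eb)
include c

variable [Finite S] [Fact p.Prime] {P Q R : Subgroup Ω} {f h : Ω → Ω}

/-- An automorphism trivial modulo `Z` splits along the preimage. -/
theorem autK_frattini (hZ : Z ≤ P) (hP : P ≤ 𝕋) {k : MulAut P} (hk : k ∈ autK D Z P) :
    ∃ (γ : Ω → Ω) (P₂ : Subgroup Ω) (e : Ω → Ω), D.IsIso 𝕋 𝕋 γ ∧ Chain θ D Z Eb p P P₂ e ∧ D.IsIso P₂ P γ ∧
      ∀ x : P, γ (e x) = (k x : P) := by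
  have hPS := hP.trans c.T_le
  obtain ⟨R, N', h₀, hn, hh, -⟩ := c.exists_move hPS
  obtain ⟨a, P₁, e, ha, he, haP, -⟩ := c.exists_frattini_mod hh hZ hP
  have hei := (c.chain_mmap he).iso
  have hw := hei.comp haP
  obtain ⟨Φ, hΦ⟩ := exists_transp hw
  obtain ⟨s, hs, hsn, hse⟩ := mem_autInducedBy_iff.mp (c.autK_le_autInduced hn (c.transp_autK hZ hw hΦ hk))
  have hsT : D.IsIso 𝕋 𝕋 fun x => s * x * s⁻¹ := isIso_conj_normalizer c.T_le hs (c.T_closed.le_normalizer hs)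
  obtain ⟨ka, hka, hkal, hkar⟩ := ha.symm
  have hγ : D.IsIso 𝕋 𝕋 fun x => ka (s * a x * s⁻¹) := (ha.comp hsT).comp hka
  obtain ⟨g, hg, hgl, hgr⟩ := hγ.symm
  obtain ⟨e', he', hel, -⟩ := c.chain_symm he
  have hP₁T : P₁ ≤ 𝕋 := c.chain_le_T he
  have hval : ∀ x : P, ka (s * a (e x) * s⁻¹) = e (k x : P) := fun x => by
    have h1 := hΦ k x (hw.mem x.2)
    rw [hse] at h1
    rw [h1]
    exact hkal _ (hP₁T (hei.mem (k x).2))
  have hself : ∀ y, y ∈ P₁ ↔ ∃ x ∈ P₁, g x = y := by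
    intro y
    constructor
    · intro hy
      obtain ⟨x, hx, rfl⟩ := hei.surj hy
      refine ⟨e (k ⟨x, hx⟩ : P), hei.mem (SetLike.coe_mem _), ?_⟩
      rw [← hval ⟨x, hx⟩]
      exact hgl _ (hP₁T (hei.mem hx))
    · rintro ⟨v, hv, rfl⟩
      obtain ⟨x, hx, rfl⟩ := hei.surj hv
      obtain ⟨x', hx'⟩ := k.surjective ⟨x, hx⟩
      have := hgl _ (hP₁T (hei.mem x'.2))
      rw [show ka (s * a (e x') * s⁻¹) = e x by rw [hval x', hx']] at this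
      rw [this]
      exact hei.mem x'.2
  obtain ⟨P₂, -, -, hP₂⟩ := hg.restrict hP
  have hch : Chain θ D Z Eb p P₁ P₂ fun y => g (e' (ka (s * a y * s⁻¹))) :=
    c.chain_transport hg he' hself hP₂ fun x hx => by
      have := hgr x (hP₁T hx)
      rw [this]
  refine ⟨_, P₂, _, hγ, .comp he hch, hγ.restrict' (c.chain_le_T hch) (fun y => ?_), fun x => ?_⟩
  · constructor
    · exact fun hy => ⟨g y, (hP₂ _).mpr ⟨y, hy, rfl⟩, hgr y (hP hy)⟩
    · rintro ⟨w, hw', e⟩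
      obtain ⟨v, hv, rfl⟩ := (hP₂ w).mp hw'
      rw [hgr v (hP hv)] at e
      exact e ▸ hv
  · show ka (s * a (g (e' (ka (s * a (e x) * s⁻¹)))) * s⁻¹) = _
    rw [hval x, hel _ (k x).2]
    exact hgr _ (hP (k x).2)

/-- The lifted system is invariant. -/
theorem liftSystem_invariant : c.liftSystem.IsInvariantIn D := by
  refine ⟨c.liftSystem_sub, c.T_closed, ?_, ?_⟩
  · rintro P hPT φ ⟨P', Q, f, hPP', hf, hfe⟩ α hα
    obtain ⟨a, ha, hae⟩ := isIso_of_aut c.T_le hα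
    obtain ⟨k, -, hkl, -⟩ := ha.symm
    have hfT : P' ≤ 𝕋 := (c.chain_mmap hf).leT
    obtain ⟨P'', -, -, hP''⟩ := ha.restrict hfT
    obtain ⟨Q'', -, -, hQ''⟩ := ha.restrict (c.chain_le_T hf)
    have hch : Chain θ D Z Eb p P'' Q'' fun y => a (f (k y)) :=
      c.chain_transport ha hf hP'' hQ'' fun x hx => by rw [hkl x (hfT hx)]
    have hX : (P.subgroupOf 𝕋).map ((𝕋 : Subgroup Ω).subtype.comp α.toMonoidHom) ≤ P'' := by
      rintro _ ⟨x, hx, rfl⟩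
      exact (hP'' _).mpr ⟨x, hPP' hx, (hae x).symm⟩
    obtain ⟨χ, hχ, -, hχe⟩ := ((c.liftSystem_iso_of_chain hch).restrict hX).choose_spec.1
    refine ⟨χ, hχ, fun x hφx hαx => ?_⟩
    rw [hχe, hae ⟨φ x, hφx⟩]
    show a (f (k ((α ⟨x, hPT x.2⟩ : 𝕋) : Ω))) = _
    rw [hae, hkl _ (hPT x.2)]
    show a (f x) = a (φ x)
    rw [hfe]
  · intro P hPT φ hφ
    obtain ⟨h, Q, hh, hhe⟩ := c.exists_ext (isIso_funOf hφ)
    have hZ : Z ≤ P ⊔ Z := le_sup_right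
    have hPZ : P ⊔ Z ≤ 𝕋 := sup_le hPT (c.Z_le_pre T')
    obtain ⟨a, P₁, e, ha, he, haP, hcong⟩ := c.exists_frattini_mod hh hZ hPZ
    have hw := (c.chain_mmap he).iso.comp haP
    obtain ⟨w', hw', hwl, hwr⟩ := hw.symm
    obtain ⟨k, hk, hke⟩ := (hh.comp hw').toAut
    have hkK : k ∈ autK D Z (P ⊔ Z) := by
      refine ⟨hk, fun x => ?_⟩
      rw [hke]
      show (x : Ω)⁻¹ * w' (h x) ∈ Z
      have h1 := hcong x x.2
      rw [c.thetaF_eq (hw.le_right (hw.mem x.2)) (hh.le_right (hh.mem x.2))] at h1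
      have h2 : w' ((a (e x))⁻¹ * h x) = (x : Ω)⁻¹ * w' (h x) := by
        rw [hw'.apply_mul (Subgroup.inv_mem _ (hw.mem x.2)) (hh.mem x.2), hw'.apply_inv (hw.mem x.2)]
        show (w' (a (e x)))⁻¹ * _ = _
        rw [hwl x x.2]
      rw [← h2, c.fix_Z hw' h1 (Subgroup.mul_mem _ (Subgroup.inv_mem _ (hw.mem x.2)) (hh.mem x.2))]
      exact h1
    obtain ⟨γ, P₂, e₂, hγ, he₂, hγP, hγe⟩ := c.autK_frattini hZ hPZ hkK
    obtain ⟨g, hg, hgl, hgr⟩ := hγ.symm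
    have hP₁T : P₁ ≤ 𝕋 := c.chain_le_T he
    obtain ⟨P₃, -, -, hP₃⟩ := hg.restrict hP₁T
    have hch : Chain θ D Z Eb p P₂ P₃ fun y => g (e (γ y)) :=
      c.chain_transport hg he (fun y => ⟨fun hy => ⟨γ y, hγP.mem hy, hgl y (c.chain_le_T he₂ hy)⟩,
          fun ⟨x, hx, e'⟩ => by
            obtain ⟨v, hv, rfl⟩ := hγP.surj hx
            rw [hgl v (c.chain_le_T he₂ hv)] at e'
            exact e' ▸ hv⟩) hP₃ fun x hx => by rw [hgr x (hPZ hx)]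
    obtain ⟨φ₀, hφ₀, -, hφ₀e⟩ := (c.liftSystem_iso_of_chain (.comp he₂ hch))
    obtain ⟨α, hα, hαe⟩ := (hγ.comp ha).toAut
    refine ⟨α, hα, φ₀.comp (Subgroup.inclusion le_sup_left), c.liftSystem.restrict_mem hφ₀ le_sup_left, fun x hx => ?_⟩
    have hxm : (x : Ω) ∈ P ⊔ Z := Subgroup.mem_sup_left x.2
    have hkx : ((k ⟨x, hxm⟩ : ↥(P ⊔ Z)) : Ω) = w' (h x) := hke _
    rw [hαe, funOf_apply φ x, ← hhe x x.2]
    show h x = a (γ (φ₀ (Subgroup.inclusion le_sup_left x)))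
    rw [hφ₀e]
    show h x = a (γ (g (e (γ (e₂ x)))))
    rw [hγe ⟨x, hxm⟩, hgr _ (hP₁T ((c.chain_mmap he).iso.mem (SetLike.coe_mem _))), hkx]
    exact (hwr _ (hh.mem hxm)).symm

theorem autGood_top_liftable : autGood θ D Z Eb p 𝕋 ≤ liftable D 𝕋 c.T_le := by
  haveI := finite_of_le (c.T_le : 𝕋 ≤ S)
  haveI := finite_mulAut_of_le (c.T_le : 𝕋 ≤ S)
  haveI := c.finite'
  have hT := c.inH_T
  have hn : D.IsFullyNormalized 𝕋 := isFullyNormalized_of_stronglyClosed c.T_closed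
  have hin : autInducedBy 𝕋 𝕋 ≤ liftable D 𝕋 c.T_le := autInducedBy_le_liftable c.T_closed le_rfl centralizerIn_le
  rw [c.autGood_fn hT hn]
  refine sup_le ((Subgroup.closure_le _).mpr fun a ⟨haM, hord⟩ => ?_) hin
  obtain ⟨f, hf, hfe⟩ := (c.mem_autM hT.leZ le_rfl).mp haM
  obtain ⟨fb, hfb, hfbe⟩ := hf.ind
  rw [c.bar_pre c.Tb_closed.1] at hfb
  obtain ⟨αb, hαb, hαbe⟩ := hfb.toAut
  obtain ⟨fb', hL, hLe⟩ := autGroup_le_liftable c.hEb hαb
  set Vb := T' ⊔ centralizerIn S' T'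
  set V := preimageAlong θ Vb
  have hVb : Vb ≤ S' := hL.iso.le_left
  obtain ⟨b, hb, hbe⟩ := c.exists_lift (P := V) (Q := V) preimageAlong_le (c.Z_le_pre _) preimageAlong_le
    (c.Z_le_pre _) (by rw [c.bar_pre hVb]; exact hL.iso)
  have hTV : 𝕋 ≤ V := fun x hx => c.mem_pre.mpr ⟨c.T_le hx, Subgroup.mem_sup_left (c.mem_pre.mp hx).2⟩
  have hC : ∀ {x : Ω}, x ∈ centralizerIn S 𝕋 → thetaF θ x ∈ centralizerIn S' T' := by
    intro x hx
    refine ⟨c.range_eq.le ⟨⟨x, hx.1⟩, (thetaF_apply hx.1).symm⟩, Subgroup.mem_centralizer_iff.mpr fun y hy => ?_⟩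
    obtain ⟨t, ht, rfl⟩ := (mem_bar c.T_le).mp ((c.bar_pre c.Tb_closed.1).ge hy)
    rw [← thetaF_mul (c.T_le ht) hx.1, Subgroup.mem_centralizer_iff.mp hx.2 t ht, thetaF_mul hx.1 (c.T_le ht)]
  have hCV : centralizerIn S 𝕋 ≤ V := fun x hx => c.mem_pre.mpr ⟨hx.1, Subgroup.mem_sup_right (hC hx)⟩
  have hbT : ∀ x ∈ 𝕋, b x ∈ 𝕋 := fun x hx => c.T_closed.iso_mem hb (hTV hx) hx
  have hbC : ∀ x ∈ centralizerIn S 𝕋, b x ∈ centralizerIn S 𝕋 := fun x hx =>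
    map_centralizer hb hTV (image_self hb hTV hbT) hx (hCV hx)
  have hlift : Lift D 𝕋 b := by
    refine ⟨sup_image hb hTV hCV (image_self hb hTV hbT) (image_self hb hCV hbC), hbT, fun x hx => ?_⟩
    refine c.mem_pre.mpr ⟨S.mul_mem (S.inv_mem hx.1) (hbC x hx).1, ?_⟩
    rw [thetaF_mul (S.inv_mem hx.1) (hbC x hx).1, thetaF_inv hx.1, ← hbe x (hCV hx)]
    exact hL.triv _ (hC hx)
  obtain ⟨β, hβ, hβe⟩ := hlift.restrictP.toAut
  have hβl : β ∈ liftable D 𝕋 c.T_le := ⟨b, hlift, hβe⟩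
  have haD := c.autM_le (D := D) (Eb := Eb) le_rfl haM
  have hk : a⁻¹ * β ∈ autK D Z 𝕋 := by
    refine ⟨Subgroup.mul_mem _ (Subgroup.inv_mem _ haD) hβ, fun x => ?_⟩
    have h1 : thetaF θ (f x) = thetaF θ (b x) := by
      rw [← hbe _ (hTV x.2), ← hfbe _ x.2, ← hαbe ⟨_, (c.mem_pre.mp x.2).2⟩, hLe ⟨_, (c.mem_pre.mp x.2).2⟩]
    rw [c.thetaF_eq (hf.iso.le_right (hf.iso.mem x.2)) (c.T_le (hbT x x.2))] at h1
    have h2 : a⁻¹ ((a x)⁻¹ * β x) = x⁻¹ * (a⁻¹ * β) x := by simp [MulAut.mul_apply]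
    have h3 : ((a x)⁻¹ * β x : ↥(𝕋)) = a⁻¹ ((a x)⁻¹ * β x) :=
      (c.aut_apply_Z c.T_le (Subgroup.inv_mem _ haD) _ (by simpa [hfe, hβe] using h1)).symm
    have h4 := congrArg Subtype.val (h3.trans h2)
    simp only [Subgroup.coe_mul, InvMemClass.coe_inv] at h4
    rw [← h4, hfe, hβe]
    exact h1
  set k := a⁻¹ * β with hkdef
  obtain ⟨e, he⟩ := c.autK_isPGroup c.T_le ⟨k, hk⟩
  have hke : k ^ p ^ e = 1 := congrArg Subtype.val he
  have hcop : Nat.Coprime (orderOf a) (p ^ e) :=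
    Nat.Coprime.pow_right e ((Nat.Prime.coprime_iff_not_dvd Fact.out).mpr hord).symm
  obtain ⟨N, hN1, hN0⟩ := Nat.chineseRemainder hcop 1 0
  have haN : a ^ N = a := (pow_eq_pow_iff_modEq.mpr hN1).trans (pow_one a)
  have hkN : k ^ N = 1 := by
    obtain ⟨i, hi⟩ := Nat.modEq_zero_iff_dvd.mp hN0
    rw [hi, pow_mul, hke, one_pow]
  have hInn : Inn (𝕋 : Subgroup Ω) ≤ liftable D 𝕋 c.T_le := (c.inner_le_autInduced le_rfl).trans hin
  haveI : (Inn (𝕋 : Subgroup Ω)).Normal := innNormal _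
  set q := QuotientGroup.mk' (Inn (𝕋 : Subgroup Ω))
  have hcomm : Commute (q a) (q k) := by
    have h1 : q (a * k * a⁻¹ * k⁻¹) = 1 :=
      (QuotientGroup.eq_one_iff _).mpr (c.central_all hT a haM k hk)
    rw [map_mul, map_mul, map_mul, map_inv, map_inv, mul_inv_eq_one, mul_inv_eq_iff_eq_mul] at h1
    exact h1
  have hq : q ((a * k) ^ N * a⁻¹) = 1 := by
    rw [map_mul, map_pow, map_mul, hcomm.mul_pow, ← map_pow, ← map_pow, haN, hkN, map_one, mul_one, map_inv,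
      mul_inv_cancel]
  have hmem : (a * k) ^ N * a⁻¹ ∈ Inn (𝕋 : Subgroup Ω) := (QuotientGroup.eq_one_iff _).mp hq
  rw [hkdef, mul_inv_cancel_left] at hmem
  have h5 := Subgroup.mul_mem _ (Subgroup.inv_mem _ (Subgroup.pow_mem _ hβl N)) (hInn hmem)
  rw [inv_mul_cancel_left] at h5
  exact (Subgroup.inv_mem_iff _).mp h5

/-- **The lifted system is normal.** -/
theorem liftSystem_normal : c.liftSystem.IsNormalIn D p := by
  refine ⟨⟨c.liftSystem_saturated, c.hD, c.liftSystem_invariant⟩, fun α hα => ?_⟩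
  rw [c.autGroup_liftSystem c.inH_T] at hα
  obtain ⟨b, hb, hbe⟩ := c.autGood_top_liftable hα
  obtain ⟨β, hβ, hβe⟩ := hb.iso.toAut
  refine ⟨β, hβ, fun x => by rw [hβe, hbe]; rfl, fun y hy => ?_⟩
  rw [hβe]
  exact ⟨(hb.triv' hy).1, (hb.triv' hy).2.2⟩

/-- If the lifted system is everything, so is the subsystem. -/
theorem le_of_liftSystem (hle : ∀ P, D.Hom P ⊆ c.liftSystem.Hom P) : ∀ P, Db.Hom P ⊆ Eb.Hom P := by
  intro P φ hφ
  have hi : Db.IsIso P φ.range (funOf φ) := isIso_funOf hφ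
  have hP : P ≤ S' := hi.le_left
  obtain ⟨m, hm, hme⟩ := c.exists_lift (P := preimageAlong θ P) (Q := preimageAlong θ φ.range) preimageAlong_le
    (c.Z_le_pre _) preimageAlong_le (c.Z_le_pre _) (by rw [c.bar_pre hP, c.bar_pre hi.le_right]; exact hi)
  obtain ⟨ψ, hψ, hr, hψe⟩ := hm
  have hch := c.chain_of_liftSystem_iso ⟨ψ, hle _ hψ, hr, hψe⟩ (c.Z_le_pre P)
  obtain ⟨fb, hfb, hfe⟩ := (c.chain_mmap hch).ind
  rw [c.bar_pre hP, c.bar_pre hi.le_right] at hfb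
  refine mem_hom_of_isIso hfb fun z => ?_
  obtain ⟨x, hx, hxe⟩ := (mem_bar preimageAlong_le).mp ((c.bar_pre hP).ge z.2)
  rw [funOf_apply φ z, ← hxe, hfe x hx, hme x hx]

end Ctx

end Cfsg.FusionSystem.CentralLift
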