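import Cfsg.Agent.Lib.Fusion.CentralLift.Coherence
import Cfsg.Agent.Lib.Fusion.FamilySaturation.Main
import Cfsg.Agent.Lib.Basic

/-!
The lifted system is saturated.
-/

set_option autoImplicit false
set_option linter.unusedSectionVars false
set_option linter.style.haveILetI false

namespace Cfsg.FusionSystem.CentralLift

open Cfsg.FusionSystem.SubCent

universe u v

variable {Ω : Type u} [Group Ω] {Ω' : Type v} [Group Ω'] {S Z : Subgroup Ω} {S' T' : Subgroup Ω'}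
  {θ : S →* Ω'} {D : FusionSystem S} {Db : FusionSystem S'} {Eb : FusionSystem T'} {p : ℕ}

local notation "𝕋" => preimageAlong θ T'

namespace Ctx

variable (c : Ctx p D Z θ Db Eb)
include c

variable [Finite S] [Fact p.Prime] {P Q R : Subgroup Ω} {f h : Ω → Ω}

/-- The chains at a centric subgroup lie in the complement. -/
theorem goodAt (hR : InH θ Z Eb R) : GoodAt θ D Z Eb p R := by
  suffices H : ∀ (d : ℕ) (R : Subgroup Ω), Nat.card S - Nat.card R = d → InH θ Z Eb R → GoodAt θ D Z Eb p R from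
    H _ R rfl hR
  intro d
  induction d using Nat.strong_induction_on with
  | _ d ih =>
  intro R hd hR
  obtain ⟨R₁, N', h, hn, hh, -⟩ := c.exists_move hR.le_S
  have hR1 := c.inH_image hR hh
  haveI := finite_of_le (c.T_le : 𝕋 ≤ S)
  have h1 : GoodAt θ D Z Eb p R₁ := c.goodAt_fn hR1 hn fun L hL hlt => by
    refine ih _ ?_ L rfl hL
    have h2 : Nat.card L ≤ Nat.card S := Subgroup.card_le_of_le hL.le_S
    have h3 : Nat.card R = Nat.card R₁ := hh.card_eq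
    omega
  obtain ⟨a, P₁, e, ha, he, haP, -⟩ := c.exists_frattini_mod hh hR.leZ hR.leT
  intro f α hf hfe
  obtain ⟨e', he', hel, her⟩ := c.chain_symm he
  obtain ⟨k, hk, hkl, -⟩ := haP.symm
  have hi := (c.chain_mmap he).iso.comp haP
  have hc : Chain θ D Z Eb p R₁ R₁ fun y => a (e (f (e' (k y)))) :=
    c.chain_transport ha (.comp (.comp he' hf) he) (fun y => ⟨haP.surj, fun ⟨x, hx, e⟩ => e ▸ haP.mem hx⟩)
      (fun y => ⟨haP.surj, fun ⟨x, hx, e⟩ => e ▸ haP.mem hx⟩) fun x hx => by rw [hkl x hx]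
  obtain ⟨β, -, hβe⟩ := (c.chain_mmap hc).iso.toAut
  obtain ⟨g, hg, hgl, -⟩ := hi.symm
  obtain ⟨Φ, hΦ⟩ := exists_transp hi
  have hgood := c.autGood_transp hR1 hg (hΦ.symm hi hgl) (h1 _ β hc hβe)
  have e0 : Φ α = β := hΦ.eq hi fun x hx => by
    rw [hβe]
    show a (e (f (e' (k (a (e x)))))) = _
    rw [hkl _ ((c.chain_mmap he).iso.mem x.2), hel x x.2, hfe]
  rw [← e0] at hgood
  simpa using hgood

theorem autGroup_liftSystem (hR : InH θ Z Eb R) : c.liftSystem.autGroup R = autGood θ D Z Eb p R := by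
  refine le_antisymm (fun α hα => ?_) fun α hα => ?_
  · obtain ⟨f, hf, hfe⟩ := isIso_of_aut hR.leT hα
    exact c.goodAt hR f α (c.chain_of_liftSystem_iso hf hR.leZ) hfe
  · obtain ⟨f, hf, hfe⟩ := isIso_of_aut hR.le_S (c.autM_le hR.leT (c.autGood_le hR hα))
    obtain ⟨β, hβ, hβe⟩ := (c.liftSystem_iso_of_chain (c.chain_of_autGood hR hα hfe)).toAut
    rwa [show α = β from MulEquiv.ext fun x => Subtype.ext ((hfe x).trans (hβe x).symm)]

/-- The receptive property in terms of chains. -/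
theorem recv_fn (hR : InH θ Z Eb R) (hn : D.IsFullyNormalized R) (hf : Chain θ D Z Eb p P R f)
    {N : Subgroup Ω} (hPN : P ≤ N) (hN : N ≤ normalizerIn 𝕋 P)
    (hcond : ∀ t ∈ N, ∃ u ∈ 𝕋, ∀ x ∈ P, f (t * x * t⁻¹) = u * f x * u⁻¹) :
    ∃ Q g, Chain θ D Z Eb p N Q g ∧ ∀ x ∈ P, g x = f x := by
  obtain ⟨e₀, L, he₀, hL, heR⟩ := c.exists_chain_move hR hn hf
  have hi := (c.chain_mmap he₀).iso
  have hZP := (c.chain_mmap hf).leZ
  obtain ⟨L₀, hL₀, hL₀le, hL₀m⟩ := c.chain_restrict he₀ hN (hZP.trans hPN)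
  have hP₀ : Chain θ D Z Eb p P R e₀ := c.chain_restrict' he₀ (hPN.trans hN) hZP heR
  obtain ⟨k, hk, hkl, -⟩ := c.chain_symm hP₀
  obtain ⟨g, -, hge⟩ := (c.chain_mmap (.comp hk hf)).iso.toAut
  have hgG : g ∈ autGood θ D Z Eb p R := c.goodAt hR _ g (.comp hk hf) hge
  haveI := finite_of_le hR.le_S
  have hgval : ∀ (x : Ω) (_ : x ∈ P) (hm : e₀ x ∈ R), ((g ⟨e₀ x, hm⟩ : R) : Ω) = f x := fun x hx hm => by
    rw [hge]
    show f (k (e₀ x)) = f x
    rw [hkl x hx]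
  have hRL₀ : R ≤ L₀ := fun r hr => by
    obtain ⟨x, hx, e⟩ := (heR r).mp hr
    exact (hL₀m r).mpr ⟨x, hPN hx, e⟩
  obtain ⟨Q, e, he, her⟩ := c.extProp_fn hR hn g hgG L₀ hRL₀ (hL₀le.trans hL) fun l hl hln => by
    obtain ⟨t, ht, rfl⟩ := (hL₀m l).mp hl
    obtain ⟨u, hu, hue⟩ := hcond t ht
    have hmem : ∀ x ∈ P, e₀ x ∈ R := fun x hx => (heR _).mpr ⟨x, hx, rfl⟩
    have hval : ∀ x ∈ P, ∀ hm : e₀ x ∈ R,
        (((g * cAut R (e₀ t) hln * g⁻¹) (g ⟨e₀ x, hm⟩) : R) : Ω) = u * f x * u⁻¹ := fun x hx hm => by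
      have htx : t * x * t⁻¹ ∈ P := (Subgroup.mem_normalizer_iff.mp (hN ht).2 x).mp hx
      rw [MulAut.mul_apply, MulAut.mul_apply, MulAut.inv_apply_self, ← hue x hx, ← hgval _ htx (hmem _ htx)]
      congr 2
      apply Subtype.ext
      exact (hi.apply_conj (hN ht) (hN (hPN hx))).symm
    have hun : u ∈ Subgroup.normalizer (R : Set Ω) := by
      refine Subgroup.mem_normalizer_fintype fun y hy => ?_
      obtain ⟨x, hx, e⟩ := (heR _).mp (g⁻¹ ⟨y, hy⟩).2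
      have hm := hmem x hx
      have hy' : g ⟨e₀ x, hm⟩ = ⟨y, hy⟩ := by
        rw [show (⟨e₀ x, hm⟩ : R) = g⁻¹ ⟨y, hy⟩ from Subtype.ext e, MulAut.apply_inv_self]
      have h1 := hval x hx hm
      rw [← hgval x hx hm, hy'] at h1
      exact h1 ▸ SetLike.coe_mem _
    refine mem_autInducedBy_iff.mpr ⟨u, hu, hun, fun r => ?_⟩
    obtain ⟨x, hx, e⟩ := (heR _).mp (g⁻¹ r).2
    have hm := hmem x hx
    have hr : g ⟨e₀ x, hm⟩ = r := by
      rw [show (⟨e₀ x, hm⟩ : R) = g⁻¹ r from Subtype.ext e, MulAut.apply_inv_self]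
    have h1 := hval x hx hm
    rwa [← hgval x hx hm, hr] at h1
  refine ⟨Q, _, .comp hL₀ he, fun x hx => ?_⟩
  have hm : e₀ x ∈ R := (heR _).mpr ⟨x, hx, rfl⟩
  exact (her ⟨e₀ x, hm⟩).trans (hgval x hx hm)

/-- A member of the family is conjugate to one where the axioms hold. -/
theorem exists_good_conj (hP : InH θ Z Eb P) :
    ∃ Q, c.liftSystem.IsConj P Q ∧ c.liftSystem.IsFullyAutomized p Q ∧ c.liftSystem.IsReceptive Q := by
  obtain ⟨R, N', h, hn, hh, -⟩ := c.exists_move hP.le_S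
  obtain ⟨a, P₁, e, ha, he, haP, -⟩ := c.exists_frattini_mod hh hP.leZ hP.leT
  have hR := c.inH_image hP hh
  have hP1 := c.inH_image hP (c.chain_mmap he).iso
  have himg : ∀ y, y ∈ R ↔ ∃ x ∈ P₁, a x = y := fun y => ⟨haP.surj, fun ⟨x, hx, e⟩ => e ▸ haP.mem hx⟩
  obtain ⟨k, hk, hkl, hkr⟩ := ha.symm
  have hkR : ∀ y, y ∈ P₁ ↔ ∃ x ∈ R, k x = y := fun y =>
    ⟨fun hy => ⟨a y, haP.mem hy, hkl y (hP1.leT hy)⟩, fun ⟨x, hx, e⟩ => by
      obtain ⟨w, hw, rfl⟩ := haP.surj hx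
      rw [hkl w (hP1.leT hw)] at e
      exact e ▸ hw⟩
  have hkP := hk.restrict' hR.leT hkR
  refine ⟨P₁, (c.liftSystem_iso_of_chain he).isConj, ?_, ?_⟩
  · -- fully automised
    haveI := finite_of_le hR.le_S
    haveI := finite_of_le hP1.le_S
    haveI := finite_mulAut_of_le hR.le_S
    haveI := finite_mulAut_of_le hP1.le_S
    obtain ⟨W, hW⟩ : ∃ W : Sylow p (autGood θ D Z Eb p R),
        (W : Subgroup (autGood θ D Z Eb p R)) = (autInducedBy 𝕋 R).subgroupOf (autGood θ D Z Eb p R) := by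
      rw [c.autGood_fn hR hn]
      exact c.autG_sylow hR hn
    obtain ⟨Φ, hΦ⟩ := exists_transp haP
    have hΦ' : IsTransp R P₁ k Φ.symm := hΦ.symm haP fun x hx => hkl x (hP1.leT hx)
    have e1 : (autGood θ D Z Eb p P₁).map Φ.toMonoidHom = autGood θ D Z Eb p R := by
      refine le_antisymm ?_ fun b hb => ⟨Φ.symm b, c.autGood_transp hR hkP hΦ' hb, Φ.apply_symm_apply b⟩
      rintro _ ⟨b, hb, rfl⟩
      exact c.autGood_transp hP1 haP hΦ hb
    have key : ∀ {A B : Subgroup Ω} {u : Ω → Ω} {Ψ : MulAut A ≃* MulAut B}, D.IsIso A B u → D.IsIso 𝕋 𝕋 u →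
        A ≤ 𝕋 → IsTransp A B u Ψ → ∀ b ∈ autInducedBy 𝕋 A, Ψ b ∈ autInducedBy 𝕋 B := by
      intro A B u Ψ hu huT hA hΨ b hb
      obtain ⟨t, ht, htn, hte⟩ := mem_autInducedBy_iff.mp hb
      obtain ⟨hn', he'⟩ := c.transp_autInduced hu hΨ huT (fun _ _ => rfl) hA ht htn
      rw [show b = cAut A t htn from MulEquiv.ext fun x => Subtype.ext (hte x), he']
      exact mem_autInducedBy_iff.mpr ⟨_, huT.mem ht, hn', fun _ => rfl⟩
    have e2 : (autInducedBy 𝕋 P₁).map Φ.toMonoidHom = autInducedBy 𝕋 R := by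
      refine le_antisymm ?_ fun b hb => ⟨Φ.symm b, key hkP hk hR.leT hΦ' b hb, Φ.apply_symm_apply b⟩
      rintro _ ⟨b, hb, rfl⟩
      exact key haP ha hP1.leT hΦ b hb
    have hidx : ¬ p ∣ ((autInducedBy 𝕋 P₁).subgroupOf (autGood θ D Z Eb p P₁)).index := by
      change ¬ p ∣ (autInducedBy 𝕋 P₁).relIndex (autGood θ D Z Eb p P₁)
      rw [← Subgroup.relIndex_map_map_of_injective _ _ (f := Φ.toMonoidHom) Φ.injective, e1, e2]
      show ¬ p ∣ ((autInducedBy 𝕋 R).subgroupOf (autGood θ D Z Eb p R)).index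
      rw [← hW]
      exact W.not_dvd_index
    have hp : IsPGroup p ((autInducedBy 𝕋 P₁).subgroupOf (autGood θ D Z Eb p P₁)) :=
      (isPGroup_autInducedBy (c.hS.to_le c.T_le)).comap_of_injective _ Subtype.coe_injective
    refine ⟨hP1.leT, ?_⟩
    rw [c.autGroup_liftSystem hP1]
    exact ⟨hp.toSylow hidx, rfl⟩
  · -- receptive
    refine ⟨hP1.leT, fun P' φ hφ hr => ?_⟩
    have hiso : c.liftSystem.IsIso P' P₁ (funOf φ) := ⟨φ, hφ, hr, funOf_apply φ⟩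
    have hZP' : Z ≤ P' := by
      obtain ⟨g, hg, -, -⟩ := (hiso.mono c.liftSystem_sub).symm
      exact c.Z_le_image hg hP1.leZ
    have hch := c.chain_of_liftSystem_iso hiso hZP'
    have hP'T : P' ≤ 𝕋 := hiso.le_left
    obtain ⟨P₂, hP₂, -, hP₂m⟩ := ha.restrict hP'T
    have hch2 : Chain θ D Z Eb p P₂ R fun y => a (funOf φ (k y)) :=
      c.chain_transport ha hch hP₂m himg fun x hx => by rw [hkl x (hP'T hx)]
    set N := extender 𝕋 P' φ
    have hφT : ∀ x, φ x ∈ 𝕋 := c.liftSystem.apply_mem hφ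
    have hNmem : ∀ t ∈ N, t ∈ 𝕋 ∧ t ∈ Subgroup.normalizer (P' : Set Ω) ∧
        ∃ u ∈ 𝕋, ∀ x ∈ P', funOf φ (t * x * t⁻¹) = u * funOf φ x * u⁻¹ := by
      intro t ht
      obtain ⟨h1, h2, u, hu, hue⟩ := (mem_extender_iff hφT).mp ht
      refine ⟨h1, h2, u, hu, fun x hx => ?_⟩
      have hm := (Subgroup.mem_normalizer_iff.mp h2 x).mp hx
      rw [← funOf_apply φ ⟨_, hm⟩, ← funOf_apply φ ⟨x, hx⟩]
      exact hue ⟨x, hx⟩ hm
    have hNT : N ≤ 𝕋 := fun t ht => (hNmem t ht).1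
    have hPN : P' ≤ N := fun t ht => (mem_extender_iff hφT).mpr ⟨hP'T ht, Subgroup.le_normalizer ht,
      φ ⟨t, ht⟩, hφT _, fun x hx => by
        rw [← map_inv, ← map_mul, ← map_mul]
        exact congrArg φ (Subtype.ext rfl)⟩
    obtain ⟨N₂, hN₂, -, hN₂m⟩ := ha.restrict hNT
    obtain ⟨Q₂, g₂, hg₂, hg₂e⟩ := c.recv_fn hR hn hch2 (N := N₂)
      (fun y hy => by
        obtain ⟨x, hx, rfl⟩ := (hP₂m y).mp hy
        exact (hN₂m _).mpr ⟨x, hPN hx, rfl⟩)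
      (fun y hy => by
        obtain ⟨t, ht, rfl⟩ := (hN₂m y).mp hy
        exact ⟨ha.mem (hNT ht), ha.mem_normalizer hP'T hP₂m (hNT ht) (hNmem t ht).2.1⟩)
      (fun y hy => by
        obtain ⟨t, ht, rfl⟩ := (hN₂m y).mp hy
        obtain ⟨-, htn, u, hu, hue⟩ := hNmem t ht
        refine ⟨a u, ha.mem hu, fun z hz => ?_⟩
        obtain ⟨x, hx, rfl⟩ := (hP₂m z).mp hz
        have htx := (Subgroup.mem_normalizer_iff.mp htn x).mp hx
        rw [← ha.apply_conj (hNT ht) (hP'T hx), hkl _ (hP'T htx), hkl x (hP'T hx), hue x hx,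
          ha.apply_conj hu (hP1.leT (hiso.mem hx))])
    have hQ₂T : Q₂ ≤ 𝕋 := c.chain_le_T hg₂
    obtain ⟨Q₃, -, -, hQ₃⟩ := hk.restrict hQ₂T
    have hNN : ∀ y, y ∈ N ↔ ∃ x ∈ N₂, k x = y := fun y =>
      ⟨fun hy => ⟨a y, (hN₂m _).mpr ⟨y, hy, rfl⟩, hkl y (hNT hy)⟩, fun ⟨x, hx, e⟩ => by
        obtain ⟨w, hw, rfl⟩ := (hN₂m x).mp hx
        rw [hkl w (hNT hw)] at e
        exact e ▸ hw⟩
    have hfin : Chain θ D Z Eb p N Q₃ fun y => k (g₂ (a y)) :=
      c.chain_transport hk hg₂ hNN hQ₃ fun x hx => by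
        obtain ⟨w, hw, rfl⟩ := (hN₂m x).mp hx
        rw [hkl w (hNT hw)]
    obtain ⟨ψ, hψ, -, hψe⟩ := c.liftSystem_iso_of_chain hfin
    refine ⟨ψ, hψ, fun x hxP hxN => ?_⟩
    rw [hψe ⟨x, hxN⟩]
    show k (g₂ (a x)) = _
    rw [hg₂e _ ((hP₂m _).mpr ⟨x, hxP, rfl⟩), hkl x (hP'T hxP), hkl _ (hP1.leT (hiso.mem hxP)),
      ← funOf_apply φ ⟨x, hxP⟩]

/-- **The lifted system is saturated.** -/
theorem liftSystem_saturated : c.liftSystem.IsSaturated p := by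
  haveI := c.finiteT
  haveI := finite_of_le (c.T_le : 𝕋 ≤ S)
  refine Family.isSaturated_of_family (c.hS.to_le c.T_le) {P | InH θ Z Eb P}
    (fun P hP Q hQ => ?_) (fun P hP => c.exists_good_conj hP) (fun E hE => ?_) (fun P hP hPH => ?_)
  · obtain ⟨φ, hφ, hr⟩ := hQ
    exact c.inH_image hP (IsIso.mono (E := c.liftSystem) ⟨φ, hφ, hr, funOf_apply φ⟩ c.liftSystem_sub)
  · -- generation
    have hall : ∀ {P Q : Subgroup Ω} {f : Ω → Ω}, Chain θ D Z Eb p P Q f → E.IsIso P Q f := by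
      intro P Q f hf
      induction hf with
      | @base P Q R f α hR hα he hZ hPR hQ =>
        obtain ⟨φ, hφ, hr, hφe⟩ := c.liftSystem_iso_of_chain (c.chain_of_autGood hR hα he)
        exact IsIso.restrict' (E := E) ⟨φ, hE R hR hφ, hr, hφe⟩ hPR hQ
      | comp _ _ ih1 ih2 => exact ih1.comp ih2
      | congr _ he ih => exact ih.congr he
    rintro P φ ⟨P', Q, f, hP, hf, he⟩
    obtain ⟨R', hR', -⟩ := (hall hf).restrict hP
    exact mem_hom_of_isIso hR' he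
  · -- centric subgroups outside the family
    have hPT : P ≤ 𝕋 := hP.1
    have hPS : P ≤ S := hPT.trans c.T_le
    have hcen := c.hZ.le_center.trans D.center_le_centralizer
    have hZP : Z ≤ P := fun z hz => hP.centralizerIn_le_self ⟨c.Z_le_pre T' hz,
      Subgroup.mem_centralizer_iff.mpr fun y hy => Subgroup.mem_centralizer_iff.mp (hcen hz) y (hPS hy)⟩
    have hnc : ¬ Eb.IsCentric (bar θ P) := fun hc => hPH ⟨hZP, hPT, hc⟩
    simp only [IsCentric, not_and, not_forall] at hnc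
    obtain ⟨Qb, ⟨φ, hφ, hr⟩, hQb⟩ := hnc (c.bar_le_T hPT)
    obtain ⟨y, hy, hyQ⟩ := SetLike.not_le_iff_exists.mp hQb
    have hbi : Eb.IsIso (bar θ P) Qb (funOf φ) := ⟨φ, hφ, hr, funOf_apply φ⟩
    have hQbS : Qb ≤ S' := hbi.le_right.trans c.Tb_closed.1
    set Q := preimageAlong θ Qb
    obtain ⟨m, hm, hme⟩ := c.exists_lift (P := P) (Q := Q) hPS hZP preimageAlong_le (c.Z_le_pre _)
      (by rw [c.bar_pre hQbS]; exact hbi.mono c.invariant.1)
    obtain ⟨g, hg, -⟩ := c.exists_chain (θ := θ) (P := P) (Q := Q) (f := m)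
      ⟨hZP, hPT, hm, _, by rw [c.bar_pre hQbS]; exact hbi, hme⟩
    have hQT : Q ≤ 𝕋 := c.chain_le_T hg
    refine ⟨Q, (c.liftSystem_iso_of_chain hg).isConj, fun hle => hyQ ?_⟩
    obtain ⟨t, ht, rfl⟩ := (mem_bar c.T_le).mp ((c.bar_pre c.Tb_closed.1).ge hy.1)
    have htS := c.T_le ht
    have htriv : ∀ x ∈ Q, thetaF θ (t * x * t⁻¹) = thetaF θ x := fun x hx => by
      rw [thetaF_conj htS (c.mem_pre.mp hx).1, ← Subgroup.mem_centralizer_iff.mp hy.2 _ (c.mem_pre.mp hx).2,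
        mul_inv_cancel_right]
    haveI := finite_of_le (hQT.trans c.T_le)
    have htn : t ∈ Subgroup.normalizer (Q : Set Ω) := Subgroup.mem_normalizer_fintype fun x hx =>
      c.mem_pre.mpr ⟨S.mul_mem (S.mul_mem htS (c.mem_pre.mp hx).1) (S.inv_mem htS),
        (htriv x hx).symm ▸ (c.mem_pre.mp hx).2⟩
    have htA : cAut Q t htn ∈ c.liftSystem.autGroup Q :=
      autInducedBy_le_autGroup hQT (mem_autInducedBy_iff.mpr ⟨t, ht, htn, fun _ => rfl⟩)
    have htK : cAut Q t htn ∈ autK D Z Q := by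
      refine (c.cAut_mem_autK (hQT.trans c.T_le) htS htn).mpr ?_
      exact htriv
    set A := c.liftSystem.autGroup Q
    haveI : ((autK D Z Q).comap A.subtype).Normal := ⟨fun k hk a =>
      c.autK_normal (hQT.trans c.T_le) hk (c.liftSystem_sub.isIso_autGroup hQT a.2)⟩
    have hop : cAut Q t htn ∈ Family.opAut c.liftSystem p Q := ⟨⟨_, htA⟩,
      CfsgLib.le_pCore ((c.autK_isPGroup (hQT.trans c.T_le)).comap_of_injective _ Subtype.coe_injective)
        (Subgroup.mem_subgroupOf.mpr htK), rfl⟩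
    have hInn := hle ⟨mem_autInducedBy_iff.mpr ⟨t, ht, htn, fun _ => rfl⟩, hop⟩
    rw [inn_eq_autInducedBy] at hInn
    obtain ⟨q, hq, hqn, hqe⟩ := mem_autInducedBy_iff.mp hInn
    have hmem : q⁻¹ * t ∈ centralizerIn 𝕋 Q := by
      refine ⟨Subgroup.mul_mem _ (Subgroup.inv_mem _ (hQT hq)) ht, Subgroup.mem_centralizer_iff.mpr fun x hx => ?_⟩
      have h1 : t * x * t⁻¹ = q * x * q⁻¹ := hqe ⟨x, hx⟩
      calc x * (q⁻¹ * t) = q⁻¹ * (q * x * q⁻¹) * t := by group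
        _ = q⁻¹ * t * x := by rw [← h1]; group
    have htQ : t ∈ Q := by
      have := Q.mul_mem hq ((IsCentric.of_isConj hP (c.liftSystem_iso_of_chain hg).isConj).centralizerIn_le_self hmem)
      rwa [mul_inv_cancel_left] at this
    exact (c.mem_pre.mp htQ).2

end Ctx

end Cfsg.FusionSystem.CentralLift
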