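import Cfsg.Agent.Lib.Fusion.Factor
import Cfsg.Agent.Lib.Fusion.Center
import Cfsg.Agent.Lib.Fusion.Normal
import Cfsg.Agent.Lib.Fusion.PrimeResidual.Invariance
import Cfsg.Agent.Lib.Fusion.SubCent.Extension
import Cfsg.Agent.S5134

/-!
Maps of a fusion system read modulo a central subgroup.
-/

set_option autoImplicit false
set_option linter.unusedSectionVars false
set_option linter.style.haveILetI false

namespace Cfsg.FusionSystem.CentralLift

open Cfsg.FusionSystem.SubCent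

universe u v

variable {Ω : Type u} [Group Ω] {Ω' : Type v} [Group Ω'] {S Z : Subgroup Ω} {S' T' : Subgroup Ω'}
  {θ : S →* Ω'} {D : FusionSystem S} {Db : FusionSystem S'} {Eb : FusionSystem T'} {p : ℕ}

open Classical in
/-- The homomorphism as a function on the ambient group. -/
noncomputable def thetaF (θ : S →* Ω') : Ω → Ω' := fun x => if h : x ∈ S then θ ⟨x, h⟩ else 1

theorem thetaF_apply {x : Ω} (h : x ∈ S) : thetaF θ x = θ ⟨x, h⟩ := by
  classical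
  simp [thetaF, h]

theorem thetaF_mul {x y : Ω} (hx : x ∈ S) (hy : y ∈ S) : thetaF θ (x * y) = thetaF θ x * thetaF θ y := by
  rw [thetaF_apply hx, thetaF_apply hy, thetaF_apply (S.mul_mem hx hy), ← map_mul]
  rfl

theorem thetaF_inv {x : Ω} (hx : x ∈ S) : thetaF θ x⁻¹ = (thetaF θ x)⁻¹ := by
  rw [thetaF_apply hx, thetaF_apply (S.inv_mem hx), ← map_inv]
  rfl

theorem thetaF_conj {x y : Ω} (hx : x ∈ S) (hy : y ∈ S) :
    thetaF θ (x * y * x⁻¹) = thetaF θ x * thetaF θ y * (thetaF θ x)⁻¹ := by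
  rw [thetaF_mul (S.mul_mem hx hy) (S.inv_mem hx), thetaF_mul hx hy, thetaF_inv hx]

/-- The data: a saturated system, a central subgroup, the factor system, a normal subsystem of it. -/
structure Ctx (p : ℕ) (D : FusionSystem S) (Z : Subgroup Ω) (θ : S →* Ω') (Db : FusionSystem S')
    (Eb : FusionSystem T') : Prop where
  hS : IsPGroup p S
  hD : D.IsSaturated p
  hZ : D.IsCentral Z
  hfac : D.IsFactorSystem Z θ Db
  hEb : Eb.IsNormalIn Db p

/-- The image of a subgroup. -/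
abbrev bar (θ : S →* Ω') (P : Subgroup Ω) : Subgroup Ω' := imageAlong θ P

theorem mem_bar {P : Subgroup Ω} (hP : P ≤ S) {y : Ω'} : y ∈ bar θ P ↔ ∃ x ∈ P, thetaF θ x = y := by
  constructor
  · rintro ⟨x, hx, rfl⟩
    exact ⟨x, hx, thetaF_apply x.2⟩
  · rintro ⟨x, hx, rfl⟩
    exact ⟨⟨x, hP hx⟩, hx, (thetaF_apply (hP hx)).symm⟩

theorem thetaF_mem_bar {P : Subgroup Ω} (hP : P ≤ S) {x : Ω} (hx : x ∈ P) : thetaF θ x ∈ bar θ P :=
  (mem_bar hP).mpr ⟨x, hx, rfl⟩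

theorem bar_mono {P Q : Subgroup Ω} (h : P ≤ Q) : bar θ P ≤ bar θ Q :=
  Subgroup.map_mono fun _ hx => h hx

namespace Ctx

variable (c : Ctx p D Z θ Db Eb)
include c

theorem invariant : Eb.IsInvariantIn Db := c.hEb.1.2.2

theorem sat : Eb.IsSaturated p := c.hEb.1.1

theorem satDb : Db.IsSaturated p := c.hEb.1.2.1

theorem Tb_closed : Db.StronglyClosed T' := c.invariant.2.1

theorem Z_le : Z ≤ S := c.hZ.1

theorem thetaF_eq_one {x : Ω} (hx : x ∈ S) : thetaF θ x = 1 ↔ x ∈ Z := by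
  rw [thetaF_apply hx]; exact c.hfac.2.1 ⟨x, hx⟩

theorem thetaF_eq {x y : Ω} (hx : x ∈ S) (hy : y ∈ S) : thetaF θ x = thetaF θ y ↔ x⁻¹ * y ∈ Z := by
  rw [← c.thetaF_eq_one (S.mul_mem (S.inv_mem hx) hy), thetaF_mul (S.inv_mem hx) hy, thetaF_inv hx,
    inv_mul_eq_one]

theorem range_eq : θ.range = S' := c.hfac.2.2.1

theorem bar_le (P : Subgroup Ω) : bar θ P ≤ S' := by
  rintro _ ⟨x, -, rfl⟩
  exact c.range_eq.le ⟨x, rfl⟩

theorem isPGroup' : IsPGroup p S' := by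
  rw [← c.range_eq]
  exact c.hS.of_surjective θ.rangeRestrict θ.rangeRestrict_surjective

theorem finite' [Finite S] : Finite S' := by
  rw [← c.range_eq]
  exact Finite.of_surjective θ.rangeRestrict θ.rangeRestrict_surjective

theorem mem_pre {P' : Subgroup Ω'} {x : Ω} : x ∈ preimageAlong θ P' ↔ x ∈ S ∧ thetaF θ x ∈ P' := by
  rw [mem_preimageAlong]
  exact ⟨fun ⟨h, h'⟩ => ⟨h, by rwa [thetaF_apply h]⟩, fun ⟨h, h'⟩ => ⟨h, by rwa [← thetaF_apply h]⟩⟩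

theorem Z_le_pre (P' : Subgroup Ω') : Z ≤ preimageAlong θ P' := le_preimageAlong c.hfac.2.1 c.Z_le

theorem pre_bar {P : Subgroup Ω} (hZP : Z ≤ P) (hP : P ≤ S) : preimageAlong θ (bar θ P) = P := by
  ext x
  rw [c.mem_pre]
  constructor
  · rintro ⟨hx, h⟩
    obtain ⟨y, hy, he⟩ := (mem_bar hP).mp h
    have := P.mul_mem hy (hZP ((c.thetaF_eq (hP hy) hx).mp he))
    rwa [mul_inv_cancel_left] at this
  · exact fun hx => ⟨hP hx, thetaF_mem_bar hP hx⟩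

theorem bar_pre {P' : Subgroup Ω'} (hP' : P' ≤ S') : bar θ (preimageAlong θ P') = P' := by
  ext y
  rw [mem_bar preimageAlong_le]
  constructor
  · rintro ⟨x, hx, rfl⟩
    exact (c.mem_pre.mp hx).2
  · intro hy
    obtain ⟨x, hx, hxS, e⟩ := exists_mem_preimageAlong (hP'.trans c.range_eq.ge) ⟨y, hy⟩
    exact ⟨x, hx, (thetaF_apply hxS).trans e⟩

theorem bar_le_iff {P Q : Subgroup Ω} (hP : P ≤ S) (hQ : Q ≤ S) (hZQ : Z ≤ Q) :
    bar θ P ≤ bar θ Q ↔ P ≤ Q := by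
  refine ⟨fun h x hx => ?_, bar_mono⟩
  rw [← c.pre_bar hZQ hQ, c.mem_pre]
  exact ⟨hP hx, h (thetaF_mem_bar hP hx)⟩

theorem bar_inj {P Q : Subgroup Ω} (hP : P ≤ S) (hQ : Q ≤ S) (hZP : Z ≤ P) (hZQ : Z ≤ Q)
    (h : bar θ P = bar θ Q) : P = Q :=
  le_antisymm ((c.bar_le_iff hP hQ hZQ).mp h.le) ((c.bar_le_iff hQ hP hZP).mp h.ge)

/-- The preimage of the group of the subsystem. -/
theorem T_le : preimageAlong θ T' ≤ S := preimageAlong_le

theorem bar_le_T {P : Subgroup Ω} (hP : P ≤ preimageAlong θ T') : bar θ P ≤ T' :=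
  (bar_mono hP).trans (c.bar_pre c.Tb_closed.1).le

theorem le_T {P : Subgroup Ω} (hP : P ≤ S) (h : bar θ P ≤ T') : P ≤ preimageAlong θ T' :=
  fun x hx => c.mem_pre.mpr ⟨hP hx, h (thetaF_mem_bar hP hx)⟩

theorem fix_Z {P Q : Subgroup Ω} {f : Ω → Ω} (h : D.IsIso P Q f) {z : Ω} (hz : z ∈ Z) (hzP : z ∈ P) :
    f z = z := by
  obtain ⟨φ, hφ, -, he⟩ := h
  rw [← he ⟨z, hzP⟩]
  exact apply_eq_self_of_isConjElt hφ hzP fun y hy => c.hZ.isConjElt_eq hz hy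

theorem Z_le_image {P Q : Subgroup Ω} {f : Ω → Ω} (h : D.IsIso P Q f) (hZP : Z ≤ P) : Z ≤ Q :=
  fun z hz => c.fix_Z h hz (hZP hz) ▸ h.mem (hZP hz)

/-- A map of the system extends over `Z`. -/
theorem exists_ext {P Q : Subgroup Ω} {f : Ω → Ω} (h : D.IsIso P Q f) :
    ∃ g Q', D.IsIso (P ⊔ Z) Q' g ∧ ∀ x ∈ P, g x = f x := by
  obtain ⟨φ, hφ, -, he⟩ := h
  obtain ⟨ψ, hψ, hψe, -⟩ := c.hZ.2 P φ hφ
  refine ⟨_, _, isIso_funOf hψ, fun x hx => ?_⟩
  rw [← funOf_apply ψ ⟨x, Subgroup.mem_sup_left hx⟩, ← he ⟨x, hx⟩]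
  exact hψe ⟨x, hx⟩

/-- The induced map. -/
theorem exists_bar {P Q : Subgroup Ω} {f : Ω → Ω} [Finite S] [Fact p.Prime] (h : D.IsIso P Q f) :
    ∃ fb, Db.IsIso (bar θ P) (bar θ Q) fb ∧ ∀ x ∈ P, fb (thetaF θ x) = thetaF θ (f x) := by
  have hmorph := Cfsg.Agent.S5134.result p c.hS D c.hD Z (c.hZ.isNormal.stronglyClosed) θ Db c.hfac
  obtain ⟨φ, hφ, hr, he⟩ := id h
  obtain ⟨φ', hφ', hP, hφS, hP', hφe⟩ := hmorph.1.2 P φ hφ
  have hval : ∀ x ∈ P, funOf φ' (thetaF θ x) = thetaF θ (f x) := fun x hx => by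
    rw [thetaF_apply (hP hx), ← funOf_apply φ' ⟨_, hP' ⟨x, hx⟩⟩, hφe ⟨x, hx⟩, ← he ⟨x, hx⟩,
      thetaF_apply (hφS ⟨x, hx⟩)]
  refine ⟨funOf φ', ?_, hval⟩
  have e : φ'.range = bar θ Q := by
    ext y
    rw [mem_bar h.le_right]
    constructor
    · intro hy
      obtain ⟨z, hz, rfl⟩ := (isIso_funOf hφ').surj hy
      obtain ⟨x, hx, rfl⟩ := (mem_bar h.le_left).mp hz
      exact ⟨f x, h.mem hx, (hval x hx).symm⟩
    · rintro ⟨w, hw, rfl⟩
      obtain ⟨x, hx, rfl⟩ := h.surj hw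
      rw [← hval x hx]
      exact (isIso_funOf hφ').mem (thetaF_mem_bar hP hx)
  exact e ▸ isIso_funOf hφ'

/-- Lifting a map of the factor system. -/
theorem exists_lift {P Q : Subgroup Ω} {fb : Ω' → Ω'} (hP : P ≤ S) (hZP : Z ≤ P) (hQ : Q ≤ S) (hZQ : Z ≤ Q)
    (h : Db.IsIso (bar θ P) (bar θ Q) fb) :
    ∃ f, D.IsIso P Q f ∧ ∀ x ∈ P, fb (thetaF θ x) = thetaF θ (f x) := by
  obtain ⟨φ', hφ', hr, he⟩ := id h
  obtain ⟨-, φ, hφ, hi⟩ := (c.hfac.2.2.2 _ φ').mp hφ'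
  have key : ∀ x ∈ preimageAlong θ (bar θ P), fb (thetaF θ x) = thetaF θ (funOf φ x) := fun x hx => by
    have hxS : x ∈ S := preimageAlong_le hx
    have hm : θ ⟨x, hxS⟩ ∈ bar θ P := by rw [← thetaF_apply hxS]; exact (c.mem_pre.mp hx).2
    rw [← funOf_apply φ ⟨x, hx⟩, thetaF_apply hxS, ← he ⟨_, hm⟩, thetaF_apply (D.apply_mem hφ _)]
    exact inducedAlong_apply_mem hφ hi ⟨x, hx⟩ hm
  have hiso : D.IsIso (preimageAlong θ (bar θ P)) φ.range (funOf φ) := isIso_funOf hφ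
  have hrange : φ.range = Q := by
    refine c.bar_inj hiso.le_right hQ (c.Z_le_image hiso (c.Z_le_pre _)) hZQ ?_
    ext y
    rw [mem_bar hiso.le_right]
    constructor
    · rintro ⟨w, hw, rfl⟩
      obtain ⟨x, hx, rfl⟩ := hiso.surj hw
      rw [← key x hx]
      exact h.mem (c.mem_pre.mp hx).2
    · intro hy
      obtain ⟨z, hz, rfl⟩ := h.surj hy
      obtain ⟨x, hx, rfl⟩ := (mem_bar hP).mp hz
      have hx' : x ∈ preimageAlong θ (bar θ P) := by rw [c.pre_bar hZP hP]; exact hx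
      exact ⟨_, hiso.mem hx', (key x hx').symm⟩
  generalize funOf φ = g at hiso key
  rw [hrange, c.pre_bar hZP hP] at hiso
  exact ⟨g, hiso, fun x hx => key x (by rw [c.pre_bar hZP hP]; exact hx)⟩

theorem T_closed [Finite S] [Fact p.Prime] : D.StronglyClosed (preimageAlong θ T') := by
  refine ⟨preimageAlong_le, fun P hP φ hφ x => ?_⟩
  obtain ⟨fb, hfb, hfe⟩ := c.exists_bar (isIso_funOf hφ)
  have hPS : P ≤ S := D.source_le hφ
  rw [funOf_apply φ x, c.mem_pre]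
  refine ⟨(isIso_funOf hφ).le_right ((isIso_funOf hφ).mem x.2), ?_⟩
  rw [← hfe _ x.2]
  exact c.Tb_closed.iso_mem hfb (thetaF_mem_bar hPS x.2) (c.bar_le_T hP (thetaF_mem_bar hPS x.2))

theorem card_bar [Finite S] {P : Subgroup Ω} (hZP : Z ≤ P) (hP : P ≤ S) :
    Nat.card P = Nat.card Z * Nat.card (bar θ P) := by
  let f : P →* Ω' := θ.comp (Subgroup.inclusion hP)
  have hr : f.range = bar θ P := by
    ext y
    constructor
    · rintro ⟨x, rfl⟩
      exact ⟨Subgroup.inclusion hP x, x.2, rfl⟩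
    · rintro ⟨x, hx, rfl⟩
      exact ⟨⟨x, hx⟩, rfl⟩
  have hk : f.ker = Z.subgroupOf P := by
    ext x
    exact c.hfac.2.1 _
  rw [← hr, ← Nat.card_congr (Subgroup.subgroupOfEquivOfLe hZP).toEquiv, ← hk, ← Subgroup.index_ker,
    Subgroup.card_mul_index]

theorem bar_normalizerIn [Finite S] {P : Subgroup Ω} (hP : P ≤ S) (hZP : Z ≤ P) :
    bar θ (normalizerIn (preimageAlong θ T') P) = normalizerIn T' (bar θ P) := by
  ext y
  constructor
  · intro hy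
    obtain ⟨n, hn, rfl⟩ := (mem_bar (normalizerIn_le.trans c.T_le)).mp hy
    have hnS : n ∈ S := c.T_le hn.1
    refine ⟨(c.mem_pre.mp hn.1).2, ?_⟩
    haveI := c.finite'
    haveI := finite_of_le (c.bar_le P)
    refine Subgroup.mem_normalizer_fintype fun w hw => ?_
    obtain ⟨x, hx, rfl⟩ := (mem_bar hP).mp hw
    rw [← thetaF_conj hnS (hP hx)]
    exact thetaF_mem_bar hP ((Subgroup.mem_normalizer_iff.mp hn.2 x).mp hx)
  · intro hy
    obtain ⟨n, hn, rfl⟩ := (mem_bar c.T_le).mp ((c.bar_pre c.Tb_closed.1).ge hy.1)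
    have hnS : n ∈ S := c.T_le hn
    refine thetaF_mem_bar (normalizerIn_le.trans c.T_le) ⟨hn, Subgroup.mem_normalizer_iff.mpr ?_⟩
    intro x
    constructor
    · intro hx
      rw [← c.pre_bar hZP hP, c.mem_pre, thetaF_conj hnS (hP hx)]
      exact ⟨S.mul_mem (S.mul_mem hnS (hP hx)) (S.inv_mem hnS),
        (Subgroup.mem_normalizer_iff.mp hy.2 _).mp (thetaF_mem_bar hP hx)⟩
    · intro hx
      have hxS : x ∈ S := by
        have := S.mul_mem (S.mul_mem (S.inv_mem hnS) (hP hx)) hnS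
        simpa [mul_assoc] using this
      have h2 := thetaF_mem_bar (θ := θ) hP hx
      rw [thetaF_conj hnS hxS] at h2
      rw [← c.pre_bar hZP hP, c.mem_pre]
      exact ⟨hxS, (Subgroup.mem_normalizer_iff.mp hy.2 _).mpr h2⟩

end Ctx

end Cfsg.FusionSystem.CentralLift
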